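import Cfsg.Agent.Fusion91.Basic

set_option autoImplicit false

/-! Basic tools for fusion systems: automizers, conjugation, p-group facts. -/

namespace Cfsg.Agent.Fusion92

open Cfsg Cfsg.FusionSystem Cfsg.Agent.Fusion91

variable {Ω : Type*} [Group Ω] {S : Subgroup Ω} {p : ℕ}

/-- The homomorphism `P →* Ω` underlying an automorphism of `P`. -/
abbrev autHom {P : Subgroup Ω} (α : MulAut P) : P →* Ω := P.subtype.comp α.toMonoidHom

theorem autHom_apply {P : Subgroup Ω} (α : MulAut P) (x : P) : autHom α x = ((α x : P) : Ω) := rfl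

theorem range_autHom {P : Subgroup Ω} (α : MulAut P) : (autHom α).range = P := by
  ext y
  constructor
  · rintro ⟨x, rfl⟩; exact (α x).2
  · intro hy
    exact ⟨α.symm ⟨y, hy⟩, by simp⟩

theorem mem_autGroup_iff (F : Cfsg.FusionSystem S) [Finite S] {P : Subgroup Ω} (hP : P ≤ S)
    {α : MulAut P} : α ∈ F.autGroup P ↔ autHom α ∈ F.Hom P := by
  refine ⟨fun h => ?_, fun h => Subgroup.subset_closure h⟩
  refine Subgroup.closure_induction (p := fun β _ => autHom β ∈ F.Hom P) (fun _ h => h) ?_ ?_ ?_ h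
  · exact subtype_mem F hP
  · intro a b _ _ ha hb
    exact F.comp_mem hb ha (fun x => (b x).2)
  · intro a _ ha
    obtain ⟨ψ, hψ, hi⟩ := F.inv_mem ha
    refine mem_congr F (range_autHom a) hψ fun x hx hQ => ?_
    have hh := hi (a.symm ⟨x, hQ⟩)
    simp only [autHom_apply, MulEquiv.apply_symm_apply] at hh
    exact hh.symm

theorem autHom_mem (F : Cfsg.FusionSystem S) [Finite S] {P : Subgroup Ω} (hP : P ≤ S)
    {α : MulAut P} (h : α ∈ F.autGroup P) : autHom α ∈ F.Hom P :=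
  (mem_autGroup_iff F hP).mp h

theorem mem_autInducedBy_iff {K P : Subgroup Ω} {α : MulAut P} :
    α ∈ autInducedBy K P ↔ ∃ g ∈ K, ∀ x : P, ((α x : P) : Ω) = g * (x : Ω) * g⁻¹ := by
  refine ⟨fun h => ?_, fun h => Subgroup.subset_closure h⟩
  refine Subgroup.closure_induction
    (p := fun (β : MulAut P) _ => ∃ g ∈ K, ∀ x : P, ((β x : P) : Ω) = g * (x : Ω) * g⁻¹)
    (fun _ h => h) ?_ ?_ ?_ h
  · exact ⟨1, K.one_mem, fun x => by simp⟩
  · rintro a b _ _ ⟨g, hg, ha⟩ ⟨k, hk, hb⟩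
    refine ⟨g * k, K.mul_mem hg hk, fun x => ?_⟩
    rw [MulAut.mul_apply, ha, hb]
    group
  · rintro a _ ⟨g, hg, ha⟩
    refine ⟨g⁻¹, K.inv_mem hg, fun x => ?_⟩
    have hh := ha (a⁻¹ x)
    rw [show a (a⁻¹ x) = x from MulAut.apply_inv_self P a x] at hh
    rw [hh]
    group

theorem normalizerIn_le (Q : Subgroup Ω) : normalizerIn S Q ≤ S := inf_le_left

theorem le_normalizerIn {Q : Subgroup Ω} (hQ : Q ≤ S) : Q ≤ normalizerIn S Q :=
  le_inf hQ Subgroup.le_normalizer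

theorem mem_centralizerIn {Q : Subgroup Ω} {x : Ω} :
    x ∈ centralizerIn S Q ↔ x ∈ S ∧ ∀ q ∈ Q, q * x = x * q :=
  Iff.rfl

theorem conj_mem_of_normalizer {U : Subgroup Ω} {g u : Ω}
    (hg : g ∈ Subgroup.normalizer (U : Set Ω)) (hu : u ∈ U) : g * u * g⁻¹ ∈ U :=
  (Subgroup.mem_normalizer_iff.mp hg u).mp hu

theorem conj_inv_mem_of_normalizer {U : Subgroup Ω} {g u : Ω}
    (hg : g ∈ Subgroup.normalizer (U : Set Ω)) (hu : u ∈ U) : g⁻¹ * u * g ∈ U := by
  simpa using conj_mem_of_normalizer (inv_mem hg) hu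

theorem mem_normalizer_of_conj_mem {U : Subgroup Ω} [Finite U] {g : Ω}
    (h : ∀ u ∈ U, g * u * g⁻¹ ∈ U) : g ∈ Subgroup.normalizer (U : Set Ω) := by
  have he : U.map (MulAut.conj g).toMonoidHom = U := by
    refine Subgroup.eq_of_le_of_card_ge ?_ ?_
    · rintro _ ⟨u, hu, rfl⟩; exact h u hu
    · exact (Nat.card_congr (U.equivMapOfInjective _ (MulAut.conj g).injective).toEquiv).le
  exact Subgroup.mem_normalizer_iff_map_conj_eq.mpr he

/-- A homomorphism on `R` carrying `U ≤ R` onto a subgroup `V` carries the normalizer of `U` into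
that of `V`. -/
theorem map_mem_normalizer {R U V : Subgroup Ω} {φ : R →* Ω} (hU : U ≤ R)
    (hV : (U.subgroupOf R).map φ = V) [Finite V] {x : R}
    (hx : (x : Ω) ∈ Subgroup.normalizer (U : Set Ω)) : φ x ∈ Subgroup.normalizer (V : Set Ω) := by
  refine mem_normalizer_of_conj_mem fun v hv => ?_
  rw [← hV] at hv ⊢
  obtain ⟨u, hu, rfl⟩ := hv
  exact ⟨x * u * x⁻¹, Subgroup.mem_subgroupOf.mpr (conj_mem_of_normalizer hx hu), by simp⟩

theorem finite_mulAut (P : Subgroup Ω) [Finite P] : Finite (MulAut P) :=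
  Finite.of_injective (fun e : MulAut P => (e : P → P)) DFunLike.coe_injective

theorem finite_autGroup (F : Cfsg.FusionSystem S) (P : Subgroup Ω) [Finite P] :
    Finite (F.autGroup P) :=
  have := finite_mulAut P
  inferInstance

theorem isPGroup_of_le (hS : IsPGroup p S) {P : Subgroup Ω} (h : P ≤ S) : IsPGroup p P :=
  hS.to_le h

/-- A nontrivial `p`-group has, above any proper subgroup, a maximal proper normal one. -/
theorem exists_maximal_above [Fact p.Prime] {R U : Subgroup Ω} [Finite R] (hR : IsPGroup p R)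
    (hUR : U ≤ R) (hne : U ≠ R) :
    ∃ R₀ : Subgroup Ω, U ≤ R₀ ∧ R₀ < R ∧ ∀ r ∈ R, ∀ x ∈ R₀, r * x * r⁻¹ ∈ R₀ := by
  have hne' : U.subgroupOf R ≠ ⊤ := fun h =>
    hne (le_antisymm hUR (Subgroup.subgroupOf_eq_top.mp h))
  obtain ⟨M, hM, hle⟩ := (eq_top_or_exists_le_coatom (U.subgroupOf R)).resolve_left hne'
  have : Group.IsNilpotent R := hR.isNilpotent
  have hn : M.Normal :=
    Subgroup.NormalizerCondition.normal_of_coatom M Group.normalizerCondition_of_isNilpotent hM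
  refine ⟨M.map R.subtype, ?_, ?_, ?_⟩
  · rw [← Subgroup.map_subgroupOf_eq_of_le hUR]
    exact Subgroup.map_mono hle
  · refine lt_of_le_of_ne (Subgroup.map_subtype_le M) fun h => hM.1 ?_
    rw [eq_top_iff]
    intro x _
    have : (x : Ω) ∈ M.map R.subtype := h.symm ▸ x.2
    obtain ⟨y, hy, hyx⟩ := this
    exact (Subtype.ext hyx : y = x) ▸ hy
  · rintro r hr _ ⟨x, hx, rfl⟩
    exact ⟨⟨r, hr⟩ * x * ⟨r, hr⟩⁻¹, hn.conj_mem x hx _, rfl⟩

/-- In a finite group an element of `p`-power order is conjugate into any Sylow `p`-subgroup. -/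
theorem exists_conj_mem_sylow {G : Type*} [Group G] [Finite G] [Fact p.Prime] (P : Sylow p G)
    {g : G} (hg : ∃ k : ℕ, g ^ (p ^ k) = 1) : ∃ h : G, h * g * h⁻¹ ∈ (P : Subgroup G) := by
  obtain ⟨k, hk⟩ := hg
  have hz : IsPGroup p (Subgroup.zpowers g) := by
    obtain ⟨m, -, hm⟩ := (Nat.dvd_prime_pow Fact.out).mp (orderOf_dvd_of_pow_eq_one hk)
    exact IsPGroup.of_card (n := m) (by rw [Nat.card_zpowers, hm])
  obtain ⟨Q, hQ⟩ := hz.exists_le_sylow
  obtain ⟨h, hh⟩ := MulAction.exists_smul_eq G Q P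
  refine ⟨h, ?_⟩
  have : h • Q = P := hh
  rw [← this, Sylow.smul_def]
  exact ⟨g, hQ (Subgroup.mem_zpowers g), rfl⟩

end Cfsg.Agent.Fusion92
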