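import Cfsg.Agent.Lib.Fusion.Saturation
import Cfsg.Agent.Lib.Fusion.Closed
import Cfsg.Agent.Fusion92.Basic

set_option autoImplicit false

/-! Every map of a saturated system agrees modulo a strongly closed subgroup `T` with a map defined
on the product with `T`. -/

namespace Cfsg.Agent.Fusion92

open Cfsg Cfsg.Agent.Fusion
open Cfsg.FusionSystem (normalizerIn centralizerIn)
open scoped Pointwise

variable {Ω : Type*} [Group Ω] {S : Subgroup Ω} {F : Cfsg.FusionSystem S} {p : ℕ} {T : Subgroup Ω}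

theorem closed_apply (hT : F.StronglyClosed T) {R : Subgroup Ω} {f : Ω → Ω} (hf : IsMap F R f)
    {x : Ω} (hx : x ∈ R) (hxT : x ∈ T) : f x ∈ T :=
  (stronglyClosed_iff.mp hT).2 R f hf x hx hxT

theorem conj_mem_closed (hT : F.StronglyClosed T) {g x : Ω} (hg : g ∈ S) (hx : x ∈ T) :
    g * x * g⁻¹ ∈ T :=
  closed_apply hT (isMap_conj (F := F) hT.1 hg) hx hx

theorem conj_inv_mem_closed (hT : F.StronglyClosed T) {g x : Ω} (hg : g ∈ S) (hx : x ∈ T) :
    g⁻¹ * x * g ∈ T := by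
  simpa using conj_mem_closed hT (S.inv_mem hg) hx

theorem le_normalizer_closed [Finite S] (hT : F.StronglyClosed T) :
    S ≤ Subgroup.normalizer (T : Set Ω) := by
  intro g hg
  have : Finite T := Fusion.finite_of_le hT.1
  exact Fusion92.mem_normalizer_of_conj_mem fun x hx => conj_mem_closed hT hg hx

theorem mem_sup_closed [Finite S] (hT : F.StronglyClosed T) {P : Subgroup Ω} (hP : P ≤ S) {z : Ω}
    (hz : z ∈ P ⊔ T) : ∃ x ∈ P, ∃ t ∈ T, z = x * t := by
  have : z ∈ (↑(P ⊔ T) : Set Ω) := hz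
  rw [Subgroup.coe_mul_of_left_le_normalizer_right P T (hP.trans (le_normalizer_closed hT))] at this
  obtain ⟨x, hx, t, ht, rfl⟩ := this
  exact ⟨x, hx, t, ht, rfl⟩

/-- `f` agrees modulo `T` with a map defined on `P ⊔ T`. -/
def HasLift (F : Cfsg.FusionSystem S) (T P : Subgroup Ω) (f : Ω → Ω) : Prop :=
  ∃ f', IsMap F (P ⊔ T) f' ∧ ∀ x ∈ P, (f x)⁻¹ * f' x ∈ T

theorem hasLift_of_le {P : Subgroup Ω} {f : Ω → Ω} (hf : IsMap F P f) (h : T ≤ P) :
    HasLift F T P f :=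
  ⟨f, hf.mono (sup_le le_rfl h), fun x _ => by rw [inv_mul_cancel]; exact T.one_mem⟩

theorem hasLift_of_extend {P M : Subgroup Ω} {f f' : Ω → Ω} (h : HasLift F T M f') (hPM : P ≤ M)
    (he : Set.EqOn f' f P) : HasLift F T P f := by
  obtain ⟨g, hg, hgm⟩ := h
  exact ⟨g, hg.mono (sup_le_sup_right hPM T), fun x hx => by rw [← he hx]; exact hgm x (hPM hx)⟩

theorem HasLift.comp [Finite S] (hT : F.StronglyClosed T) {P Q : Subgroup Ω} {f g : Ω → Ω}
    (hf : IsMap F P f) (hg : IsMap F Q g) (hQ : ∀ x ∈ P, f x ∈ Q) (h₁ : HasLift F T P f)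
    (h₂ : HasLift F T Q g) : HasLift F T P (g ∘ f) := by
  obtain ⟨f', hf', hfm⟩ := h₁
  obtain ⟨g', hg', hgm⟩ := h₂
  have hval : ∀ x ∈ P ⊔ T, f' x ∈ Q ⊔ T := by
    intro z hz
    obtain ⟨x, hx, t, ht, rfl⟩ := mem_sup_closed hT hf.dom_le hz
    rw [hf'.map_mul (le_sup_left (b := T) hx) (le_sup_right (a := P) ht)]
    refine mul_mem ?_ ((le_sup_right (a := Q)) (closed_apply hT hf' (le_sup_right (a := P) ht) ht))
    rw [show f' x = f x * ((f x)⁻¹ * f' x) by group]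
    exact mul_mem ((le_sup_left (b := T)) (hQ x hx)) ((le_sup_right (a := Q)) (hfm x hx))
  refine ⟨g' ∘ f', hf'.comp hg' hval, fun x hx => ?_⟩
  have ht := hfm x hx
  have h1 := hQ x hx
  show (g (f x))⁻¹ * g' (f' x) ∈ T
  rw [show f' x = f x * ((f x)⁻¹ * f' x) by group,
    hg'.map_mul (le_sup_left (b := T) h1) (le_sup_right (a := Q) ht), ← mul_assoc]
  exact T.mul_mem (hgm _ h1) (closed_apply hT hg' (le_sup_right (a := Q) ht) ht)

theorem HasLift.inv [Finite S] (hT : F.StronglyClosed T) {P Q : Subgroup Ω} {f g : Ω → Ω}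
    (hf : IsIso F P Q f) (hgf : ∀ x ∈ P, g (f x) = x) (h : HasLift F T P f) :
    HasLift F T Q g := by
  obtain ⟨f', hf', hfm⟩ := h
  obtain ⟨I, hI⟩ := hf'.exists_image
  obtain ⟨f'', hf'', hl, -⟩ := hI.exists_inv
  have hT' : ∀ t ∈ T, t ∈ I := by
    intro t ht
    obtain ⟨x, hx, hxe⟩ := surjOn_of_card_le hT.1 (hf'.injOn.mono fun y hy => le_sup_right (a := P) hy)
      (fun y hy => closed_apply hT hf' (le_sup_right (a := P) hy) hy) le_rfl t ht
    exact hxe ▸ hI.mem (le_sup_right (a := P) hx)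
  have hQI : Q ≤ I := by
    intro y hy
    obtain ⟨x, hx, rfl⟩ := hf.exists_preimage hy
    rw [show f x = f' x * ((f x)⁻¹ * f' x)⁻¹ by group]
    exact I.mul_mem (hI.mem (le_sup_left (b := T) hx)) (hT' _ (T.inv_mem (hfm x hx)))
  refine ⟨f'', hf''.1.mono (sup_le hQI hT'), fun y hy => ?_⟩
  obtain ⟨x, hx, rfl⟩ := hf.exists_preimage hy
  have ht := T.inv_mem (hfm x hx)
  rw [hgf x hx, show f x = f' x * ((f x)⁻¹ * f' x)⁻¹ by group,
    hf''.1.map_mul (hI.mem (le_sup_left (b := T) hx)) (hT' _ ht), hl x (le_sup_left (b := T) hx),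
    inv_mul_cancel_left]
  exact closed_apply hT hf''.1 (hT' _ ht) ht

theorem exists_normalizer_sup [Finite S] [Fact p.Prime] (hS : IsPGroup p S)
    (hT : F.StronglyClosed T) {R : Subgroup Ω} (hR : R ≤ S) (h : ¬ T ≤ R) :
    ∃ t, t ∈ T ∧ t ∈ normalizerIn S R ∧ t ∉ R := by
  have hRT : R ⊔ T ≤ S := sup_le hR hT.1
  have : Finite ↥(R ⊔ T) := Fusion.finite_of_le hRT
  have : Group.IsNilpotent ↥(R ⊔ T) := (hS.to_le hRT).isNilpotent
  have hlt : R.subgroupOf (R ⊔ T) < ⊤ :=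
    lt_top_iff_ne_top.mpr fun e => h (le_sup_right.trans (Subgroup.subgroupOf_eq_top.mp e))
  obtain ⟨x, hxN, hxR⟩ := SetLike.exists_of_lt (Group.normalizerCondition_of_isNilpotent _ hlt)
  obtain ⟨r, hr, t, ht, he⟩ := mem_sup_closed hT hR x.2
  have hxN' : (x : Ω) ∈ Subgroup.normalizer (R : Set Ω) := by
    have : Finite R := Fusion.finite_of_le hR
    refine Fusion92.mem_normalizer_of_conj_mem fun u hu => ?_
    exact Fusion92.conj_mem_of_normalizer (U := R.subgroupOf (R ⊔ T)) hxN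
      (u := ⟨u, le_sup_left (b := T) hu⟩) hu
  have htx : t = r⁻¹ * x := by rw [he]; group
  refine ⟨t, ht, ⟨hT.1 ht, ?_⟩, fun htR => hxR ?_⟩
  · rw [htx]
    exact (Subgroup.normalizer (R : Set Ω)).mul_mem
      ((Subgroup.normalizer (R : Set Ω)).inv_mem (R.le_normalizer hr)) hxN'
  · exact Subgroup.mem_subgroupOf.mpr (he ▸ R.mul_mem hr htR)

/-- The automorphisms of `R` in the system that act trivially modulo `T`. -/
def trivMod (hT : F.StronglyClosed T) {R : Subgroup Ω} (hR : R ≤ S) :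
    Subgroup (F.autGroup R) where
  carrier := {α | ∀ r : R, (r : Ω)⁻¹ * ((α : MulAut R) r : Ω) ∈ T}
  one_mem' r := by
    simp only [Subgroup.coe_one, MulAut.one_apply, inv_mul_cancel]
    exact T.one_mem
  mul_mem' := by
    intro α β hα hβ r
    show (r : Ω)⁻¹ * (((α : MulAut R) ((β : MulAut R) r) : R) : Ω) ∈ T
    rw [show (r : Ω)⁻¹ * (((α : MulAut R) ((β : MulAut R) r) : R) : Ω) =
      ((r : Ω)⁻¹ * ((β : MulAut R) r : Ω)) *
        (((β : MulAut R) r : Ω)⁻¹ * (((α : MulAut R) ((β : MulAut R) r) : R) : Ω)) by group]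
    exact T.mul_mem (hβ r) (hα _)
  inv_mem' := by
    intro α hα r
    show (r : Ω)⁻¹ * (((α : MulAut R)⁻¹ r : R) : Ω) ∈ T
    have h1 := T.inv_mem (hα ((α : MulAut R)⁻¹ r))
    rw [MulAut.apply_inv_self, mul_inv_rev, inv_inv] at h1
    exact h1

theorem trivMod_normal (hT : F.StronglyClosed T) {R : Subgroup Ω} (hR : R ≤ S) :
    (trivMod hT hR).Normal where
  conj_mem := by
    intro α hα β r
    obtain ⟨s, rfl⟩ := (β : MulAut R).surjective r
    show ((β : MulAut R) s : Ω)⁻¹ *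
      (((β : MulAut R) ((α : MulAut R) ((β : MulAut R)⁻¹ ((β : MulAut R) s))) : R) : Ω) ∈ T
    rw [MulAut.inv_apply_self, ← Subgroup.coe_inv, ← Subgroup.coe_mul, ← map_inv, ← map_mul,
      ← autFun_coe]
    exact closed_apply hT ((mem_autGroup hR).mp β.2).1 (SetLike.coe_mem _) (hα s)

theorem hasLift_aut [Finite S] [Fact p.Prime] (hS : IsPGroup p S) (hF : F.IsSaturated p)
    (hT : F.StronglyClosed T) {R : Subgroup Ω} (hR : F.IsFullyNormalized R) (hTR : ¬ T ≤ R)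
    (ih : ∀ (M : Subgroup Ω) (g : Ω → Ω), R < M → IsMap F M g → HasLift F T M g)
    {δ : MulAut R} (hδ : δ ∈ F.autGroup R) : HasLift F T R (autFun δ) := by
  have hRS := hR.1
  have : Finite R := Fusion.finite_of_le hRS
  have : Finite (F.autGroup R) := Fusion92.finite_autGroup F R
  set K : Subgroup (F.autGroup R) := trivMod hT hRS
  have : K.Normal := trivMod_normal hT hRS
  obtain ⟨-, P, hP⟩ := fullyAutomized_of_fullyNormalized hS hF hR
  obtain ⟨Q, hQ⟩ := (P.isPGroup'.comap_subtype (K := K)).exists_le_sylow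
  have hQP : (Q : Subgroup K) = (P : Subgroup (F.autGroup R)).subgroupOf K := by
    obtain ⟨P', hP'⟩ := (Q.isPGroup'.map K.subtype).exists_le_sylow
    obtain ⟨g, hg⟩ := MulAction.exists_smul_eq (F.autGroup R) P' P
    refine (Subgroup.eq_of_le_of_card_ge hQ ?_).symm
    let e : ↥(Q : Subgroup K) → (P : Subgroup (F.autGroup R)).subgroupOf K := fun q =>
      ⟨⟨g * (q : K) * g⁻¹, ‹K.Normal›.conj_mem _ q.1.2 g⟩, by
        rw [Subgroup.mem_subgroupOf, ← hg, Sylow.coe_subgroup_smul]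
        exact ⟨(q : K), hP' ⟨q, q.2, rfl⟩, rfl⟩⟩
    refine Nat.card_le_card_of_injective e fun a b hab => ?_
    have h1 : g * ((a : K) : F.autGroup R) * g⁻¹ = g * ((b : K) : F.autGroup R) * g⁻¹ :=
      congrArg (fun z : (P : Subgroup (F.autGroup R)).subgroupOf K => ((z : K) : F.autGroup R)) hab
    exact Subtype.ext (Subtype.ext (mul_left_cancel (mul_right_cancel h1)))
  have hmem : (⟨δ, hδ⟩ : F.autGroup R) ∈ Subgroup.normalizer
      (((Q : Subgroup K).map K.subtype : Subgroup (F.autGroup R)) : Set (F.autGroup R)) ⊔ K := by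
    rw [Sylow.normalizer_sup_eq_top Q]
    exact Subgroup.mem_top _
  rw [← SetLike.mem_coe, Subgroup.mul_normal] at hmem
  obtain ⟨β, hβ, κ, hκ, he⟩ := hmem
  have hκl : HasLift F T R (autFun (κ : MulAut R)) := by
    refine ⟨id, isMap_id (sup_le hRS hT.1), fun r hr => ?_⟩
    rw [autFun_of_mem _ hr, id_eq]
    simpa using T.inv_mem (hκ ⟨r, hr⟩)
  have hβl : HasLift F T R (autFun (β : MulAut R)) := by
    have hβi := (mem_autGroup hRS).mp β.2
    have hM : IsExtendable S R (autFun (β : MulAut R)) (T ⊓ normalizerIn S R) := by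
      refine ⟨inf_le_left.trans hT.1, fun t ht => ⟨ht.2.2, ?_⟩⟩
      let ct : F.autGroup R :=
        ⟨conjAutHom S R ⟨t, ht.2⟩, autInducedBy_le_autGroup hRS (by rw [← range_conjAutHom]; exact ⟨_, rfl⟩)⟩
      have hctK : ct ∈ K := by
        intro r
        show (r : Ω)⁻¹ * (t * r * t⁻¹) ∈ T
        rw [show (r : Ω)⁻¹ * (t * r * t⁻¹) = ((r : Ω)⁻¹ * t * r) * t⁻¹ by group]
        exact T.mul_mem (conj_inv_mem_closed hT (hRS r.2) ht.1) (T.inv_mem ht.1)
      have hctQ : ct ∈ ((Q : Subgroup K).map K.subtype) := by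
        refine ⟨⟨ct, hctK⟩, ?_, rfl⟩
        rw [hQP, SetLike.mem_coe, Subgroup.mem_subgroupOf, hP, Subgroup.mem_subgroupOf]
        show conjAutHom S R ⟨t, ht.2⟩ ∈ _
        rw [← range_conjAutHom]
        exact ⟨_, rfl⟩
      obtain ⟨k, hk, hkc⟩ := (Subgroup.mem_normalizer_iff.mp hβ ct).mp hctQ
      rw [hQP, SetLike.mem_coe, Subgroup.mem_subgroupOf, hP, Subgroup.mem_subgroupOf] at hk
      obtain ⟨h, hh, hhc⟩ := mem_autInducedBy.mp hk
      refine ⟨h, hh, fun x hx => ?_⟩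
      have h1 := hhc ((β : MulAut R) ⟨x, hx⟩)
      have h2 : (k : F.autGroup R) = β * ct * β⁻¹ := hkc
      rw [h2] at h1
      rw [autFun_of_mem _ hx,
        autFun_of_mem _ (conj_mem_of_mem_normalizer ht.2.2 hx), ← h1]
      simp only [Subgroup.coe_mul, Subgroup.coe_inv, MulAut.mul_apply, MulAut.inv_apply_self]
      rfl
    obtain ⟨f', hf', hfe⟩ := receptive_extend (receptive_of_fullyNormalized hS hF hR) hβi hM
    obtain ⟨t, ht, htN, htR⟩ := exists_normalizer_sup hS hT hRS hTR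
    refine hasLift_of_extend (ih _ f' ?_ hf') le_sup_left hfe
    exact lt_of_le_of_ne le_sup_left fun e => htR (e ▸ (le_sup_right (a := R)) ⟨ht, htN⟩)
  have hcomp := HasLift.comp hT ((mem_autGroup hRS).mp κ.2).1 ((mem_autGroup hRS).mp β.2).1
    (fun x hx => ((mem_autGroup hRS).mp κ.2).mem hx) hκl hβl
  refine hasLift_of_extend hcomp le_rfl fun x hx => ?_
  rw [← autFun_mul _ _ hx, ← Subgroup.coe_mul]
  exact congrArg (fun a : F.autGroup R => autFun (a : MulAut R) x) he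

/-- Puig: every map agrees modulo a strongly closed `T` with a map defined on the product with
`T`. -/
theorem exists_map_mod [Finite S] [Fact p.Prime] (hS : IsPGroup p S) (hF : F.IsSaturated p)
    (hT : F.StronglyClosed T) {P : Subgroup Ω} {f : Ω → Ω} (hf : IsMap F P f) :
    HasLift F T P f := by
  induction' hn : Nat.card S - Nat.card P using Nat.strong_induction_on with n ih generalizing P f
  have hPS := hf.dom_le
  by_cases hTP : T ≤ P
  · exact hasLift_of_le hf hTP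
  have ih' : ∀ (M : Subgroup Ω) (g : Ω → Ω), Nat.card P < Nat.card M → IsMap F M g →
      HasLift F T M g := by
    intro M g hlt hg
    have : Nat.card M ≤ Nat.card S := Subgroup.card_le_of_le hg.dom_le
    exact ih _ (by omega) hg rfl
  obtain ⟨Q, hQ⟩ := hf.exists_image
  obtain ⟨R, hPR, hR⟩ := exists_fullyNormalized (F := F) hPS
  have hQR : F.IsConj Q R := isConj_trans (isConj_symm hQ.isConj) hPR
  have hRA := fullyAutomized_of_fullyNormalized hS hF hR
  have hRR := receptive_of_fullyNormalized hS hF hR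
  obtain ⟨γ₁, hγ₁, hγ₁i, -⟩ := exists_normalizer_map hS hRA hRR hPR
  obtain ⟨γ₂, hγ₂, hγ₂i, -⟩ := exists_normalizer_map hS hRA hRR hQR
  have grow : ∀ {M : Subgroup Ω}, M ≤ S → ¬ T ≤ M → Nat.card P ≤ Nat.card M →
      Nat.card P < Nat.card (normalizerIn S M) := by
    intro M hM hTM hle
    obtain ⟨t, -, ht, htM⟩ := exists_normalizer_sup hS hT hM hTM
    have : Finite ↥(normalizerIn S M) := Fusion.finite_of_le inf_le_left
    refine hle.trans_lt (Set.ncard_lt_ncard ?_ (Set.toFinite _))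
    exact SetLike.coe_ssubset_coe.mpr
      (lt_of_le_of_ne (Fusion.le_normalizerIn hM) fun e => htM (e ▸ ht))
  have hnot : ∀ {M : Subgroup Ω} {g : Ω → Ω}, IsIso F P M g → ¬ T ≤ M := by
    intro M g hg hTM
    refine hTP fun t ht => ?_
    obtain ⟨g', hg', hgl, hgr⟩ := hg.exists_inv
    obtain ⟨x, hx, rfl⟩ := surjOn_of_card_le hT.1 (hg'.1.injOn.mono hTM)
      (fun y hy => closed_apply hT hg'.1 (hTM hy) hy) le_rfl t ht
    exact hg'.mem (hTM hx)
  have h₁ : HasLift F T P γ₁ :=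
    hasLift_of_extend (ih' _ γ₁ (grow hPS hTP le_rfl) hγ₁) (Fusion.le_normalizerIn hPS) fun _ _ => rfl
  have hQS := hQ.cod_le
  obtain ⟨γ₂', hγ₂', hl₂, hr₂⟩ := hγ₂i.exists_inv
  have h₂ : HasLift F T R γ₂' := HasLift.inv hT hγ₂i hl₂
    (hasLift_of_extend (ih' _ γ₂ (grow hQS (hnot hQ) hQ.card_eq.le) hγ₂)
      (Fusion.le_normalizerIn hQS) fun _ _ => rfl)
  obtain ⟨γ₁', hγ₁', hl₁, hr₁⟩ := hγ₁i.exists_inv
  obtain ⟨δ, hδ, hδe⟩ := ((hγ₁'.comp hQ).comp hγ₂i).exists_aut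
  have hTR := hnot hγ₁i
  have h₃ : HasLift F T R (autFun δ) := hasLift_aut hS hF hT hR hTR
    (fun M g hlt hg => ih' M g ((isConj_card hPR).trans_lt
      (have : Finite M := Fusion.finite_of_le hg.dom_le
       Set.ncard_lt_ncard (SetLike.coe_ssubset_coe.mpr hlt) (Set.toFinite _))) hg) hδ
  have hδi := (mem_autGroup hR.1).mp hδ
  have h₁₃ := HasLift.comp hT hγ₁i.1 hδi.1 (fun x hx => hγ₁i.mem hx) h₁ h₃
  have h₁₃₂ := HasLift.comp hT (hγ₁i.comp hδi).1 hγ₂'.1 (fun x hx => (hγ₁i.comp hδi).mem hx) h₁₃ h₂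
  refine hasLift_of_extend h₁₃₂ le_rfl fun x hx => ?_
  show γ₂' (autFun δ (γ₁ x)) = f x
  rw [hδe (hγ₁i.mem hx)]
  show γ₂' (γ₂ (f (γ₁' (γ₁ x)))) = f x
  rw [hl₁ x hx, hl₂ _ (hQ.mem hx)]

end Cfsg.Agent.Fusion92
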