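import Cfsg.Agent.Fusion92.Basic

set_option autoImplicit false

/-! A group having a local model shape embeds into any other such group realizing at least its
maps. (Averaging over right cosets; this gives in particular the uniqueness of models.) -/

namespace Cfsg.Agent.Fusion92

open Cfsg Cfsg.FusionSystem
open scoped IsMulCommutative

universe v w

variable {Ω : Type*} [Group Ω]

/-- `ι : N →* L` has the shape of a model at the normal subgroup `U`. -/
structure IsShape (U N : Subgroup Ω) {L : Type*} [Group L] (ι : N →* L) : Prop where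
  inj : Function.Injective ι
  le : U ≤ N
  norm : ((U.subgroupOf N).map ι).Normal
  cent : Subgroup.centralizer (((U.subgroupOf N).map ι : Subgroup L) : Set L) ≤
    (U.subgroupOf N).map ι

theorem IsShape.exists_conj {U N : Subgroup Ω} {L : Type*} [Group L] {ι : N →* L}
    (h : IsShape U N ι) (g : L) (u : N) (hu : (u : Ω) ∈ U) :
    ∃ v : N, (v : Ω) ∈ U ∧ g * ι u * g⁻¹ = ι v := by
  obtain ⟨v, hv, he⟩ := h.norm.conj_mem (ι u) ⟨u, hu, rfl⟩ g
  exact ⟨v, hv, he.symm⟩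

variable {p : ℕ} [Fact p.Prime] {U N₁ N₂ : Subgroup Ω} {L₁ : Type v} [Group L₁] [Finite L₁]
  {L₂ : Type w} [Group L₂]

theorem exists_embedding {ι₁ : N₁ →* L₁} {ι₂ : N₂ →* L₂} (h₁ : IsShape U N₁ ι₁)
    (h₂ : IsShape U N₂ ι₂) (hN : N₁ ≤ N₂) (hp : IsPGroup p U) [Finite U]
    (hind : ¬ p ∣ ι₁.range.index)
    (hreal : ∀ (g : L₁) (R : Subgroup Ω), U ≤ R → ∀ (hR : R ≤ N₁) (f : R →* N₁),
      (∀ r : R, ι₁ (f r) = g * ι₁ (Subgroup.inclusion hR r) * g⁻¹) →
      ∃ g₂ : L₂, ∀ r : R, ι₂ (Subgroup.inclusion hN (f r)) =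
        g₂ * ι₂ (Subgroup.inclusion (hR.trans hN) r) * g₂⁻¹) :
    ∃ j : L₁ →* L₂, Function.Injective j ∧
      ∀ s : N₁, j (ι₁ s) = ι₂ (Subgroup.inclusion hN s) := by
  classical
  -- `g₂` acts on `U` as `g₁` does
  let Same : L₁ → L₂ → Prop := fun g h => ∀ u : N₁, (u : Ω) ∈ U → ∃ v : N₁, (v : Ω) ∈ U ∧
    g * ι₁ u * g⁻¹ = ι₁ v ∧
      h * ι₂ (Subgroup.inclusion hN u) * h⁻¹ = ι₂ (Subgroup.inclusion hN v)
  have same_exists : ∀ g, ∃ h, Same g h := by
    intro g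
    have hr : ∀ r : U, g * ι₁ (Subgroup.inclusion h₁.le r) * g⁻¹ ∈ ι₁.range := fun r => by
      obtain ⟨v, -, hv⟩ := h₁.exists_conj g (Subgroup.inclusion h₁.le r) r.2
      exact ⟨v, hv.symm⟩
    let f : U →* N₁ := (MonoidHom.ofInjective h₁.inj).symm.toMonoidHom.comp
      ((((MulAut.conj g).toMonoidHom.comp ι₁).comp (Subgroup.inclusion h₁.le)).codRestrict _ hr)
    have hf : ∀ r, ι₁ (f r) = g * ι₁ (Subgroup.inclusion h₁.le r) * g⁻¹ := fun r =>
      (congrArg Subtype.val ((MonoidHom.ofInjective h₁.inj).apply_symm_apply ⟨_, hr r⟩) : _)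
    obtain ⟨h, hh⟩ := hreal g U le_rfl h₁.le f hf
    refine ⟨h, fun u hu => ?_⟩
    obtain ⟨v, hv, hgv⟩ := h₁.exists_conj g u hu
    refine ⟨v, hv, hgv, ?_⟩
    have h3 : f ⟨u, hu⟩ = v := h₁.inj ((hf ⟨u, hu⟩).trans hgv)
    rw [← h3]
    exact (hh ⟨u, hu⟩).symm
  have same_mul : ∀ {g h g' h'}, Same g h → Same g' h' → Same (g * g') (h * h') := by
    intro g h g' h' H H' u hu
    obtain ⟨v, hv, e1, e2⟩ := H' u hu
    obtain ⟨v', hv', e3, e4⟩ := H v hv
    refine ⟨v', hv', ?_, ?_⟩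
    · rw [← e3, ← e1]; group
    · rw [← e4, ← e2]; group
  have same_iota : ∀ s : N₁, Same (ι₁ s) (ι₂ (Subgroup.inclusion hN s)) := by
    intro s u hu
    obtain ⟨v, hv, e⟩ := h₁.exists_conj (ι₁ s) u hu
    refine ⟨v, hv, e, ?_⟩
    have : v = s * u * s⁻¹ := h₁.inj (by rw [← e, map_mul, map_mul, map_inv])
    rw [this, map_mul, map_mul, map_inv, map_mul, map_mul, map_inv]
  -- the centralizer of `U`, a commutative `p`-group
  let C : Subgroup L₂ := Subgroup.centralizer (((U.subgroupOf N₂).map ι₂ : Subgroup L₂) : Set L₂)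
  have hC : IsMulCommutative C := ⟨⟨fun a b =>
    Subtype.ext (b.2 a.1 (h₂.cent a.2))⟩⟩
  have hCp : ∃ n, Nat.card C = p ^ n := by
    have hUp : IsPGroup p ↥((U.subgroupOf N₂).map ι₂) :=
      (hp.of_equiv (Subgroup.subgroupOfEquivOfLe h₂.le).symm).map _
    have : Finite ↥((U.subgroupOf N₂).map ι₂) := by
      have : Finite ↥(U.subgroupOf N₂) :=
        Finite.of_equiv U (Subgroup.subgroupOfEquivOfLe h₂.le).symm.toEquiv
      exact Finite.of_surjective _ (MonoidHom.subgroupMap_surjective ι₂ _)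
    have : Finite C := Finite.of_injective _ (Subgroup.inclusion_injective h₂.cent)
    exact (hUp.to_le h₂.cent).exists_card_eq
  have mem_C : ∀ {g h h'}, Same g h → Same g h' → h'⁻¹ * h ∈ C := by
    rintro g h h' H H' _ ⟨u, hu, rfl⟩
    let u₁ : N₁ := ⟨u, h₁.le hu⟩
    obtain ⟨v, -, e1, e2⟩ := H u₁ hu
    obtain ⟨v', -, e1', e2'⟩ := H' u₁ hu
    rw [show v' = v from h₁.inj (e1'.symm.trans e1), ← e2] at e2'
    have hi : Subgroup.inclusion hN u₁ = u := Subtype.ext rfl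
    rw [hi] at e2'
    calc ι₂ u * (h'⁻¹ * h) = h'⁻¹ * (h' * ι₂ u * h'⁻¹) * h := by group
      _ = h'⁻¹ * (h * ι₂ u * h⁻¹) * h := by rw [e2']
      _ = h'⁻¹ * h * ι₂ u := by group
  -- an equivariant map `Φ`
  let σ : N₁ × N₁ → L₁ → L₁ := fun s l => ι₁ s.1 * l * (ι₁ s.2)⁻¹
  let _ : MulAction (N₁ × N₁) L₁ :=
    { smul := σ
      one_smul := fun l => by show ι₁ 1 * l * (ι₁ 1)⁻¹ = l; simp
      mul_smul := fun s t l => by
        show ι₁ (s.1 * t.1) * l * (ι₁ (s.2 * t.2))⁻¹ = ι₁ s.1 * (ι₁ t.1 * l * (ι₁ t.2)⁻¹) * (ι₁ s.2)⁻¹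
        rw [map_mul, map_mul]; group }
  let τ : N₁ × N₁ → L₂ → L₂ := fun s m =>
    ι₂ (Subgroup.inclusion hN s.1) * m * (ι₂ (Subgroup.inclusion hN s.2))⁻¹
  have τ_mul : ∀ s t m, τ (s * t) m = τ s (τ t m) := by
    intro s t m
    simp only [τ, Prod.fst_mul, Prod.snd_mul, map_mul]
    group
  have hpt : ∀ l, ∃ m, Same l m ∧ ∀ s : N₁ × N₁, s • l = l → τ s m = m := by
    intro l
    let K : Subgroup N₁ := (ι₁.range.comap (MulAut.conj l⁻¹).toMonoidHom).comap ι₁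
    have hK : ∀ k : N₁, k ∈ K ↔ l⁻¹ * ι₁ k * l ∈ ι₁.range := fun k => by
      show l⁻¹ * ι₁ k * l⁻¹⁻¹ ∈ ι₁.range ↔ _
      rw [inv_inv]
    let R : Subgroup Ω := K.map N₁.subtype
    have hRN : R ≤ N₁ := Subgroup.map_subtype_le K
    have hmem : ∀ r : R, Subgroup.inclusion hRN r ∈ K := by
      rintro ⟨_, k, hk, rfl⟩
      exact hk
    have hUR : U ≤ R := fun u hu => ⟨⟨u, h₁.le hu⟩, (hK _).mpr (by
      obtain ⟨v, -, e⟩ := h₁.exists_conj l⁻¹ ⟨u, h₁.le hu⟩ hu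
      rw [inv_inv] at e
      exact ⟨v, e.symm⟩), rfl⟩
    let f : R →* N₁ := (MonoidHom.ofInjective h₁.inj).symm.toMonoidHom.comp
      ((((MulAut.conj l⁻¹).toMonoidHom.comp ι₁).comp (Subgroup.inclusion hRN)).codRestrict ι₁.range
        (fun r => hmem r))
    have hf : ∀ r, ι₁ (f r) = l⁻¹ * ι₁ (Subgroup.inclusion hRN r) * l⁻¹⁻¹ := fun r =>
      (congrArg Subtype.val ((MonoidHom.ofInjective h₁.inj).apply_symm_apply ⟨_, hmem r⟩) : _)
    obtain ⟨m, hm⟩ := hreal l⁻¹ R hUR hRN f hf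
    refine ⟨m⁻¹, fun u hu => ?_, ?_⟩
    · obtain ⟨v, hv, e⟩ := h₁.exists_conj l u hu
      refine ⟨v, hv, e, ?_⟩
      have h3 : f ⟨v, hUR hv⟩ = u := h₁.inj <| by
        rw [hf, show Subgroup.inclusion hRN ⟨(v : Ω), hUR hv⟩ = v from Subtype.ext rfl, ← e]
        group
      have h4 := hm ⟨v, hUR hv⟩
      rw [h3] at h4
      rw [h4, show Subgroup.inclusion (hRN.trans hN) ⟨(v : Ω), hUR hv⟩ =
        Subgroup.inclusion hN v from Subtype.ext rfl]
      group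
    · rintro ⟨k, b⟩ hfix
      have hfix' : ι₁ k * l * (ι₁ b)⁻¹ = l := hfix
      have hb : l⁻¹ * ι₁ k * l = ι₁ b := by
        rw [mul_inv_eq_iff_eq_mul] at hfix'
        rw [mul_assoc, hfix', inv_mul_cancel_left]
      have hkR : (k : Ω) ∈ R := ⟨k, (hK k).mpr ⟨b, hb.symm⟩, rfl⟩
      have h3 : f ⟨k, hkR⟩ = b := h₁.inj (by rw [hf, inv_inv]; exact hb)
      have h4 := hm ⟨k, hkR⟩
      rw [h3] at h4
      show ι₂ (Subgroup.inclusion hN k) * m⁻¹ * (ι₂ (Subgroup.inclusion hN b))⁻¹ = m⁻¹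
      rw [h4, show Subgroup.inclusion (hRN.trans hN) ⟨(k : Ω), hkR⟩ =
        Subgroup.inclusion hN k from Subtype.ext rfl]
      group
  choose y hy hyfix using hpt
  let rep : L₁ → L₁ := fun x => (Quotient.mk'' x : MulAction.orbitRel.Quotient (N₁ × N₁) L₁).out
  have hrep : ∀ x, ∃ s : N₁ × N₁, s • rep x = x := fun x =>
    MulAction.orbitRel_apply.mp (Quotient.exact'
      (Quotient.out_eq' (Quotient.mk'' x : MulAction.orbitRel.Quotient (N₁ × N₁) L₁)).symm)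
  choose sx hsx using hrep
  let Φ : L₁ → L₂ := fun x => τ (sx x) (y (rep x))
  have hΦeq : ∀ (s : N₁ × N₁) x, Φ (s • x) = τ s (Φ x) := by
    intro s x
    have hr : rep (s • x) = rep x :=
      congrArg Quotient.out (Quotient.sound' (MulAction.orbitRel_apply.mpr ⟨s, rfl⟩))
    have hst : ((s * sx x)⁻¹ * sx (s • x)) • rep x = rep x := by
      have h3 := hsx (s • x)
      rw [hr] at h3
      rw [mul_smul, h3, inv_smul_eq_iff, mul_smul, hsx x]
    show τ (sx (s • x)) (y (rep (s • x))) = τ s (τ (sx x) (y (rep x)))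
    rw [hr, ← τ_mul]
    conv_rhs => rw [← hyfix _ _ hst, ← τ_mul, mul_inv_cancel_left]
  have hΦsame : ∀ x, Same x (Φ x) := by
    intro x
    have h3 := same_mul (same_mul (same_iota (sx x).1) (hy (rep x))) (same_iota (sx x).2⁻¹)
    rw [map_inv, map_inv, map_inv] at h3
    have h4 : ι₁ (sx x).1 * rep x * (ι₁ (sx x).2)⁻¹ = x := hsx x
    rw [h4] at h3
    exact h3
  have hΦright : ∀ x s, Φ (x * ι₁ s) = Φ x * ι₂ (Subgroup.inclusion hN s) := by
    intro x s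
    have h3 := hΦeq (1, s⁻¹) x
    have h4 : ((1, s⁻¹) : N₁ × N₁) • x = x * ι₁ s := by
      show ι₁ 1 * x * (ι₁ s⁻¹)⁻¹ = _
      simp
    rw [h4] at h3
    rw [h3]
    simp [τ]
  have hΦleft : ∀ x s, Φ (ι₁ s * x) = ι₂ (Subgroup.inclusion hN s) * Φ x := by
    intro x s
    have h3 := hΦeq (s, 1) x
    have h4 : ((s, 1) : N₁ × N₁) • x = ι₁ s * x := by
      show ι₁ s * x * (ι₁ 1)⁻¹ = _
      simp
    rw [h4] at h3
    rw [h3]
    simp [τ]
  -- the twist
  have hz : ∀ g h l, Same g h → h⁻¹ * (Φ (g * l) * (Φ l)⁻¹) ∈ C := by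
    intro g h l H
    have h3 := mem_C (hΦsame (g * l)) (same_mul H (hΦsame l))
    refine fun x hx => ?_
    -- conjugate by `Φ l`, which normalizes the image of `U`
    obtain ⟨u, hu, rfl⟩ := hx
    obtain ⟨u', hu', e⟩ := h₂.exists_conj (Φ l)⁻¹ u hu
    have h5 := h3 (ι₂ u') ⟨u', hu', rfl⟩
    rw [← e] at h5
    calc ι₂ u * (h⁻¹ * (Φ (g * l) * (Φ l)⁻¹))
        = Φ l * ((Φ l)⁻¹ * ι₂ u * (Φ l)⁻¹⁻¹ * ((h * Φ l)⁻¹ * Φ (g * l))) * (Φ l)⁻¹ := by group
      _ = Φ l * ((h * Φ l)⁻¹ * Φ (g * l) * ((Φ l)⁻¹ * ι₂ u * (Φ l)⁻¹⁻¹)) * (Φ l)⁻¹ := by rw [h5]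
      _ = h⁻¹ * (Φ (g * l) * (Φ l)⁻¹) * ι₂ u := by group
  let c : (g : L₁) → (h : L₂) → Same g h → L₁ ⧸ ι₁.range → C :=
    fun g h H q => ⟨_, hz g h q.out H⟩
  have hc_mk : ∀ g h H l, ((c g h H (QuotientGroup.mk l) : C) : L₂) =
      h⁻¹ * (Φ (g * l) * (Φ l)⁻¹) := by
    intro g h H l
    show h⁻¹ * (Φ (g * (QuotientGroup.mk l : L₁ ⧸ ι₁.range).out) *
      (Φ (QuotientGroup.mk l : L₁ ⧸ ι₁.range).out)⁻¹) = _
    obtain ⟨⟨_, s, rfl⟩, hs⟩ := QuotientGroup.mk_out_eq_mul ι₁.range l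
    rw [hs]
    show h⁻¹ * (Φ (g * (l * ι₁ s)) * (Φ (l * ι₁ s))⁻¹) = _
    rw [← mul_assoc g, hΦright, hΦright]
    group
  let P : (g : L₁) → (h : L₂) → Same g h → C := fun g h H => ∏ᶠ q, c g h H q
  let n := ι₁.range.index
  have hco : (Nat.card C).Coprime n := by
    obtain ⟨k, hk⟩ := hCp
    rw [hk]
    exact Nat.Coprime.pow_left k ((Fact.out (p := p.Prime)).coprime_iff_not_dvd.mpr hind)
  have hshift : ∀ g h H (w : C) (H' : Same g (h * w)), P g (h * w) H' = (w⁻¹) ^ n * P g h H := by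
    intro g h H w H'
    have hconst : ∀ q, c g (h * w) H' q = w⁻¹ * c g h H q := fun q => Subtype.ext (by
      show (h * (w : L₂))⁻¹ * _ = (w : L₂)⁻¹ * (h⁻¹ * _)
      rw [mul_inv_rev, mul_assoc])
    let _ := Fintype.ofFinite (L₁ ⧸ ι₁.range)
    show (∏ᶠ q, c g (h * w) H' q) = _
    rw [finprod_congr hconst, finprod_mul_distrib (Set.toFinite _) (Set.toFinite _),
      finprod_eq_prod_of_fintype]
    simp only [Finset.prod_const, Finset.card_univ]
    rw [← Nat.card_eq_fintype_card, ← Subgroup.index_eq_card]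
  have hsame_shift : ∀ {g h} (w : C), Same g h → Same g (h * w) := by
    intro g h w H u hu
    obtain ⟨v, hv, e1, e2⟩ := H u hu
    refine ⟨v, hv, e1, ?_⟩
    rw [← e2]
    have h3 := w.2 (ι₂ (Subgroup.inclusion hN u)) ⟨_, hu, rfl⟩
    rw [mul_assoc (h : L₂), ← h3]
    group
  have hex : ∀ g, ∃ h H, P g h H = 1 := by
    intro g
    obtain ⟨h, H⟩ := same_exists g
    obtain ⟨w, hw⟩ := (powCoprime hco).surjective (P g h H)
    refine ⟨h * w, hsame_shift w H, ?_⟩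
    rw [hshift g h H w (hsame_shift w H), ← hw, powCoprime_apply, inv_pow, inv_mul_cancel]
  have huniq : ∀ g h H h' H', P g h H = 1 → P g h' H' = 1 → h = h' := by
    intro g h H h' H' e e'
    have hw : (h⁻¹ * h') ∈ C := mem_C H' H
    have hh : h' = h * ((⟨_, hw⟩ : C) : L₂) := (mul_inv_cancel_left h h').symm
    have H'' : Same g (h * ((⟨_, hw⟩ : C) : L₂)) := hh ▸ H'
    have e3 : P g (h * ((⟨_, hw⟩ : C) : L₂)) H'' = 1 := by
      revert H''
      rw [← hh]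
      exact fun _ => e'
    rw [hshift g h H ⟨_, hw⟩ H'', e, mul_one] at e3
    have h4 : (⟨_, hw⟩ : C)⁻¹ = 1 := (powCoprime hco).injective (by simpa using e3)
    rw [hh, inv_eq_one.mp h4, Subgroup.coe_one, mul_one]
  choose j hjS hj using hex
  -- multiplicativity
  have hjmul : ∀ g g', j (g * g') = j g * j g' := by
    intro g g'
    refine huniq _ _ (hjS _) _ (same_mul (hjS g) (hjS g')) (hj _) ?_
    have hnorm : ∀ x : C, (j g')⁻¹ * x * j g' ∈ C := by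
      rintro x _ ⟨u, hu, rfl⟩
      obtain ⟨v, hv, e⟩ := h₂.exists_conj (j g') u hu
      have h3 := x.2 (ι₂ v) ⟨v, hv, rfl⟩
      rw [← e] at h3
      calc ι₂ u * ((j g')⁻¹ * x * j g')
          = (j g')⁻¹ * (j g' * ι₂ u * (j g')⁻¹ * x) * j g' := by group
        _ = (j g')⁻¹ * (x * (j g' * ι₂ u * (j g')⁻¹)) * j g' := by rw [h3]
        _ = (j g')⁻¹ * x * j g' * ι₂ u := by group
    let cj : C →* C := (((MulAut.conj (j g')⁻¹).toMonoidHom.comp C.subtype).codRestrict C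
      fun x => by simpa using hnorm x)
    have hsplit : ∀ q, c (g * g') (j g * j g') (same_mul (hjS g) (hjS g')) q =
        cj (c g (j g) (hjS g) (g' • q)) * c g' (j g') (hjS g') q := by
      intro q
      obtain ⟨l, rfl⟩ := QuotientGroup.mk_surjective q
      refine Subtype.ext ?_
      rw [Subgroup.coe_mul, hc_mk, hc_mk]
      show _ = (j g')⁻¹ * (c g (j g) (hjS g) (QuotientGroup.mk (g' * l)) : L₂) * (j g')⁻¹⁻¹ * _
      rw [hc_mk, mul_assoc g]
      group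
      all_goals first | exact hjS _ | exact same_mul (hjS g) (hjS g')
    show (∏ᶠ q, c (g * g') (j g * j g') (same_mul (hjS g) (hjS g')) q) = 1
    rw [finprod_congr hsplit, finprod_mul_distrib (Set.toFinite _) (Set.toFinite _),
      ← map_finprod _ (Set.toFinite _),
      finprod_eq_of_bijective (g := c g (j g) (hjS g)) (fun q => g' • q)
        (MulAction.bijective g') (fun _ => rfl)]
    show cj (P g (j g) (hjS g)) * P g' (j g') (hjS g') = 1
    rw [hj, hj, map_one, one_mul]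
  have hjι : ∀ s, j (ι₁ s) = ι₂ (Subgroup.inclusion hN s) := by
    intro s
    refine huniq _ _ (hjS _) _ (same_iota s) (hj _) (finprod_eq_one_of_forall_eq_one fun q => ?_)
    obtain ⟨l, rfl⟩ := QuotientGroup.mk_surjective q
    refine Subtype.ext ?_
    rw [hc_mk, hΦleft, mul_inv_cancel_right, inv_mul_cancel]
    · rfl
    · exact same_iota s
  refine ⟨MonoidHom.mk' j hjmul, (injective_iff_map_eq_one _).mpr fun g hg => ?_, hjι⟩
  have hg1 : j g = 1 := hg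
  have hgC : g ∈ Subgroup.centralizer (((U.subgroupOf N₁).map ι₁ : Subgroup L₁) : Set L₁) := by
    rintro _ ⟨u, hu, rfl⟩
    obtain ⟨v, -, e1, e2⟩ := hjS g u hu
    rw [hg1, one_mul, inv_one, mul_one] at e2
    have : u = v := Subgroup.inclusion_injective hN (h₂.inj e2)
    rw [← this] at e1
    calc ι₁ u * g = g * ι₁ u * g⁻¹ * g := by rw [e1]
      _ = g * ι₁ u := by group
  obtain ⟨s, -, rfl⟩ := h₁.cent hgC
  rw [hjι] at hg1
  have hs : Subgroup.inclusion hN s = 1 := h₂.inj (hg1.trans (map_one ι₂).symm)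
  rw [show s = 1 from Subgroup.inclusion_injective hN (hs.trans (map_one _).symm), map_one]

end Cfsg.Agent.Fusion92
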