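import Cfsg.Agent.Fusion92.Model
import Cfsg.Agent.Fusion92.Embedding
import Cfsg.Agent.Lib.Fusion.Saturation
import Cfsg.Agent.Lib.Fusion.Closed
import Cfsg.Agent.Lib.Thompson.Cores

set_option autoImplicit false

/-! Local models: finite groups realizing the maps of the system around a centric subgroup. -/

namespace Cfsg.Agent.Fusion92

open Cfsg Cfsg.Agent.Fusion
open Cfsg.FusionSystem (normalizerIn centralizerIn)

universe u v

variable {Ω : Type u} [Group Ω] {S : Subgroup Ω} {F : Cfsg.FusionSystem S} {p : ℕ} [Fact p.Prime]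
  {U : Subgroup Ω} {L : Type v} [Group L]

/-- `L`, through `ι`, is a local model of `F` at `U`. -/
structure IsLocal (F : Cfsg.FusionSystem S) (p : ℕ) (U : Subgroup Ω) {L : Type v} [Group L]
    (ι : ↥(normalizerIn S U) →* L) : Prop where
  fin : Finite L
  shape : IsShape U (normalizerIn S U) ι
  sylow : ∃ T : Sylow p L, (T : Subgroup L) = ι.range
  realizes : ∀ (P : Subgroup Ω) (hP : P ≤ normalizerIn S U) (f : Ω → Ω)
    (hf : ∀ x ∈ P, f x ∈ normalizerIn S U),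
      (IsMap F P f ∧ ExtendsStab F U P f) ↔
        ∃ g : L, ∀ (x : Ω) (hx : x ∈ P), ι ⟨f x, hf x hx⟩ = g * ι ⟨x, hP hx⟩ * g⁻¹

namespace IsLocal

variable {ι : ↥(normalizerIn S U) →* L}

omit [Fact p.Prime] in
theorem le_S (h : IsLocal F p U ι) : U ≤ S := h.shape.le.trans (Fusion.normalizerIn_le S U)

theorem not_dvd_index [Finite S] (h : IsLocal F p U ι) : ¬ p ∣ ι.range.index := by
  have := h.fin
  obtain ⟨T, hT⟩ := h.sylow
  exact hT ▸ T.not_dvd_index

omit [Fact p.Prime] in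
/-- A map of the system around `U` is conjugation by an element of the local model. -/
theorem exists_conj [Finite S] (h : IsLocal F p U ι) {R : Subgroup Ω} (hUR : U ≤ R)
    (hR : R ≤ normalizerIn S U) {f : Ω → Ω} (hf : IsMap F R f)
    (hU : f '' (U : Set Ω) = (U : Set Ω)) :
    ∃ g : L, ∀ (x : Ω) (hx : x ∈ R) (hfx : f x ∈ normalizerIn S U),
      ι ⟨f x, hfx⟩ = g * ι ⟨x, hR hx⟩ * g⁻¹ := by
  have hv : ∀ x ∈ R, f x ∈ normalizerIn S U := fun x hx =>
    Fusion.map_mem_normalizer hf hUR hU hx (hR hx).2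
  obtain ⟨g, hg⟩ := (h.realizes R hR f hv).mp
    ⟨hf, f, hf.mono (sup_le le_rfl hUR), fun _ _ => rfl, hU⟩
  exact ⟨g, fun x hx _ => hg x hx⟩

omit [Fact p.Prime] in
/-- Conjugation by an element of the local model, where it stays in the image of `N_S(U)`, is a
map of the system stabilizing `U`. -/
theorem exists_map (h : IsLocal F p U ι) (g : L) {R : Subgroup Ω} (hUR : U ≤ R)
    (hR : R ≤ normalizerIn S U)
    (hg : ∀ (x : Ω) (hx : x ∈ R), g * ι ⟨x, hR hx⟩ * g⁻¹ ∈ ι.range) :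
    ∃ f : Ω → Ω, IsMap F R f ∧ f '' (U : Set Ω) = (U : Set Ω) ∧
      ∀ (x : Ω) (hx : x ∈ R), ∃ hfx : f x ∈ normalizerIn S U,
        ι ⟨f x, hfx⟩ = g * ι ⟨x, hR hx⟩ * g⁻¹ := by
  classical
  choose s hs using hg
  let f : Ω → Ω := fun x => if hx : x ∈ R then (s x hx : Ω) else 1
  have hfv : ∀ x (hx : x ∈ R), f x = s x hx := fun x hx => dif_pos hx
  have hf : ∀ x ∈ R, f x ∈ normalizerIn S U := fun x hx => hfv x hx ▸ (s x hx).2
  have he : ∀ (x : Ω) (hx : x ∈ R), ι ⟨f x, hf x hx⟩ = g * ι ⟨x, hR hx⟩ * g⁻¹ := fun x hx => by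
    rw [← hs x hx]
    exact congrArg ι (Subtype.ext (hfv x hx))
  obtain ⟨hm, f', hf', hfe, hfU⟩ := (h.realizes R hR f hf).mpr ⟨g, he⟩
  refine ⟨f, hm, ?_, fun x hx => ⟨hf x hx, he x hx⟩⟩
  exact (Set.image_congr fun x hx => (hfe (hUR hx)).symm).trans hfU

omit [Fact p.Prime] in
/-- Maps stabilizing a conjugate are conjugations in the local model, through the transporting map. -/
theorem exists_conj_transport [Finite S] (h : IsLocal F p U ι) {W : Subgroup Ω} {γ : Ω → Ω}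
    (hγ : IsMap F (normalizerIn S W) γ) (hγW : IsIso F W U γ)
    (hγN : ∀ x ∈ normalizerIn S W, γ x ∈ normalizerIn S U) {R : Subgroup Ω} (hWR : W ≤ R)
    (hR : R ≤ normalizerIn S W) {f : Ω → Ω} (hf : IsMap F R f)
    (hW : f '' (W : Set Ω) = (W : Set Ω)) :
    ∃ g : L, ∀ (x : Ω) (hx : x ∈ R) (hfx : f x ∈ normalizerIn S W),
      ι ⟨γ (f x), hγN _ hfx⟩ = g * ι ⟨γ x, hγN _ (hR hx)⟩ * g⁻¹ := by
  obtain ⟨P', hγP⟩ := (hγ.mono hR).exists_image
  have hP' : P' ≤ normalizerIn S U := fun y hy => by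
    obtain ⟨x, hx, rfl⟩ := hγP.exists_preimage hy
    exact hγN x (hR hx)
  obtain ⟨δ, hδ, hδγ, -⟩ := hγP.exists_inv
  have hfN : ∀ x ∈ R, f x ∈ normalizerIn S W := fun x hx =>
    Fusion.map_mem_normalizer hf hWR hW hx (hR hx).2
  have hk : IsMap F P' (γ ∘ f ∘ δ) :=
    (hδ.comp_map hf).comp hγ fun y hy => hfN _ (hδ.mem hy)
  have hUP : U ≤ P' := fun y hy => by
    obtain ⟨x, hx, rfl⟩ := hγW.exists_preimage hy
    exact hγP.mem (hWR hx)
  have hkU : (γ ∘ f ∘ δ) '' (U : Set Ω) = (U : Set Ω) := by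
    rw [← hγW.2, ← Set.image_comp]
    conv_rhs => rw [← hW, ← Set.image_comp]
    exact Set.image_congr fun x hx => by
      simp only [Function.comp_apply]; rw [hδγ x (hWR hx)]
  obtain ⟨g, hg⟩ := h.exists_conj hUP hP' hk hkU
  refine ⟨g, fun x hx hfx => ?_⟩
  have hr : (γ ∘ f ∘ δ) (γ x) = γ (f x) := by
    simp only [Function.comp_apply]; rw [hδγ x hx]
  have h3 := hg (γ x) (hγP.mem hx) (hr ▸ hγN _ hfx)
  have hr' : (⟨(γ ∘ f ∘ δ) (γ x), hr ▸ hγN _ hfx⟩ : ↥(normalizerIn S U)) =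
      ⟨γ (f x), hγN _ hfx⟩ := Subtype.ext hr
  rw [hr'] at h3
  exact h3

omit [Fact p.Prime] in
theorem map_le_pCore (h : IsLocal F p U ι) (hS : IsPGroup p S) :
    (U.subgroupOf (normalizerIn S U)).map ι ≤ pCore p L :=
  Thompson.le_pCore h.shape.norm
    (((hS.to_le h.le_S).of_equiv (Subgroup.subgroupOfEquivOfLe h.shape.le).symm).map ι)

omit [Fact p.Prime] in
theorem centralizer_pCore_le (h : IsLocal F p U ι) (hS : IsPGroup p S) :
    Subgroup.centralizer ((pCore p L : Subgroup L) : Set L) ≤ pCore p L :=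
  (Subgroup.centralizer_le (h.map_le_pCore hS)).trans (h.shape.cent.trans (h.map_le_pCore hS))

omit [Fact p.Prime] in
theorem isModel (h : IsLocal F p U ι) (hS : IsPGroup p S)
    {N : Cfsg.FusionSystem (normalizerIn S U)} (hN : F.IsNormalizerSystem U N) :
    N.IsModel p L ι := by
  refine ⟨h.fin, ⟨h.shape.inj, fun P hP φ hφ => ?_⟩, h.sylow, h.centralizer_pCore_le hS⟩
  have hfe : ∀ x : P, φ x = extFun φ x := fun x => (extFun_coe φ x).symm
  rw [hN P, mem_normalizerHom hfe]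
  have hv : ∀ x ∈ P, extFun φ x ∈ normalizerIn S U := fun x hx => by
    rw [extFun_of_mem φ hx]; exact hφ _
  constructor
  · rintro ⟨hm, -, -, he⟩
    obtain ⟨g, hg⟩ := (h.realizes P hP _ hv).mp ⟨hm, he⟩
    refine ⟨g, fun x => ?_⟩
    rw [show (⟨φ x, hφ x⟩ : ↥(normalizerIn S U)) = ⟨_, hv x x.2⟩ from Subtype.ext (hfe x)]
    exact hg x x.2
  · rintro ⟨g, hg⟩
    obtain ⟨hm, he⟩ := (h.realizes P hP _ hv).mpr ⟨g, fun x hx => by
      rw [← hg ⟨x, hx⟩]
      exact congrArg ι (Subtype.ext (extFun_of_mem φ hx))⟩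
    exact ⟨hm, hP, hv, he⟩

end IsLocal

/-- Every centric fully normalized subgroup of a saturated system has a local model. -/
theorem exists_isLocal [Finite S] (hS : IsPGroup p S) (hF : F.IsSaturated p)
    (hC : F.IsCentric U) (hN : F.IsFullyNormalized U) :
    ∃ (L : Type u) (_ : Group L) (_ : Finite L) (ι : ↥(normalizerIn S U) →* L),
      IsLocal F p U ι := by
  obtain ⟨L, hG, hL, ι, hinj, hsyl, hnorm, hcent, hreal⟩ :=
    (ModelSetup.exists_model (h := ⟨hS, hF, hC, fullyAutomized_of_fullyNormalized hS hF hN,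
      receptive_of_fullyNormalized hS hF hN⟩))
  refine ⟨L, hG, hL, ι, hL, ⟨hinj, le_normalizerIn hC.1, hnorm, hcent⟩, hsyl, ?_⟩
  intro P hP f hf
  constructor
  · rintro ⟨⟨φ, hφ, hφf⟩, he⟩
    have hv : ∀ x : P, φ x ∈ normalizerIn S U := fun x => hφf x ▸ hf x x.2
    obtain ⟨g, hg⟩ := (hreal P hP φ hv).mp
      ((mem_normalizerHom hφf).mpr ⟨⟨φ, hφ, hφf⟩, hP, hf, he⟩)
    refine ⟨g, fun x hx => ?_⟩
    rw [show (⟨f x, hf x hx⟩ : ↥(normalizerIn S U)) = ⟨_, hv ⟨x, hx⟩⟩ from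
      Subtype.ext (hφf ⟨x, hx⟩).symm]
    exact hg ⟨x, hx⟩
  · rintro ⟨g, hg⟩
    have hmul : ∀ x y : P, f ↑(x * y) = f x * f y := by
      intro x y
      refine congrArg Subtype.val (a₁ := (⟨_, hf _ (x * y).2⟩ : ↥(normalizerIn S U)))
        (a₂ := ⟨f x, hf x x.2⟩ * ⟨f y, hf y y.2⟩) (hinj ?_)
      rw [map_mul, hg _ (x * y).2, hg _ x.2, hg _ y.2]
      rw [show (⟨↑(x * y), hP (x * y).2⟩ : ↥(normalizerIn S U)) = ⟨x, hP x.2⟩ * ⟨y, hP y.2⟩
        from Subtype.ext rfl, map_mul]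
      group
    let φ : P →* Ω := MonoidHom.mk' (fun x => f x) hmul
    obtain ⟨hm, -, -, he⟩ := (mem_normalizerHom (φ := φ) (f := f) (fun _ => rfl)).mp
      ((hreal P hP φ (fun x => hf x x.2)).mpr ⟨g, fun x => hg x x.2⟩)
    exact ⟨hm, he⟩

omit [Fact p.Prime] in
/-- The maps realized by a model of the normalizer system, as functions. -/
theorem isModel_realizes {N : Cfsg.FusionSystem (normalizerIn S U)}
    (hN : F.IsNormalizerSystem U N) {ι : ↥(normalizerIn S U) →* L} (hM : N.IsModel p L ι) :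
    ∀ (P : Subgroup Ω) (hP : P ≤ normalizerIn S U) (f : Ω → Ω)
      (hf : ∀ x ∈ P, f x ∈ normalizerIn S U),
      (IsMap F P f ∧ ExtendsStab F U P f) ↔
        ∃ g : L, ∀ (x : Ω) (hx : x ∈ P), ι ⟨f x, hf x hx⟩ = g * ι ⟨x, hP hx⟩ * g⁻¹ := by
  classical
  obtain ⟨hfin, ⟨hinj, hreal⟩, hsyl, hcore⟩ := hM
  intro P hP f hf
  constructor
  · rintro ⟨⟨φ, hφ, hφf⟩, he⟩
    have hv : ∀ x : P, φ x ∈ normalizerIn S U := fun x => hφf x ▸ hf x x.2
    obtain ⟨g, hg⟩ := (hreal P hP φ hv).mp (by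
      rw [hN P]; exact (mem_normalizerHom hφf).mpr ⟨⟨φ, hφ, hφf⟩, hP, hf, he⟩)
    refine ⟨g, fun x hx => ?_⟩
    rw [← hg ⟨x, hx⟩]
    exact congrArg ι (Subtype.ext (hφf ⟨x, hx⟩).symm)
  · rintro ⟨g, hg⟩
    have hmul : ∀ x y : P, f ↑(x * y) = f x * f y := by
      intro x y
      refine congrArg Subtype.val (a₁ := (⟨_, hf _ (x * y).2⟩ : ↥(normalizerIn S U)))
        (a₂ := ⟨f x, hf x x.2⟩ * ⟨f y, hf y y.2⟩) (hinj ?_)
      rw [map_mul, hg _ (x * y).2, hg _ x.2, hg _ y.2]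
      rw [show (⟨↑(x * y), hP (x * y).2⟩ : ↥(normalizerIn S U)) = ⟨x, hP x.2⟩ * ⟨y, hP y.2⟩
        from Subtype.ext rfl, map_mul]
      group
    let φ : P →* Ω := MonoidHom.mk' (fun x => f x) hmul
    have h1 := (hreal P hP φ (fun x => hf x x.2)).mpr ⟨g, fun x => hg x x.2⟩
    rw [hN P] at h1
    obtain ⟨hm, -, -, he⟩ := (mem_normalizerHom (φ := φ) (f := f) (fun _ => rfl)).mp h1
    exact ⟨hm, he⟩

omit [Fact p.Prime] in
/-- The image of `U` in a model of its normalizer system is normal. -/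
theorem isModel_norm [Finite S] (hU : U ≤ S) {N : Cfsg.FusionSystem (normalizerIn S U)}
    (hN : F.IsNormalizerSystem U N) {ι : ↥(normalizerIn S U) →* L} (hM : N.IsModel p L ι) :
    ((U.subgroupOf (normalizerIn S U)).map ι).Normal := by
  classical
  have hreal' := isModel_realizes hN hM
  obtain ⟨hfin, ⟨hinj, -⟩, ⟨T, hT⟩, hcore⟩ := hM
  have hUN := le_normalizerIn hU
  have hOle : pCore p L ≤ ι.range := hT ▸ Thompson.pCore_le_sylow T
  let K : Subgroup ↥(normalizerIn S U) := (pCore p L).comap ι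
  let R : Subgroup Ω := K.map (normalizerIn S U).subtype ⊔ U
  have hR : R ≤ normalizerIn S U := sup_le (Subgroup.map_subtype_le K) hUN
  have hKR : ∀ k ∈ K, (k : Ω) ∈ R := fun k hk =>
    (le_sup_left (b := U)) (⟨k, hk, rfl⟩ : (k : Ω) ∈ K.map (normalizerIn S U).subtype)
  -- an element fixing the image of `U` pointwise or not, its action on the core
  have key : ∀ g : L, ∃ g' : L, (∀ u : ↥(normalizerIn S U), (u : Ω) ∈ U →
      g' * ι u * g'⁻¹ ∈ (U.subgroupOf (normalizerIn S U)).map ι) ∧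
      g'⁻¹ * g ∈ pCore p L := by
    intro g
    have hgK : ∀ (x : Ω) (hx : x ∈ K.map (normalizerIn S U).subtype),
        g * ι ⟨x, Subgroup.map_subtype_le K hx⟩ * g⁻¹ ∈ ι.range := by
      rintro _ ⟨k, hk, rfl⟩
      exact hOle (Thompson.instPCoreNormal.conj_mem _ hk g)
    choose s hs using hgK
    let f : Ω → Ω := fun x =>
      if hx : x ∈ K.map (normalizerIn S U).subtype then (s x hx : Ω) else 1
    have hf : ∀ x ∈ K.map (normalizerIn S U).subtype, f x ∈ normalizerIn S U := fun x hx => by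
      rw [show f x = s x hx from dif_pos hx]; exact (s x hx).2
    obtain ⟨-, f', hf', hfe, hfU⟩ := (hreal' _ (Subgroup.map_subtype_le K) f hf).mpr ⟨g,
      fun x hx => by
        rw [← hs x hx]
        exact congrArg ι (Subtype.ext (dif_pos hx))⟩
    have hfR : ∀ x ∈ R, f' x ∈ normalizerIn S U := fun x hx =>
      Fusion.map_mem_normalizer hf' le_sup_right hfU hx (hR hx).2
    obtain ⟨g', hg'⟩ := (hreal' R hR f' hfR).mp
      ⟨hf', f', hf'.mono (sup_le le_rfl le_sup_right), fun _ _ => rfl, hfU⟩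
    refine ⟨g', fun u hu => ?_, ?_⟩
    · have huR : (u : Ω) ∈ R := (le_sup_right (a := K.map (normalizerIn S U).subtype)) hu
      rw [← hg' u huR]
      refine ⟨_, ?_, rfl⟩
      rw [SetLike.mem_coe, Subgroup.mem_subgroupOf]
      exact hfU.subset ⟨u, hu, rfl⟩
    · refine hcore fun y hy => ?_
      obtain ⟨k, rfl⟩ := hOle hy
      have hk : (k : Ω) ∈ K.map (normalizerIn S U).subtype := ⟨k, hy, rfl⟩
      have h1 := hg' k (hKR k hy)
      have h2 : (⟨f' k, hfR k (hKR k hy)⟩ : ↥(normalizerIn S U)) = s k hk :=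
        Subtype.ext ((hfe hk).trans (dif_pos hk))
      rw [h2, hs k hk] at h1
      calc ι k * (g'⁻¹ * g) = g'⁻¹ * (g' * ι k * g'⁻¹) * g := by group
        _ = g'⁻¹ * (g * ι k * g⁻¹) * g := by rw [h1]
        _ = g'⁻¹ * g * ι k := by group
  refine ⟨?_⟩
  rintro _ ⟨u, hu, rfl⟩ g
  obtain ⟨g', hg', hgO⟩ := key g
  obtain ⟨s, hs⟩ := hOle hgO
  have hsu : (((s * u * s⁻¹ : ↥(normalizerIn S U))) : Ω) ∈ U :=
    conj_mem_of_mem_normalizer s.2.2 hu
  have h1 := hg' _ hsu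
  rw [map_mul, map_mul, map_inv, hs] at h1
  convert h1 using 1
  group

/-- A model of the normalizer system of a centric subgroup is a local model. -/
theorem IsLocal.of_isModel [Finite S] (hS : IsPGroup p S) (hF : F.IsSaturated p)
    (hC : F.IsCentric U) {N : Cfsg.FusionSystem (normalizerIn S U)}
    (hN : F.IsNormalizerSystem U N) {ι : ↥(normalizerIn S U) →* L} (hM : N.IsModel p L ι) :
    IsLocal F p U ι := by
  classical
  have hreal' := isModel_realizes hN hM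
  have hnorm := isModel_norm hC.1 hN hM
  obtain ⟨hfin, ⟨hinj, -⟩, hsyl, hcore⟩ := hM
  obtain ⟨T, hT⟩ := hsyl
  have hUN := le_normalizerIn hC.1
  have hOle : pCore p L ≤ ι.range := hT ▸ Thompson.pCore_le_sylow T
  let K : Subgroup ↥(normalizerIn S U) := (pCore p L).comap ι
  let R : Subgroup Ω := K.map (normalizerIn S U).subtype ⊔ U
  have hR : R ≤ normalizerIn S U := sup_le (Subgroup.map_subtype_le K) hUN
  have hKR : ∀ k ∈ K, (k : Ω) ∈ R := fun k hk =>
    (le_sup_left (b := U)) (⟨k, hk, rfl⟩ : (k : Ω) ∈ K.map (normalizerIn S U).subtype)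
  have hcent : Subgroup.centralizer (((U.subgroupOf (normalizerIn S U)).map ι : Subgroup L) : Set L)
      ≤ (U.subgroupOf (normalizerIn S U)).map ι := by
    intro g hg
    have hgR : ∀ (x : Ω) (hx : x ∈ R), g * ι ⟨x, hR hx⟩ * g⁻¹ ∈ ι.range := by
      intro x hx
      have : R.subgroupOf (normalizerIn S U) ≤
          (ι.range.comap (MulAut.conj g).toMonoidHom).comap ι := by
        rw [Subgroup.subgroupOf_sup (Subgroup.map_subtype_le K) hUN]
        refine sup_le (fun k hk => ?_) fun u hu => ?_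
        · obtain ⟨k', hk', he⟩ := Subgroup.mem_subgroupOf.mp hk
          rw [← (Subtype.ext he : k' = k)]
          exact hOle (Thompson.instPCoreNormal.conj_mem _ hk' g)
        · refine ⟨u, ?_⟩
          show ι u = g * ι u * g⁻¹
          rw [← hg (ι u) ⟨u, hu, rfl⟩]
          group
      exact this (x := ⟨x, hR hx⟩) hx
    choose s hs using hgR
    let f : Ω → Ω := fun x => if hx : x ∈ R then (s x hx : Ω) else 1
    have hf : ∀ x ∈ R, f x ∈ normalizerIn S U := fun x hx => by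
      rw [show f x = s x hx from dif_pos hx]; exact (s x hx).2
    have hgf : ∀ (x : Ω) (hx : x ∈ R), ι ⟨f x, hf x hx⟩ = g * ι ⟨x, hR hx⟩ * g⁻¹ := fun x hx => by
      rw [← hs x hx]
      exact congrArg ι (Subtype.ext (dif_pos hx))
    obtain ⟨⟨φ, hφ, hφf⟩, -⟩ := (hreal' R hR f hf).mpr ⟨g, hgf⟩
    have hRS := hR.trans (Fusion.normalizerIn_le S U)
    obtain ⟨z, hzU, -, hz⟩ := agree_on_centric hS F hF hC (le_sup_right : U ≤ R)
      (Fusion.subtype_mem (F := F) hRS) hφ (fun x hx => by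
        rw [hφf]
        refine congrArg Subtype.val (a₁ := (⟨f x, hf x x.2⟩ : ↥(normalizerIn S U)))
          (a₂ := ⟨x, hR x.2⟩) (hinj ?_)
        rw [hgf x x.2, ← hg (ι ⟨x, hR x.2⟩) ⟨⟨x, hR x.2⟩, hx, rfl⟩]
        group)
    let zN : ↥(normalizerIn S U) := ⟨z, hR z.2⟩
    have hO : (ι zN)⁻¹ * g ∈ pCore p L := hcore fun y hy => by
      obtain ⟨k, rfl⟩ := hOle hy
      have hk : (k : Ω) ∈ R := hKR k hy
      have h1 := hgf k hk
      have h2 : (⟨f k, hf k hk⟩ : ↥(normalizerIn S U)) = zN * k * zN⁻¹ := by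
        refine Subtype.ext ?_
        show f k = _
        rw [← hφf ⟨k, hk⟩, hz]
        rfl
      rw [h2, map_mul, map_mul, map_inv] at h1
      calc ι k * ((ι zN)⁻¹ * g) = (ι zN)⁻¹ * (ι zN * ι k * (ι zN)⁻¹) * g := by group
        _ = (ι zN)⁻¹ * (g * ι k * g⁻¹) * g := by rw [h1]
        _ = (ι zN)⁻¹ * g * ι k := by group
    obtain ⟨k, hk⟩ := hOle hO
    have hgk : g = ι (zN * k) := by rw [map_mul, hk, mul_inv_cancel_left]
    subst hgk
    refine ⟨_, hC.2 U (isConj_refl hC.1) ⟨Fusion.normalizerIn_le S U (zN * k).2, fun u hu => ?_⟩, rfl⟩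
    have h1 : ι ⟨u, hUN hu⟩ * ι (zN * k) = ι (zN * k) * ι ⟨u, hUN hu⟩ :=
      hg _ ⟨⟨u, hUN hu⟩, hu, rfl⟩
    rw [← map_mul, ← map_mul] at h1
    exact congrArg Subtype.val (hinj h1)
  exact ⟨hfin, ⟨hinj, hUN, hnorm, hcent⟩, ⟨T, hT⟩, hreal'⟩

/-- A local model of a subsystem embeds into a local model of the system. -/
theorem IsLocal.exists_embedding [Finite S] (hS : IsPGroup p S) {T : Subgroup Ω}
    {E : Cfsg.FusionSystem T} {U' : Subgroup Ω} {L' : Type*} [Group L']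
    {ι' : ↥(normalizerIn T U') →* L'} {ι : ↥(normalizerIn S U) →* L}
    (hE : E.IsSubsystemOf F) (hT : T ≤ S) (hUU : U' = U) (h' : IsLocal E p U' ι')
    (h : IsLocal F p U ι) :
    ∃ j : L' →* L, Function.Injective j ∧ ∀ s : ↥(normalizerIn T U'),
      ∀ hs : (s : Ω) ∈ normalizerIn S U, j (ι' s) = ι ⟨s, hs⟩ := by
  subst hUU
  have := h'.fin
  have := h.fin
  have : Finite T := Fusion.finite_of_le hT
  have : Finite U' := Fusion.finite_of_le h.le_S
  have hN : normalizerIn T U' ≤ normalizerIn S U' := inf_le_inf_right _ hT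
  obtain ⟨j, hj, hje⟩ := Fusion92.exists_embedding h'.shape h.shape hN (hS.to_le h.le_S)
    h'.not_dvd_index (fun g R hUR hR f hf => by
      obtain ⟨f', hf', hfU, hfe⟩ := h'.exists_map g hUR hR (fun x hx => ⟨f ⟨x, hx⟩, hf ⟨x, hx⟩⟩)
      obtain ⟨g₂, hg₂⟩ := h.exists_conj hUR (hR.trans hN) (hf'.of_isSubsystemOf hE) hfU
      refine ⟨g₂, fun r => ?_⟩
      obtain ⟨hfx, he⟩ := hfe r r.2
      have h2 : f r = ⟨f' r, hfx⟩ := h'.shape.inj ((hf r).trans he.symm)
      rw [h2]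
      exact hg₂ r r.2 (hN hfx))
  exact ⟨j, hj, fun s hs => hje s⟩

/-- Local models at the same subgroup are isomorphic. -/
theorem IsLocal.exists_iso [Finite S] (hS : IsPGroup p S) {L' : Type*} [Group L']
    {ι' : ↥(normalizerIn S U) →* L'} {ι : ↥(normalizerIn S U) →* L} (h' : IsLocal F p U ι')
    (h : IsLocal F p U ι) :
    ∃ e : L' ≃* L, ∀ s, e (ι' s) = ι s := by
  have := h'.fin
  have := h.fin
  obtain ⟨j, hj, hje⟩ := h'.exists_embedding hS (fun P => Set.Subset.rfl) le_rfl rfl h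
  obtain ⟨k, hk, -⟩ := h.exists_embedding hS (fun P => Set.Subset.rfl) le_rfl rfl h'
  have hb : Function.Bijective j :=
    hj.bijective_of_nat_card_le (Nat.card_le_card_of_injective k hk)
  exact ⟨MulEquiv.ofBijective j hb, fun s => hje s s.2⟩

end Cfsg.Agent.Fusion92
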