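import Cfsg.Agent.Fusion92.Congruence
import Cfsg.Agent.Lib.Thompson.Cores

set_option autoImplicit false

/-! Automorphisms modulo a strongly closed subgroup. -/

namespace Cfsg.Agent.Fusion92

open Cfsg Cfsg.Agent.Fusion
open Cfsg.FusionSystem (normalizerIn centralizerIn)

variable {Ω : Type*} [Group Ω] {S : Subgroup Ω} {F : Cfsg.FusionSystem S} {p : ℕ} {T : Subgroup Ω}

theorem exists_coprime_power {G : Type*} [Group G] [Fact p.Prime] [Finite G] (b : G) :
    ∃ a : ℕ, (orderOf (b ^ p ^ a)).Coprime p := by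
  obtain ⟨a, m, hm, he⟩ :=
    Nat.exists_eq_pow_mul_and_not_dvd (orderOf_pos b).ne' p (Fact.out (p := p.Prime)).ne_one
  refine ⟨a, ?_⟩
  have : orderOf (b ^ p ^ a) ∣ m := by
    apply orderOf_dvd_of_pow_eq_one
    rw [← pow_mul, ← he, pow_orderOf_eq_one]
  exact (((Fact.out (p := p.Prime)).coprime_iff_not_dvd.mpr hm).symm).coprime_dvd_left this

/-- Modulo a strongly closed `T`, an automorphism of `P` of order prime to `p` agrees with an
automorphism of `P ⊔ T` of order prime to `p`. -/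
theorem exists_aut_mod [Finite S] [Fact p.Prime] (hS : IsPGroup p S) (hF : F.IsSaturated p)
    (hT : F.StronglyClosed T) {P : Subgroup Ω} (hP : P ≤ S) {α : MulAut P}
    (hα : α ∈ F.autGroup P) (hc : (orderOf α).Coprime p) :
    ∃ β : MulAut ↥(P ⊔ T), β ∈ F.autGroup (P ⊔ T) ∧ (orderOf β).Coprime p ∧
      ∀ (x : Ω) (hx : x ∈ P),
        ((α ⟨x, hx⟩ : P) : Ω)⁻¹ * ((β ⟨x, le_sup_left (b := T) hx⟩ : ↥(P ⊔ T)) : Ω) ∈ T := by
  have hM : P ⊔ T ≤ S := sup_le hP hT.1
  have : Finite ↥(P ⊔ T) := Fusion.finite_of_le hM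
  have hαi := (mem_autGroup hP).mp hα
  obtain ⟨f, hf, hm⟩ := exists_map_mod hS hF hT hαi.1
  have hval : ∀ z ∈ P ⊔ T, f z ∈ P ⊔ T := by
    intro z hz
    obtain ⟨x, hx, t, ht, rfl⟩ := mem_sup_closed hT hP hz
    rw [hf.map_mul ((le_sup_left (b := T)) hx) ((le_sup_right (a := P)) ht)]
    refine mul_mem ?_ ((le_sup_right (a := P)) (closed_apply hT hf ((le_sup_right (a := P)) ht) ht))
    rw [show f x = autFun α x * ((autFun α x)⁻¹ * f x) by group]
    exact mul_mem ((le_sup_left (b := T)) (hαi.mem hx)) ((le_sup_right (a := P)) (hm x hx))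
  have hfi : IsIso F (P ⊔ T) (P ⊔ T) f := ⟨hf, Set.ext fun y =>
    ⟨fun ⟨x, hx, he⟩ => he ▸ hval x hx, fun hy => surjOn_of_card_le hM hf.injOn hval le_rfl y hy⟩⟩
  obtain ⟨β₀, hβ₀, hβe⟩ := hfi.exists_aut
  -- powers act modulo `T` as the powers of `α`
  have hpow : ∀ (k : ℕ) (x : Ω) (hx : x ∈ P),
      (((α ^ k) ⟨x, hx⟩ : P) : Ω)⁻¹ * (((β₀ ^ k) ⟨x, le_sup_left (b := T) hx⟩ : ↥(P ⊔ T)) : Ω) ∈ T := by
    intro k
    induction k with
    | zero =>
      intro x hx
      simp only [pow_zero, MulAut.one_apply, inv_mul_cancel]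
      exact T.one_mem
    | succ k ih =>
      intro x hx
      rw [pow_succ', pow_succ', MulAut.mul_apply, MulAut.mul_apply, ← autFun_coe β₀,
        hβe (SetLike.coe_mem _)]
      obtain ⟨y, hy⟩ : ∃ y : P, y = (α ^ k) ⟨x, hx⟩ := ⟨_, rfl⟩
      have h1 := ih x hx
      rw [← hy] at h1 ⊢
      set z := (((β₀ ^ k) ⟨x, le_sup_left (b := T) hx⟩ : ↥(P ⊔ T)) : Ω)
      rw [show f z = f ((y : Ω) * ((y : Ω)⁻¹ * z)) by rw [mul_inv_cancel_left],
        hf.map_mul ((le_sup_left (b := T)) y.2) ((le_sup_right (a := P)) h1), ← mul_assoc]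
      refine T.mul_mem ?_ (closed_apply hT hf ((le_sup_right (a := P)) h1) h1)
      rw [← autFun_coe α]
      exact hm y y.2
  have : Finite (MulAut ↥(P ⊔ T)) := Fusion.finite_mulAut _
  obtain ⟨a, ha⟩ := exists_coprime_power (p := p) β₀
  obtain ⟨m, hm'⟩ := exists_pow_eq_self_of_coprime (x := α) (n := p ^ a)
    (Nat.Coprime.pow_left a hc.symm)
  refine ⟨(β₀ ^ p ^ a) ^ m, (F.autGroup (P ⊔ T)).pow_mem ((F.autGroup (P ⊔ T)).pow_mem hβ₀ _) _,
    ha.coprime_dvd_left (orderOf_pow_dvd m), fun x hx => ?_⟩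
  have h1 := hpow (p ^ a * m) x hx
  rw [pow_mul, pow_mul, hm'] at h1
  exact h1

/-- A property of automorphisms that holds for those of order prime to `p` and is closed under
products holds on `O^p`. -/
theorem pResidual_induction {A : Type*} [Group A] [Finite A] (Q : A → Prop) (h1 : Q 1)
    (hgen : ∀ a : A, (orderOf a).Coprime p → Q a) (hmul : ∀ a b, Q a → Q b → Q (a * b)) {a : A}
    (ha : a ∈ pResidual p A) : Q a := by
  have key : ∀ b : A, b ∈ Submonoid.closure {g : A | (orderOf g).Coprime p} → Q b := by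
    intro b hb
    induction hb using Submonoid.closure_induction with
    | mem x hx => exact hgen x hx
    | one => exact h1
    | mul x y _ _ hx hy => exact hmul x y hx hy
  refine key a ?_
  rw [← Subgroup.closure_toSubmonoid_of_finite]
  exact ha

end Cfsg.Agent.Fusion92
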