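import Cfsg.Agent.Fusion92.Basic

set_option autoImplicit false

/-! Maps agreeing on a centric subgroup differ by an element of its centre. -/

namespace Cfsg.Agent.Fusion92

open Cfsg Cfsg.FusionSystem Cfsg.Agent.Fusion91

variable {Ω : Type*} [Group Ω] {S : Subgroup Ω} {p : ℕ}

theorem centralizes_mem_map (F : Cfsg.FusionSystem S) {U R : Subgroup Ω} (hC : F.IsCentric U)
    (hUR : U ≤ R) {φ : R →* Ω} (hφ : φ ∈ F.Hom R) {y : Ω} (hy : y ∈ S)
    (hc : ∀ (u : R), (u : Ω) ∈ U → φ u * y = y * φ u) :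
    ∃ w : R, (w : Ω) ∈ U ∧ φ w = y := by
  have hconj : F.IsConj U (φ.comp (Subgroup.inclusion hUR)).range :=
    ⟨_, restrict_mem F hφ hUR, rfl⟩
  have : y ∈ centralizerIn S (φ.comp (Subgroup.inclusion hUR)).range := by
    refine ⟨hy, ?_⟩
    rintro _ ⟨u, rfl⟩
    exact hc _ u.2
  obtain ⟨u, hu⟩ := hC.2 _ hconj this
  exact ⟨Subgroup.inclusion hUR u, u.2, hu⟩

theorem agree_step [Finite S] [Fact p.Prime] (hS : IsPGroup p S) (F : Cfsg.FusionSystem S)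
    (hF : F.IsSaturated p) {U R R₀ : Subgroup Ω} (hC : F.IsCentric U) (hU₀ : U ≤ R₀)
    (h₀ : R₀ ≤ R) (hn : ∀ r ∈ R, ∀ x ∈ R₀, r * x * r⁻¹ ∈ R₀)
    {φ ψ : R →* Ω} (hφ : φ ∈ F.Hom R) (hψ : ψ ∈ F.Hom R)
    (heq : ∀ x : R, (x : Ω) ∈ R₀ → ψ x = φ x) :
    ∃ z : R, (z : Ω) ∈ U ∧ (∀ u ∈ U, (z : Ω) * u = u * z) ∧ ∀ x : R, ψ x = φ (z * x * z⁻¹) := by
  have hUR : U ≤ R := hU₀.trans h₀
  have hRS : R ≤ S := dom_le F hφ
  have : Finite R := finite_of_le hRS
  -- write `ψ r = φ (r * w r)` with `w r` central in `U`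
  have hw : ∀ r : R, ∃ w : R, (w : Ω) ∈ U ∧ (∀ u ∈ U, (w : Ω) * u = u * w) ∧
      ψ r = φ (r * w) := by
    intro r
    have hcomm : ∀ x : R, (x : Ω) ∈ R₀ → φ x * ((φ r)⁻¹ * ψ r) = (φ r)⁻¹ * ψ r * φ x := by
      intro x hx
      have h1 := heq (r * x * r⁻¹) (hn r r.2 x hx)
      simp only [map_mul, map_inv, heq x hx] at h1
      calc φ x * ((φ r)⁻¹ * ψ r) = (φ r)⁻¹ * (φ r * φ x * (φ r)⁻¹) * ψ r := by group
        _ = (φ r)⁻¹ * (ψ r * φ x * (ψ r)⁻¹) * ψ r := by rw [h1]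
        _ = (φ r)⁻¹ * ψ r * φ x := by group
    have hyS : (φ r)⁻¹ * ψ r ∈ S := S.mul_mem (S.inv_mem (val_mem F hφ r)) (val_mem F hψ r)
    obtain ⟨w, hwU, hw⟩ := centralizes_mem_map F hC hUR hφ hyS (fun u hu => hcomm u (hU₀ hu))
    refine ⟨w, hwU, fun u hu => ?_, ?_⟩
    · have h2 := hcomm ⟨u, hUR hu⟩ (hU₀ hu)
      rw [← hw, ← map_mul, ← map_mul] at h2
      exact (congrArg Subtype.val (F.injective_of_mem hφ h2)).symm
    · rw [map_mul, hw, mul_inv_cancel_left]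
  choose w hwU hwc hwe using hw
  obtain ⟨θ, hθ, hθi⟩ := F.inv_mem hφ
  obtain ⟨χ, hχ, hχe⟩ := exists_comp F hψ hθ (fun r => ⟨r * w r, (hwe r).symm⟩)
  have hχv : ∀ r : R, χ r = ((r * w r : R) : Ω) := fun r => by
    rw [hχe]
    have : (⟨ψ r, ⟨r * w r, (hwe r).symm⟩⟩ : φ.range) = ⟨φ (r * w r), ⟨_, rfl⟩⟩ :=
      Subtype.ext (hwe r)
    rw [this, hθi]
  have hχR : ∀ r : R, χ r ∈ R := fun r => hχv r ▸ (r * w r).2
  let ε : MulAut R := MulEquiv.ofBijective (χ.codRestrict R hχR)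
    (Finite.injective_iff_bijective.mp fun a b h =>
      F.injective_of_mem hχ (congrArg Subtype.val h))
  have hεe : autHom ε = χ := MonoidHom.ext fun r => rfl
  have hεA : ε ∈ F.autGroup R := (mem_autGroup_iff F hRS).mpr (hεe ▸ hχ)
  have hεv : ∀ r : R, ε r = r * w r := fun r => Subtype.ext (hχv r)
  have hw1 : ∀ r : R, (r : Ω) ∈ R₀ → w r = 1 := by
    intro r hr
    have h1 := hwe r
    rw [heq r hr] at h1
    exact mul_left_cancel ((F.injective_of_mem hφ h1).symm.trans (mul_one r).symm)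
  have hεpow : ∀ (k : ℕ) (r : R), (ε ^ k) r = r * w r ^ k := by
    intro k r
    induction k with
    | zero => simp
    | succ k ih =>
      rw [pow_succ', MulAut.mul_apply, ih, map_mul, map_pow, hεv r, hεv (w r),
        hw1 (w r) (hU₀ (hwU r)), mul_one, mul_assoc, ← pow_succ']
  obtain ⟨n, hn'⟩ := (isPGroup_of_le hS hRS).exists_card_eq
  have hεp : (⟨ε, hεA⟩ : F.autGroup R) ^ (p ^ n) = 1 := by
    refine Subtype.ext (MulEquiv.ext fun r => ?_)
    show (ε ^ p ^ n) r = r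
    rw [hεpow, ← hn', pow_card_eq_one', mul_one]
  -- pass to a fully automized conjugate
  obtain ⟨R', ⟨γ, hγ, rfl⟩, ⟨-, P, hP⟩, -⟩ := hF R hRS
  obtain ⟨γi, hγi, hγie⟩ := F.inv_mem hγ
  let e : R ≃* γ.range := MonoidHom.ofInjective (F.injective_of_mem hγ)
  let ε' : MulAut γ.range := (e.symm.trans ε).trans e
  have hε'A : ε' ∈ F.autGroup γ.range := by
    refine (mem_autGroup_iff F (range_le_S F hγ)).mpr ?_
    have hval : ∀ y : γ.range, γi y = (e.symm y : Ω) := by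
      intro y
      obtain ⟨x, rfl⟩ := e.surjective y
      rw [e.symm_apply_apply]
      exact hγie x
    obtain ⟨a, ha, hae⟩ := exists_comp F hγi hχ (fun y => by rw [hval]; exact (e.symm y).2)
    obtain ⟨b, hb, hbe⟩ := exists_comp F ha hγ (fun y => by rw [hae]; exact hχR _)
    convert hb using 1
    refine MonoidHom.ext fun y => ?_
    rw [hbe]
    show γ (ε (e.symm y)) = _
    congr 1
    apply Subtype.ext
    show χ (e.symm y) = a y
    rw [hae]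
    congr 1
    exact Subtype.ext (hval y).symm
  have hε'p : ∃ k : ℕ, (⟨ε', hε'A⟩ : F.autGroup γ.range) ^ (p ^ k) = 1 := by
    refine ⟨n, Subtype.ext ?_⟩
    have key : ∀ k : ℕ, ε' ^ k = (e.symm.trans (ε ^ k)).trans e := by
      intro k
      induction k with
      | zero => ext y; simp
      | succ k ih => ext y; simp [pow_succ', MulAut.mul_apply, ih, ε']
    show ε' ^ p ^ n = 1
    have h0 : ε ^ p ^ n = 1 := congrArg Subtype.val hεp
    rw [key, h0]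
    ext y
    simp
  have : Finite γ.range := finite_of_le (range_le_S F hγ)
  have : Finite (F.autGroup γ.range) := finite_autGroup F _
  obtain ⟨β, hβ⟩ := exists_conj_mem_sylow P hε'p
  rw [hP, Subgroup.mem_subgroupOf, mem_autInducedBy_iff] at hβ
  obtain ⟨s, hs, hse⟩ := hβ
  -- the map `γ₂ = β ∘ γ`
  obtain ⟨γ₂, hγ₂, hγ₂e⟩ := exists_comp F hγ (autHom_mem F (range_le_S F hγ) β.2)
    (fun x => ⟨x, rfl⟩)
  have hconjg : ∀ x : R, γ₂ (ε x) = s * γ₂ x * s⁻¹ := by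
    intro x
    have h1 := hse ((β : MulAut γ.range) (e x))
    simp only [hγ₂e]
    convert h1 using 1
    · show (((β : MulAut γ.range) (e (ε x)) : γ.range) : Ω) =
        (((β : MulAut γ.range) * ε' * (β : MulAut γ.range)⁻¹)
          ((β : MulAut γ.range) (e x)) : γ.range)
      simp [MulAut.mul_apply, ε']
    · rfl
  obtain ⟨z, hzU, hz⟩ := centralizes_mem_map F hC hUR hγ₂ hs (fun u hu => by
    have h1 := hconjg u
    rw [hεv, hw1 u (hU₀ hu), mul_one] at h1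
    nth_rewrite 1 [h1]
    group)
  refine ⟨z, hzU, fun u hu => ?_, fun x => ?_⟩
  · have h1 := hconjg ⟨u, hUR hu⟩
    rw [hεv, hw1 _ (hU₀ hu), mul_one, ← hz, ← map_inv, ← map_mul, ← map_mul] at h1
    have h2 : (u : Ω) = z * u * (z : Ω)⁻¹ := congrArg Subtype.val (F.injective_of_mem hγ₂ h1)
    calc (z : Ω) * u = z * u * (z : Ω)⁻¹ * z := by group
      _ = u * z := by rw [← h2]
  · have h1 := hconjg x
    rw [← hz, ← map_inv, ← map_mul, ← map_mul] at h1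
    rw [hwe, ← hεv, F.injective_of_mem hγ₂ h1]

/-- Two maps of a saturated system on `R` that agree on a centric subgroup `U ≤ R` differ by
conjugation with an element of the centre of `U`. -/
theorem agree_on_centric [Finite S] [Fact p.Prime] (hS : IsPGroup p S) (F : Cfsg.FusionSystem S)
    (hF : F.IsSaturated p) {U : Subgroup Ω} (hC : F.IsCentric U) :
    ∀ {R : Subgroup Ω}, U ≤ R → ∀ {φ ψ : R →* Ω}, φ ∈ F.Hom R → ψ ∈ F.Hom R →
      (∀ x : R, (x : Ω) ∈ U → ψ x = φ x) →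
      ∃ z : R, (z : Ω) ∈ U ∧ (∀ u ∈ U, (z : Ω) * u = u * z) ∧ ∀ x : R, ψ x = φ (z * x * z⁻¹) := by
  intro R
  induction' hn : Nat.card R using Nat.strong_induction_on with n ih generalizing R
  intro hUR φ ψ hφ hψ heq
  have hRS : R ≤ S := dom_le F hφ
  have : Finite R := finite_of_le hRS
  by_cases hne : U = R
  · refine ⟨1, U.one_mem, fun u _ => by simp, fun x => ?_⟩
    rw [one_mul, inv_one, mul_one]
    exact heq x (hne.symm ▸ x.2)
  obtain ⟨R₀, hU₀, h₀, hnorm⟩ := exists_maximal_above (isPGroup_of_le hS hRS) hUR hne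
  have hlt : Nat.card R₀ < n := hn ▸ (Set.ncard_lt_ncard (SetLike.coe_ssubset_coe.mpr h₀) (Set.toFinite _))
  obtain ⟨z₀, hz₀U, hz₀c, hz₀⟩ := ih _ hlt rfl hU₀ (restrict_mem F hφ h₀.le)
    (restrict_mem F hψ h₀.le) (fun x hx => heq _ hx)
  let z₁ : R := Subgroup.inclusion h₀.le z₀
  obtain ⟨φ₁, hφ₁, hφ₁e⟩ := exists_comp F (F.conj_mem hRS (hRS z₁.2)) hφ
    (fun x => R.mul_mem (R.mul_mem z₁.2 x.2) (R.inv_mem z₁.2))
  have hφ₁v : ∀ x : R, φ₁ x = φ (z₁ * x * z₁⁻¹) := fun x => hφ₁e x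
  obtain ⟨z, hzU, hzc, hz⟩ := agree_step hS F hF hC hU₀ h₀.le hnorm hφ₁ hψ (fun x hx => by
    rw [hφ₁v]
    exact hz₀ ⟨x, hx⟩)
  refine ⟨z₁ * z, U.mul_mem hz₀U hzU, fun u hu => ?_, fun x => ?_⟩
  · show (z₀ : Ω) * z * u = u * ((z₀ : Ω) * z)
    rw [mul_assoc, hzc u hu, ← mul_assoc, hz₀c u hu, mul_assoc]
  · rw [hz, hφ₁v]
    congr 1
    group

end Cfsg.Agent.Fusion92
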