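import Cfsg.Agent.Lib.Thompson.Cores
import Cfsg.Agent.Lib.Transfer.Residual

set_option autoImplicit false

/-! Groups of characteristic `p` with a normal `p`-complement. -/

namespace Cfsg.Agent.Fusion92

open Cfsg

theorem isPGroup_of_complement {G : Type*} [Group G] [Finite G] {p : ℕ} [Fact p.Prime]
    (h : HasNormalPComplement p G)
    (hc : Subgroup.centralizer ((pCore p G : Subgroup G) : Set G) ≤ pCore p G) : IsPGroup p G := by
  haveI : (pCore p G).Normal := inferInstance
  set K := pResidual p G with hKdef
  haveI hK : K.Normal := Transfer.pResidual_normal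
  have hdis : Disjoint K (pCore p G) := by
    refine disjoint_iff.mpr ((Subgroup.eq_bot_iff_forall _).mpr fun x hx => ?_)
    exact Transfer.eq_one_of_coprime_of_mem Thompson.isPGroup_pCore hx.2
      ((Transfer.mem_pResidual_iff_coprime h).mp hx.1)
  have hle : K ≤ pCore p G := fun k hk => hc (Subgroup.mem_centralizer_iff.mpr fun o ho =>
    (Subgroup.commute_of_normal_of_disjoint _ _ hK inferInstance hdis k o hk ho).symm)
  intro g
  obtain ⟨m, hm⟩ := Transfer.isPGroup_quotient_pResidual (p := p) (QuotientGroup.mk' K g)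
  rw [← map_pow] at hm
  obtain ⟨j, hj⟩ := Thompson.isPGroup_pCore (p := p)
    ⟨_, hle ((QuotientGroup.eq_one_iff _).mp hm)⟩
  exact ⟨m + j, by rw [pow_add, pow_mul]; exact congrArg Subtype.val hj⟩

theorem hasNormalPComplement_of_le_sylow {G : Type*} [Group G] [Finite G] {p : ℕ} [Fact p.Prime]
    {P : Sylow p G} {N : Subgroup G} (h : N ≤ P) : HasNormalPComplement p N :=
  Transfer.hasNormalPComplement_of_isPGroup (P.2.to_le h)

end Cfsg.Agent.Fusion92
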