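import Mathlib.GroupTheory.QuotientGroup.Basic
import Mathlib.GroupTheory.PGroup
import Mathlib.Algebra.Group.Subgroup.Basic
import Mathlib.GroupTheory.Sylow

set_option autoImplicit false

/-! A functor on `p`-groups read in a section `A/B`. -/

namespace Cfsg.Agent.Fusion92

universe u

variable (W : ∀ (Q : Type u) [Group Q], Subgroup Q)

/-- The preimage in `A` of `W(A/B)`; for `B` normal in `A`. -/
def secW {G : Type u} [Group G] (A B : Subgroup G) : Subgroup G :=
  ((W (↥A ⧸ (B.subgroupOf A).normalCore)).comap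
    (QuotientGroup.mk' (B.subgroupOf A).normalCore)).map A.subtype

/-- The invariance of `W`. -/
def IsInvariantW (p : ℕ) (W : ∀ (Q : Type u) [Group Q], Subgroup Q) : Prop :=
  ∀ (Q R : Type u) [Group Q] [Group R] [Finite Q], IsPGroup p Q → ∀ φ : Q ≃* R,
    (W Q).map φ.toMonoidHom = W R

variable {W}

theorem secW_le {G : Type u} [Group G] (A B : Subgroup G) : secW W A B ≤ A :=
  Subgroup.map_subtype_le _

theorem le_secW {G : Type u} [Group G] {A B : Subgroup G} (hBA : B ≤ A)
    (hn : (B.subgroupOf A).Normal) : B ≤ secW W A B := by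
  intro b hb
  refine ⟨⟨b, hBA hb⟩, ?_, rfl⟩
  rw [SetLike.mem_coe, Subgroup.mem_comap,
    show QuotientGroup.mk' (B.subgroupOf A).normalCore ⟨b, hBA hb⟩ = 1 from
      (QuotientGroup.eq_one_iff _).mpr (by rw [Subgroup.normalCore_eq_self]; exact hb)]
  exact one_mem _

theorem le_normalizer_secW {G : Type u} [Group G] (A B : Subgroup G)
    (hW : (W (↥A ⧸ (B.subgroupOf A).normalCore)).Normal) :
    A ≤ Subgroup.normalizer (secW W A B : Set G) := by
  intro a ha
  refine Subgroup.le_normalizer_map A.subtype ⟨⟨a, ha⟩, ?_, rfl⟩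
  rw [Subgroup.normalizer_eq_top_iff.mpr (hW.comap _)]
  trivial

/-- Transport of `secW` along an injective homomorphism defined on `A`. -/
theorem secW_map {p : ℕ} (hW : IsInvariantW p W) {G H : Type u} [Group G] [Group H]
    {A B : Subgroup G} [Finite A] (hA : IsPGroup p A) (φ : A →* H) (hφ : Function.Injective φ) :
    ((secW W A B).subgroupOf A).map φ = secW W φ.range ((B.subgroupOf A).map φ) := by
  let e : A ≃* φ.range := MonoidHom.ofInjective hφ
  have hB : ((B.subgroupOf A).map φ).subgroupOf φ.range = (B.subgroupOf A).map e.toMonoidHom := by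
    ext x
    rw [Subgroup.mem_subgroupOf]
    constructor
    · rintro ⟨b, hb, he⟩
      exact ⟨b, hb, Subtype.ext he⟩
    · rintro ⟨b, hb, rfl⟩
      exact ⟨b, hb, rfl⟩
  have hcore : (((B.subgroupOf A).map φ).subgroupOf φ.range).normalCore =
      (B.subgroupOf A).normalCore.map e.toMonoidHom := by
    rw [hB]
    refine le_antisymm ?_ ?_
    · intro x hx
      obtain ⟨a, rfl⟩ := e.surjective x
      refine ⟨a, fun b => ?_, rfl⟩
      obtain ⟨c, hc, he⟩ := hx (e b)
      rw [show b * a * b⁻¹ = c from e.injective (by rw [map_mul, map_mul, map_inv]; exact he.symm)]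
      exact hc
    · haveI : ((B.subgroupOf A).normalCore.map e.toMonoidHom).Normal :=
        (Subgroup.normalCore_normal _).map _ e.surjective
      exact Subgroup.normal_le_normalCore.mpr (Subgroup.map_mono (Subgroup.normalCore_le _))
  let ē : (↥A ⧸ (B.subgroupOf A).normalCore) ≃*
      (↥φ.range ⧸ (((B.subgroupOf A).map φ).subgroupOf φ.range).normalCore) :=
    QuotientGroup.congr _ _ e hcore.symm
  have hinv := hW _ _ (hA.to_quotient _) ē
  refine le_antisymm ?_ ?_
  · rintro _ ⟨a, ha, rfl⟩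
    obtain ⟨a', ha', he⟩ := Subgroup.mem_subgroupOf.mp ha
    rw [(Subtype.ext he : a' = a)] at ha'
    refine ⟨e a, ?_, rfl⟩
    rw [SetLike.mem_coe, Subgroup.mem_comap, ← hinv]
    exact ⟨_, ha', rfl⟩
  · rintro _ ⟨x, hx, rfl⟩
    obtain ⟨a, rfl⟩ := e.surjective x
    rw [SetLike.mem_coe, Subgroup.mem_comap, ← hinv] at hx
    obtain ⟨w, hw, he⟩ := hx
    refine ⟨a, Subgroup.mem_subgroupOf.mpr ⟨a, ?_, rfl⟩, rfl⟩
    rw [SetLike.mem_coe, Subgroup.mem_comap]
    rwa [show QuotientGroup.mk' _ a = w from ē.injective he.symm]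

theorem lt_secW {p : ℕ} [Fact p.Prime]
    (hW1 : ∀ (Q : Type u) [Group Q] [Finite Q], IsPGroup p Q → Nontrivial Q → W Q ≠ ⊥)
    {G : Type u} [Group G] {A B : Subgroup G} [Finite A] (hA : IsPGroup p A) (hBA : B ≤ A)
    (hne : B ≠ A) (hn : (B.subgroupOf A).Normal) : B < secW W A B := by
  refine lt_of_le_of_ne (le_secW hBA hn) fun h => ?_
  have hnt : Nontrivial (↥A ⧸ (B.subgroupOf A).normalCore) := by
    obtain ⟨a, ha, haB⟩ := SetLike.exists_of_lt (lt_of_le_of_ne hBA hne)
    refine ⟨QuotientGroup.mk ⟨a, ha⟩, 1, fun h => haB ?_⟩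
    have h1 := (QuotientGroup.eq_one_iff _).mp h
    rw [Subgroup.normalCore_eq_self] at h1
    exact h1
  refine hW1 _ (hA.to_quotient _) hnt (Subgroup.eq_bot_iff_forall _ |>.mpr fun x hx => ?_)
  obtain ⟨a, rfl⟩ := QuotientGroup.mk'_surjective _ x
  have : (a : G) ∈ B := h ▸ ⟨a, hx, rfl⟩
  exact (QuotientGroup.eq_one_iff a).mpr (by rw [Subgroup.normalCore_eq_self]; exact this)

/-- `W` of a `p`-group is invariant under automorphisms. -/
theorem normal_W {p : ℕ} (hW : IsInvariantW p W) (Q : Type u) [Group Q] [Finite Q]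
    (hQ : IsPGroup p Q) : (W Q).Normal := by
  refine ⟨fun x hx g => ?_⟩
  have h := hW Q Q hQ (MulAut.conj g)
  rw [← h]
  exact ⟨x, hx, rfl⟩

/-- Automorphism-invariance of `secW`. -/
theorem secW_map_of_map {p : ℕ} (hW : IsInvariantW p W) {G : Type u} [Group G] {A B : Subgroup G}
    [Finite A] (hA : IsPGroup p A) (φ : A →* G) (hφ : Function.Injective φ) (hr : φ.range = A)
    (hB : (B.subgroupOf A).map φ = B) : ((secW W A B).subgroupOf A).map φ = secW W A B := by
  rw [secW_map hW hA φ hφ, hr, hB]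

/-- In the quotient, `secW` becomes `W`. -/
theorem map_secW_quotient {p : ℕ} (hW : IsInvariantW p W) {L : Type u} [Group L] (P Q₀ : Subgroup L)
    [Q₀.Normal] [Finite P] (hP : IsPGroup p P) :
    (secW W P Q₀).map (QuotientGroup.mk' Q₀) =
      (W ↥(P.map (QuotientGroup.mk' Q₀))).map (P.map (QuotientGroup.mk' Q₀)).subtype := by
  let π : P →* ↥(P.map (QuotientGroup.mk' Q₀)) := (QuotientGroup.mk' Q₀).subgroupMap P
  have hπ : Function.Surjective π := (QuotientGroup.mk' Q₀).subgroupMap_surjective P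
  have hker : π.ker = (Q₀.subgroupOf P).normalCore := by
    rw [Subgroup.normalCore_eq_self]
    ext x
    rw [MonoidHom.mem_ker, Subgroup.mem_subgroupOf]
    exact ⟨fun h => (QuotientGroup.eq_one_iff _).mp (congrArg Subtype.val h),
      fun h => Subtype.ext ((QuotientGroup.eq_one_iff _).mpr h)⟩
  let ē := (QuotientGroup.quotientMulEquivOfEq hker.symm).trans
    (QuotientGroup.quotientKerEquivOfSurjective π hπ)
  have hē : ∀ a : P, ē (QuotientGroup.mk' _ a) = π a := fun a => rfl
  have hinv := hW _ _ (hP.to_quotient _) ē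
  refine le_antisymm ?_ ?_
  · rintro _ ⟨_, ⟨a, ha, rfl⟩, rfl⟩
    exact ⟨π a, hinv ▸ ⟨_, ha, hē a⟩, rfl⟩
  · rintro _ ⟨x, hx, rfl⟩
    obtain ⟨a, rfl⟩ := hπ x
    rw [SetLike.mem_coe, ← hinv] at hx
    obtain ⟨w, hw, he⟩ := hx
    refine ⟨a, ⟨a, ?_, rfl⟩, rfl⟩
    rw [SetLike.mem_coe, Subgroup.mem_comap]
    rwa [show QuotientGroup.mk' _ a = w from ē.injective ((hē a).trans he.symm)]

/-- The section over the trivial subgroup. -/
theorem secW_bot {p : ℕ} (hW : IsInvariantW p W) {G : Type u} [Group G] (A : Subgroup G) [Finite A]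
    (hA : IsPGroup p A) : secW W A ⊥ = (W ↥A).map A.subtype := by
  have hbot : ((⊥ : Subgroup G).subgroupOf A).normalCore = ⊥ := by
    rw [Subgroup.bot_subgroupOf]
    exact le_bot_iff.mp (Subgroup.normalCore_le _)
  let e := (QuotientGroup.quotientMulEquivOfEq hbot).trans QuotientGroup.quotientBot
  have he : ∀ a : A, e (QuotientGroup.mk' _ a) = a := fun a => rfl
  have hinv := hW _ _ (hA.to_quotient _) e
  refine le_antisymm ?_ ?_
  · rintro _ ⟨a, ha, rfl⟩
    exact ⟨a, hinv ▸ ⟨_, ha, he a⟩, rfl⟩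
  · rintro _ ⟨a, ha, rfl⟩
    rw [SetLike.mem_coe, ← hinv] at ha
    obtain ⟨w, hw, hwe⟩ := ha
    refine ⟨a, ?_, rfl⟩
    rw [SetLike.mem_coe, Subgroup.mem_comap]
    rwa [show QuotientGroup.mk' _ a = w from e.injective ((he a).trans hwe.symm)]

end Cfsg.Agent.Fusion92
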