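import Cfsg.Agent.Fusion92.Radical
import Cfsg.Agent.Lib.Coprime.Action

set_option autoImplicit false

/-! The local models of a normalizer system are subgroups of local models of the system. -/

namespace Cfsg.Agent.Fusion92

open Cfsg Cfsg.Agent.Fusion
open Cfsg.FusionSystem (normalizerIn centralizerIn)

universe u v

variable {Ω : Type u} [Group Ω] {S : Subgroup Ω} {F : Cfsg.FusionSystem S} {p : ℕ} [Fact p.Prime]
  {Q U : Subgroup Ω}

theorem mem_normalizer_sup {G : Type*} [Group G] {A B : Subgroup G} {x : G}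
    (hA : x ∈ Subgroup.normalizer (A : Set G)) (hB : x ∈ Subgroup.normalizer (B : Set G)) :
    x ∈ Subgroup.normalizer ((A ⊔ B : Subgroup G) : Set G) := by
  rw [Subgroup.mem_normalizer_iff_map_conj_eq, Subgroup.map_sup,
    Subgroup.mem_normalizer_iff_map_conj_eq.mp hA, Subgroup.mem_normalizer_iff_map_conj_eq.mp hB]

/-- A map of `F` on a subgroup containing `Q` and stabilizing it is a map of the normalizer
system. -/
theorem isMap_normalizerSystem {N : Cfsg.FusionSystem (normalizerIn S Q)}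
    (hN : F.IsNormalizerSystem Q N) {P : Subgroup Ω} (hQP : Q ≤ P) (hP : P ≤ normalizerIn S Q)
    {f : Ω → Ω} (hf : IsMap F P f) (hQ : f '' (Q : Set Ω) = (Q : Set Ω)) : IsMap N P f :=
  (IsNormalizerSystem.isMap_iff hN).mpr ⟨hf, hP,
    fun x hx => Fusion.map_mem_normalizer hf hQP hQ hx (hP hx).2,
    f, hf.mono (sup_le le_rfl hQP), fun _ _ => rfl, hQ⟩

/-- Together with `Q`, a centric subgroup of the normalizer system is centric in the system. -/
theorem isCentric_sup [Finite S] (hS : IsPGroup p S) (hF : F.IsSaturated p)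
    (hQ : F.IsFullyNormalized Q) {N : Cfsg.FusionSystem (normalizerIn S Q)}
    (hN : F.IsNormalizerSystem Q N) (hU : N.IsCentric U) : F.IsCentric (U ⊔ Q) := by
  have hQN : Q ≤ normalizerIn S Q := Fusion.le_normalizerIn hQ.1
  have hWN : U ⊔ Q ≤ normalizerIn S Q := sup_le hU.1 hQN
  have hWc : N.IsCentric (U ⊔ Q) := Fus93.isCentric_of_le hU le_sup_left hWN
  refine ⟨hWN.trans (Fusion.normalizerIn_le S Q), fun W' hW' x hx => ?_⟩
  obtain ⟨f, hf⟩ := isConj_iff.mp hW'
  obtain ⟨Q', hQ'W, hfQ⟩ := hf.restrict (le_sup_right (a := U))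
  obtain ⟨α, hα, hαQ, hαN⟩ := exists_normalizer_map hS
    (fullyAutomized_of_fullyNormalized hS hF hQ) (receptive_of_fullyNormalized hS hF hQ)
    (isConj_symm hfQ.isConj)
  have hW'N : W' ≤ normalizerIn S Q' := fun y hy => by
    obtain ⟨w, hw, rfl⟩ := hf.exists_preimage hy
    exact Fusion.map_mem_normalizer hf.1 le_sup_right hfQ.2 hw (hWN hw).2
  have hk : IsMap F (U ⊔ Q) (α ∘ f) := hf.comp_map (hα.mono hW'N)
  have hkQ : (α ∘ f) '' (Q : Set Ω) = (Q : Set Ω) := (hfQ.comp hαQ).2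
  obtain ⟨W'', hW''⟩ := (isMap_normalizerSystem hN le_sup_right hWN hk hkQ).exists_image
  have hxN : x ∈ normalizerIn S Q' := ⟨hx.1, Subgroup.centralizer_le_normalizer _
    (Subgroup.centralizer_le hQ'W hx.2)⟩
  have hαx : α x ∈ W'' := hWc.2 W'' hW''.isConj ⟨hαN x hxN, Subgroup.mem_centralizer_iff.mpr
    fun y hy => by
      obtain ⟨w, hw, rfl⟩ := hW''.exists_preimage hy
      simp only [Function.comp_apply]
      rw [← hα.map_mul (hW'N (hf.mem hw)) hxN, ← hα.map_mul hxN (hW'N (hf.mem hw)),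
        Subgroup.mem_centralizer_iff.mp hx.2 (f w) (hf.mem hw)]⟩
  obtain ⟨w, hw, he⟩ := hW''.exists_preimage hαx
  rw [← hα.injOn (hW'N (hf.mem hw)) hxN he]
  exact hf.mem hw

/-- A local model of the normalizer system is a subgroup of a local model of the system. -/
theorem exists_normalizer_embedding [Finite S] (hS : IsPGroup p S) (hF : F.IsSaturated p)
    (hQ : F.IsFullyNormalized Q) {N : Cfsg.FusionSystem (normalizerIn S Q)}
    (hN : F.IsNormalizerSystem Q N) (hUC : N.IsCentric U) {L : Type v} [Group L]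
    {ι : ↥(normalizerIn (normalizerIn S Q) U) →* L} (h : IsLocal N p U ι) :
    ∃ (W : Subgroup Ω) (L' : Type u) (_ : Group L') (ι' : ↥(normalizerIn S W) →* L'),
      F.IsFullyNormalized W ∧ F.IsCentric W ∧ IsLocal F p W ι' ∧
        ∃ j : L →* L', Function.Injective j := by
  have := h.fin
  have hQN : Q ≤ normalizerIn S Q := Fusion.le_normalizerIn hQ.1
  have hUN : U ≤ normalizerIn S Q := hUC.1
  have hWC : F.IsCentric (U ⊔ Q) := isCentric_sup hS hF hQ hN hUC
  haveI : Finite U := Fusion.finite_of_le (hUN.trans (Fusion.normalizerIn_le S Q))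
  haveI : Finite Q := Fusion.finite_of_le hQ.1
  haveI : Finite (normalizerIn S Q) := Fusion.finite_of_le (Fusion.normalizerIn_le S Q)
  obtain ⟨W', hWW', hW'N⟩ := exists_fullyNormalized (F := F) hWC.1
  have hW'C : F.IsCentric W' := Fus93.isCentric_of_isConj hWC hWW'
  obtain ⟨L', hG', hL', ι', h'⟩ := exists_isLocal hS hF hW'C hW'N
  obtain ⟨γ, hγ, hγW, hγN⟩ := exists_normalizer_map hS
    (fullyAutomized_of_fullyNormalized hS hF hW'N) (receptive_of_fullyNormalized hS hF hW'N) hWW'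
  have hW'le : W' ≤ normalizerIn S W' := Fusion.le_normalizerIn hW'C.1
  have hWle : U ⊔ Q ≤ normalizerIn S (U ⊔ Q) := Fusion.le_normalizerIn hWC.1
  let γN : ↥(normalizerIn S (U ⊔ Q)) →* ↥(normalizerIn S W') :=
    MonoidHom.mk' (fun x => ⟨γ x, hγN x x.2⟩) fun x y => Subtype.ext (hγ.map_mul x.2 y.2)
  let κ : ↥(normalizerIn S (U ⊔ Q)) →* L' := ι'.comp γN
  have hκ : Function.Injective κ := h'.shape.inj.comp fun x y hxy =>
    Subtype.ext (hγ.injOn x.2 y.2 (congrArg Subtype.val hxy))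
  let A : Subgroup L' := (U.subgroupOf (normalizerIn S (U ⊔ Q))).map κ
  let B : Subgroup L' := (Q.subgroupOf (normalizerIn S (U ⊔ Q))).map κ
  have hAB : A ⊔ B = (W'.subgroupOf (normalizerIn S W')).map ι' := by
    show A ⊔ B = _
    rw [← Subgroup.map_sup, ← Subgroup.subgroupOf_sup (le_sup_left.trans hWle)
      (le_sup_right.trans hWle), ← Subgroup.map_map]
    congr 1
    refine le_antisymm ?_ fun y hy => ?_
    · rintro _ ⟨x, hx, rfl⟩
      exact hγW.mem hx
    · obtain ⟨x, hx, he⟩ := hγW.exists_preimage hy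
      exact ⟨⟨x, hWle hx⟩, hx, Subtype.ext he⟩
  have hAp : IsPGroup p A :=
    ((hS.to_le (Fusion.normalizerIn_le S (U ⊔ Q))).to_subgroup _).map κ
  have hBp : IsPGroup p B :=
    ((hS.to_le (Fusion.normalizerIn_le S (U ⊔ Q))).to_subgroup _).map κ
  let M : Subgroup L' := Subgroup.normalizer (A : Set L') ⊓ Subgroup.normalizer (B : Set L')
  have hN1 : normalizerIn (normalizerIn S Q) U ≤ normalizerIn S (U ⊔ Q) := fun x hx =>
    ⟨hx.1.1, mem_normalizer_sup hx.2 hx.1.2⟩
  have hκM : ∀ x : ↥(normalizerIn (normalizerIn S Q) U), κ (Subgroup.inclusion hN1 x) ∈ M := by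
    intro x
    have key : ∀ C : Subgroup Ω, (x : Ω) ∈ Subgroup.normalizer (C : Set Ω) →
        κ (Subgroup.inclusion hN1 x) ∈ Subgroup.normalizer
          (((C.subgroupOf (normalizerIn S (U ⊔ Q))).map κ : Subgroup L') : Set L') :=
      fun C hC => Subgroup.le_normalizer_map κ ⟨_, Subgroup.mem_normalizer_iff.mpr fun y => by
        simp only [Subgroup.mem_subgroupOf, Subgroup.coe_mul, Subgroup.coe_inv]
        exact Subgroup.mem_normalizer_iff.mp hC _, rfl⟩
    exact ⟨key U x.2.2, key Q x.2.1.2⟩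
  let κ₁ : ↥(normalizerIn (normalizerIn S Q) U) →* M :=
    (κ.comp (Subgroup.inclusion hN1)).codRestrict M hκM
  have hmapU : (U.subgroupOf (normalizerIn (normalizerIn S Q) U)).map κ₁ = A.subgroupOf M := by
    refine le_antisymm ?_ fun y hy => ?_
    · rintro _ ⟨x, hx, rfl⟩
      exact ⟨Subgroup.inclusion hN1 x, hx, rfl⟩
    · obtain ⟨x, hx, he⟩ := Subgroup.mem_subgroupOf.mp hy
      exact ⟨⟨x, h.shape.le hx⟩, hx, Subtype.ext he⟩
  -- the centralizer of `U` in `M`
  have hcent : ∀ c ∈ M, c ∈ Subgroup.centralizer (A : Set L') → c ∈ A := by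
    have hcoprime : ∀ d ∈ M, d ∈ Subgroup.centralizer (A : Set L') →
        (orderOf d).Coprime p → d = 1 := by
      intro d hdM hd hdp
      have hz : Subgroup.zpowers d ≤ M := Subgroup.zpowers_le.mpr hdM
      have hdA : A ≤ Subgroup.centralizer ((Subgroup.zpowers d : Subgroup L') : Set L') :=
        Subgroup.le_centralizer_iff.mp (Subgroup.zpowers_le.mpr hd)
      have hAB' : A ≤ Subgroup.normalizer (B : Set L') := by
        rintro _ ⟨x, hx, rfl⟩
        refine Subgroup.le_normalizer_map κ ⟨x, Subgroup.mem_normalizer_iff.mpr fun y => ?_, rfl⟩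
        simp only [Subgroup.mem_subgroupOf, Subgroup.coe_mul, Subgroup.coe_inv]
        exact Subgroup.mem_normalizer_iff.mp (hUN hx).2 _
      have hdB : Subgroup.zpowers d ≤ Subgroup.centralizer (B : Set L') :=
        Coprime.thompson_pxq p A _ B hAp (by rwa [Nat.card_zpowers]) hBp hdA hAB'
          (hz.trans inf_le_right) (by
            rintro _ ⟨⟨q, hq, rfl⟩, hqA⟩
            refine hdA ⟨q, ?_, rfl⟩
            refine hUC.2 U (Fusion.isConj_refl hUN) ⟨hQN hq, Subgroup.mem_centralizer_iff.mpr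
              fun u hu => ?_⟩
            have := Subgroup.mem_centralizer_iff.mp hqA (κ ⟨u, hWle (Subgroup.mem_sup_left hu)⟩)
              ⟨_, hu, rfl⟩
            rw [← map_mul, ← map_mul] at this
            exact congrArg Subtype.val (hκ this))
      have hdW : d ∈ (W'.subgroupOf (normalizerIn S W')).map ι' := by
        refine h'.shape.cent ?_
        have : A ⊔ B ≤ Subgroup.centralizer ((Subgroup.zpowers d : Subgroup L') : Set L') :=
          sup_le hdA (Subgroup.le_centralizer_iff.mp hdB)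
        rw [hAB] at this
        exact Subgroup.le_centralizer_iff.mp this (Subgroup.mem_zpowers d)
      obtain ⟨k, hk⟩ := IsPGroup.iff_orderOf.mp
        (((hS.to_le (Fusion.normalizerIn_le S W')).to_subgroup _).map ι') ⟨d, hdW⟩
      rw [Subgroup.orderOf_mk] at hk
      rw [hk] at hdp
      rcases Nat.eq_zero_or_pos k with rfl | hk0
      · rwa [pow_zero, orderOf_eq_one_iff] at hk
      · exact absurd ((Nat.coprime_pow_left_iff hk0 _ _).mp hdp)
          fun h => (Fact.out : p.Prime).one_lt.ne' ((Nat.coprime_self p).mp h)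
    intro c hcM hc
    -- `c` has `p`-power order
    obtain ⟨a, m, hm, he⟩ := Nat.exists_eq_pow_mul_and_not_dvd (orderOf_pos c).ne' p
      (Fact.out : p.Prime).ne_one
    have hc1 : c ^ p ^ a = 1 := by
      refine hcoprime _ (M.pow_mem hcM _) (Subgroup.pow_mem _ hc _) ?_
      have : orderOf (c ^ p ^ a) ∣ m := orderOf_dvd_of_pow_eq_one (by
        rw [← pow_mul, ← he, pow_orderOf_eq_one])
      exact Nat.Coprime.coprime_dvd_left this
        (Nat.coprime_comm.mp ((Fact.out : p.Prime).coprime_iff_not_dvd.mpr hm))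
    obtain ⟨T, hT⟩ := h'.sylow
    obtain ⟨g, hg⟩ := exists_conj_mem_sylow T ⟨a, hc1⟩
    obtain ⟨x, hx⟩ : g * c * g⁻¹ ∈ ι'.range := hT ▸ hg
    obtain ⟨f, hf, hfW, hfe⟩ := h'.exists_map g le_rfl hW'le (fun y hy => by
      obtain ⟨v, -, hv⟩ := h'.shape.exists_conj g ⟨y, hW'le hy⟩ hy
      exact ⟨v, hv.symm⟩)
    have hk : IsMap F (U ⊔ Q) (f ∘ γ) := hγW.comp_map hf
    have hfγ : ∀ w (hw : w ∈ U ⊔ Q), ∃ hy : f (γ w) ∈ normalizerIn S W',
        ι' ⟨f (γ w), hy⟩ = g * κ ⟨w, hWle hw⟩ * g⁻¹ := fun w hw => hfe (γ w) (hγW.mem hw)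
    obtain ⟨Qc, hQc⟩ := (hk.mono (le_sup_right (a := U))).exists_image
    haveI : Finite Qc := Fusion.finite_of_le hQc.cod_le
    have hxQ : (x : Ω) ∈ normalizerIn S Qc := by
      refine ⟨x.2.1, mem_normalizer_of_conj_mem fun y hy => ?_⟩
      obtain ⟨q, hq, rfl⟩ := hQc.exists_preimage hy
      obtain ⟨hy1, hy2⟩ := hfγ q (Subgroup.mem_sup_right hq)
      obtain ⟨q', hq', hcq⟩ := conj_mem_of_normalizer hcM.2 (⟨_, hq, rfl⟩ :
        κ ⟨q, hWle (Subgroup.mem_sup_right hq)⟩ ∈ B)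
      obtain ⟨hy3, hy4⟩ := hfγ (q' : Ω) (Subgroup.mem_sup_right hq')
      have : x * ⟨_, hy1⟩ * x⁻¹ = (⟨_, hy3⟩ : ↥(normalizerIn S W')) := by
        refine h'.shape.inj ?_
        rw [map_mul, map_mul, map_inv, hx, hy2, hy4, hcq]
        group
      have h5 := congrArg Subtype.val this
      simp only [Subgroup.coe_mul, Subgroup.coe_inv] at h5
      rw [show (f ∘ γ) q = f (γ q) from rfl, h5]
      exact hQc.mem hq'
    obtain ⟨α, hα, hαQ, hαN⟩ := exists_normalizer_map hS
      (fullyAutomized_of_fullyNormalized hS hF hQ) (receptive_of_fullyNormalized hS hF hQ)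
      (isConj_symm hQc.isConj)
    have hkN : ∀ w ∈ U ⊔ Q, (f ∘ γ) w ∈ normalizerIn S Qc := fun w hw =>
      Fusion.map_mem_normalizer hk le_sup_right hQc.2 hw (sup_le hUN hQN hw).2
    have hk2 : IsMap F (U ⊔ Q) (α ∘ (f ∘ γ)) := hk.comp hα hkN
    have hk2Q : (α ∘ (f ∘ γ)) '' (Q : Set Ω) = (Q : Set Ω) := (hQc.comp hαQ).2
    obtain ⟨U'', hU''⟩ := ((isMap_normalizerSystem hN le_sup_right (sup_le hUN hQN) hk2 hk2Q).mono
      le_sup_left).exists_image
    have hαx : α x ∈ U'' := hUC.2 U'' hU''.isConj ⟨hαN x hxQ, Subgroup.mem_centralizer_iff.mpr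
      fun y hy => by
        obtain ⟨u, hu, rfl⟩ := hU''.exists_preimage hy
        have hu' : u ∈ U ⊔ Q := Subgroup.mem_sup_left hu
        obtain ⟨hy1, hy2⟩ := hfγ u hu'
        have h5 : x * ⟨_, hy1⟩ = (⟨_, hy1⟩ : ↥(normalizerIn S W')) * x := by
          refine h'.shape.inj ?_
          rw [map_mul, map_mul, hx, hy2]
          calc g * c * g⁻¹ * (g * κ ⟨u, hWle hu'⟩ * g⁻¹)
              = g * (c * κ ⟨u, hWle hu'⟩) * g⁻¹ := by group
            _ = g * (κ ⟨u, hWle hu'⟩ * c) * g⁻¹ := by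
                rw [Subgroup.mem_centralizer_iff.mp hc (κ ⟨u, hWle hu'⟩) ⟨_, hu, rfl⟩]
            _ = g * κ ⟨u, hWle hu'⟩ * g⁻¹ * (g * c * g⁻¹) := by group
        have h6 : (x : Ω) * f (γ u) = f (γ u) * (x : Ω) := congrArg Subtype.val h5
        have hfu : f (γ u) ∈ normalizerIn S Qc := hkN u hu'
        simp only [Function.comp_apply]
        rw [← hα.map_mul hfu hxQ, ← hα.map_mul hxQ hfu]
        exact congrArg α h6.symm⟩
    obtain ⟨u, hu, he⟩ := hU''.exists_preimage hαx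
    have hu' : u ∈ U ⊔ Q := Subgroup.mem_sup_left hu
    obtain ⟨hy1, hy2⟩ := hfγ u hu'
    have hxu : x = (⟨_, hy1⟩ : ↥(normalizerIn S W')) :=
      Subtype.ext (hα.injOn hxQ (hkN u hu') he.symm)
    rw [hxu, hy2] at hx
    exact ⟨⟨u, hWle hu'⟩, hu, mul_left_cancel (mul_right_cancel hx)⟩
  have h2 : IsShape U (normalizerIn (normalizerIn S Q) U) κ₁ := by
    refine ⟨fun x y hxy => Subgroup.inclusion_injective hN1 (hκ (congrArg Subtype.val hxy)),
      h.shape.le, ?_, ?_⟩
    · rw [hmapU]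
      exact Subgroup.normal_subgroupOf_of_le_normalizer inf_le_left
    · rw [hmapU]
      refine fun c hc => hcent c c.2 (Subgroup.mem_centralizer_iff.mpr fun y hy => ?_)
      obtain ⟨x, hx, rfl⟩ := hy
      exact congrArg Subtype.val (Subgroup.mem_centralizer_iff.mp hc
        ⟨κ x, hκM ⟨x, h.shape.le hx⟩⟩ (Subgroup.mem_subgroupOf.mpr ⟨x, hx, rfl⟩))
  obtain ⟨j, hj, -⟩ := Fusion92.exists_embedding h.shape h2 le_rfl
    (hS.to_le (hUN.trans (Fusion.normalizerIn_le S Q))) h.not_dvd_index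
    (fun g R hUR hR f hf => by
      obtain ⟨f', hf', hfU, hfe⟩ := h.exists_map g hUR hR (fun x hx => ⟨f ⟨x, hx⟩, hf ⟨x, hx⟩⟩)
      have hff : ∀ r : R, (f r : Ω) = f' r := fun r => by
        obtain ⟨hfx, he⟩ := hfe r r.2
        exact congrArg Subtype.val (h.shape.inj ((hf r).trans he.symm))
      obtain ⟨-, hRN, -, e, he, hee, heQ⟩ := (IsNormalizerSystem.isMap_iff hN).mp hf'
      have heU : e '' (U : Set Ω) = (U : Set Ω) :=
        (Set.image_congr fun x hx => hee (hUR hx)).trans hfU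
      have hWR : U ⊔ Q ≤ R ⊔ Q := sup_le_sup_right hUR Q
      have heW : IsIso F (U ⊔ Q) (U ⊔ Q) e := IsIso.sup (he.mono hWR) heU heQ
      have hRW : R ⊔ Q ≤ normalizerIn S (U ⊔ Q) :=
        sup_le (hR.trans hN1) (le_sup_right.trans hWle)
      obtain ⟨P', hγP⟩ := (hγ.mono hRW).exists_image
      have hP' : P' ≤ normalizerIn S W' := fun y hy => by
        obtain ⟨x, hx, rfl⟩ := hγP.exists_preimage hy
        exact hγN x (hRW hx)
      obtain ⟨δ, hδ, hδγ, -⟩ := hγP.exists_inv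
      have heN : ∀ x ∈ R ⊔ Q, e x ∈ normalizerIn S (U ⊔ Q) := fun x hx =>
        Fusion.map_mem_normalizer he hWR heW.2 hx (hRW hx).2
      have hk : IsMap F P' (γ ∘ e ∘ δ) :=
        (hδ.comp_map he).comp hγ fun y hy => heN _ (hδ.mem hy)
      have hW'P : W' ≤ P' := fun y hy => by
        obtain ⟨x, hx, rfl⟩ := hγW.exists_preimage hy
        exact hγP.mem (hWR hx)
      have hkW : (γ ∘ e ∘ δ) '' (W' : Set Ω) = (W' : Set Ω) := by
        rw [← hγW.2, ← Set.image_comp]
        conv_rhs => rw [← heW.2, ← Set.image_comp]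
        exact Set.image_congr fun x hx => by
          simp only [Function.comp_apply]; rw [hδγ x (hWR hx)]
      obtain ⟨g₂, hg₂⟩ := h'.exists_conj hW'P hP' hk hkW
      have hg₂' : ∀ x (hx : x ∈ R ⊔ Q),
          κ ⟨e x, heN x hx⟩ = g₂ * κ ⟨x, hRW hx⟩ * g₂⁻¹ := fun x hx => by
        have hr : (γ ∘ e ∘ δ) (γ x) = γ (e x) := by
          simp only [Function.comp_apply]; rw [hδγ x hx]
        have h3 := hg₂ (γ x) (hγP.mem hx) (hr ▸ hγN _ (heN x hx))
        have hr' : (⟨(γ ∘ e ∘ δ) (γ x), hr ▸ hγN _ (heN x hx)⟩ : ↥(normalizerIn S W')) =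
            γN ⟨e x, heN x hx⟩ := Subtype.ext hr
        rw [hr'] at h3
        exact h3
      have hgM : g₂ ∈ M := by
        refine ⟨mem_normalizer_of_conj_mem ?_, mem_normalizer_of_conj_mem ?_⟩
        · rintro _ ⟨x, hx, rfl⟩
          rw [← hg₂' x (hWR (Subgroup.mem_sup_left hx))]
          exact ⟨_, heU.subset ⟨x, hx, rfl⟩, rfl⟩
        · rintro _ ⟨x, hx, rfl⟩
          rw [← hg₂' x (hWR (Subgroup.mem_sup_right hx))]
          exact ⟨_, heQ.subset ⟨x, hx, rfl⟩, rfl⟩
      refine ⟨⟨g₂, hgM⟩, fun r => Subtype.ext ?_⟩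
      have h4 := hg₂' r (Subgroup.mem_sup_left r.2)
      have h5 : (f r : Ω) = e r := (hff r).trans (hee r.2).symm
      rw [show (⟨e r, heN r (Subgroup.mem_sup_left r.2)⟩ : ↥(normalizerIn S (U ⊔ Q))) =
        Subgroup.inclusion hN1 (f r) from Subtype.ext h5.symm] at h4
      exact h4)
  exact ⟨W', L', hG', ι', hW'N, hW'C, h', M.subtype.comp j, M.subtype_injective.comp hj⟩

end Cfsg.Agent.Fusion92
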