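import Cfsg.Agent.Fusion92.CentralType
import Cfsg.Agent.Fusion92.SecW
import Cfsg.Agent.Fus93.Generation
import Cfsg.Agent.Fusion91.Core
import Cfsg.Agent.Lib.Fusion.Subsystem
import Cfsg.Agent.Lib.Fusion.Alperin
import Cfsg.Agent.Fusion92.NormalizerFree

set_option autoImplicit false

/-! Reduction of statements about the normalizer of `W(S)` to local ones, for a functor `W`. -/

namespace Cfsg.Agent.Fusion92

open Cfsg Cfsg.Agent.Fusion
open scoped Pointwise
open Cfsg.FusionSystem (normalizerIn centralizerIn)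

universe u

variable {Ω : Type u} [Group Ω] {S T : Subgroup Ω} {D : Cfsg.FusionSystem T} {p : ℕ} [Fact p.Prime]

/-- A normal subgroup lies in every centric radical subgroup. -/
theorem normal_le_radical [Finite T] (hT : IsPGroup p T) {Q U : Subgroup Ω} (hQ : D.IsNormal Q)
    (hC : D.IsCentric U) (hR : D.IsRadical p U) : Q ≤ U := by
  have hQn := isNormal_normalizer hQ
  haveI := Fusion.finite_of_le hC.1
  haveI := Fusion.finite_mulAut U
  haveI := Fusion.finite_of_le hQ.1
  have hsub : ∀ g ∈ normalizerIn Q U, g ∈ normalizerIn T U := fun g hg => ⟨hQ.1 hg.1, hg.2⟩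
  let A : Subgroup (D.autGroup U) := (autInducedBy Q U).subgroupOf (D.autGroup U)
  have hAp : IsPGroup p A := by
    refine IsPGroup.comap_of_injective ?_ _ (Subgroup.subtype_injective _)
    rw [← range_conjAutHom]
    exact ((hT.to_le hQ.1).to_le (Fusion.normalizerIn_le Q U)).of_surjective _
      (conjAutHom Q U).rangeRestrict_surjective
  have hAn : A.Normal := by
    refine ⟨fun β hβ α => ?_⟩
    obtain ⟨q, hq, hqe⟩ := mem_autInducedBy.mp (Subgroup.mem_subgroupOf.mp hβ)
    have hα := (mem_autGroup hC.1).mp α.2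
    obtain ⟨f, hf, hfe, hfQ⟩ := (Fusion.isNormal_iff.mp hQ).2 U _ hα.1
    refine Subgroup.mem_subgroupOf.mpr (mem_autInducedBy.mpr
      ⟨f q, hfQ.subset ⟨q, hq, rfl⟩, fun x => ?_⟩)
    have hx : ((α : MulAut U)⁻¹ x : Ω) ∈ U ⊔ Q := Subgroup.mem_sup_left (Subtype.mem _)
    have h1 : f ((α : MulAut U)⁻¹ x : Ω) = x := by
      rw [hfe (Subtype.mem _), autFun_coe]
      exact congrArg Subtype.val ((α : MulAut U).apply_symm_apply x)
    calc ((α * β * α⁻¹ : D.autGroup U) : MulAut U) x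
        = ((α : MulAut U) ((β : MulAut U) ((α : MulAut U)⁻¹ x)) : Ω) := rfl
      _ = f ((β : MulAut U) ((α : MulAut U)⁻¹ x) : Ω) := by rw [hfe (Subtype.mem _), autFun_coe]
      _ = f (q * ((α : MulAut U)⁻¹ x : Ω) * q⁻¹) := by rw [hqe]
      _ = f q * (x : Ω) * (f q)⁻¹ := by rw [hf.map_conj (Subgroup.mem_sup_right hq) hx, h1]
  have hNU : normalizerIn Q U ≤ U := fun g hg => by
    refine Fus93.mem_of_mem_pCore_radical hC hR (hsub g hg) (Thompson.le_pCore hAn hAp ?_)
    exact Subgroup.mem_subgroupOf.mpr (mem_autInducedBy.mpr ⟨g, hg.1, fun x => rfl⟩)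
  have hWT : U ⊔ Q ≤ T := sup_le hC.1 hQ.1
  haveI := Fusion.finite_of_le hWT
  by_contra hQU
  have hne : U ≠ U ⊔ Q := fun h => hQU (h ▸ le_sup_right)
  have hlt := Fus93.card_normalizerIn_lt (hT.to_le hWT) le_sup_left hne
  refine absurd (Subgroup.card_le_of_le (?_ : normalizerIn (U ⊔ Q) U ≤ U)) (not_le.mpr hlt)
  intro x hx
  have h3 : x ∈ (U : Set Ω) * (Q : Set Ω) := by
    rw [← Subgroup.coe_mul_of_left_le_normalizer_right U Q (hC.1.trans hQn)]
    exact hx.1
  obtain ⟨y, hy, z, hz, rfl⟩ := Set.mem_mul.mp h3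
  refine U.mul_mem hy (hNU ⟨hz, ?_⟩)
  have h4 := (Subgroup.normalizer (U : Set Ω)).mul_mem
    (inv_mem (U.le_normalizer hy)) hx.2
  simpa using h4

omit [Fact p.Prime] in
/-- The set of graphs of the maps. -/
def mapGraphs (D : Cfsg.FusionSystem T) : Set (Set (Ω × Ω)) :=
  {G | ∃ P, ∃ φ ∈ D.Hom P, G = Set.range fun x : P => ((x : Ω), φ x)}

omit [Fact p.Prime] in
theorem mapGraphs_finite [Finite T] (D : Cfsg.FusionSystem T) : (mapGraphs D).Finite := by
  refine Set.Finite.subset (Set.Finite.powerset ((T : Set Ω).toFinite.prod (T : Set Ω).toFinite)) ?_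
  rintro G ⟨P, φ, hφ, rfl⟩ _ ⟨x, rfl⟩
  exact ⟨(D.le_of_mem hφ).1 x.2, (D.le_of_mem hφ).2 x⟩

omit [Fact p.Prime] in
theorem ncard_mapGraphs_lt [Finite T] {T' : Subgroup Ω} {D' : Cfsg.FusionSystem T'}
    (hle : ∀ P f, IsMap D' P f → IsMap D P f)
    (h : ∃ P f, IsMap D P f ∧ ¬ IsMap D' P f) :
    (mapGraphs D').ncard < (mapGraphs D).ncard := by
  refine Set.ncard_lt_ncard ⟨?_, fun hsub => ?_⟩ (mapGraphs_finite D)
  · rintro G ⟨P, φ, hφ, rfl⟩
    exact ⟨P, φ, (hle P _ (isMap_extFun hφ)).mem_hom (fun x => (extFun_coe φ x).symm), rfl⟩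
  · obtain ⟨P, f, ⟨φ, hφ, hφf⟩, hnot⟩ := h
    obtain ⟨P', φ', hφ', he⟩ := hsub ⟨P, φ, hφ, rfl⟩
    have hP : P = P' := by
      apply SetLike.coe_injective
      have := congrArg (fun G : Set (Ω × Ω) => Prod.fst '' G) he
      simpa [← Set.range_comp, Function.comp_def] using this
    subst hP
    refine hnot ⟨φ', hφ', fun x => ?_⟩
    obtain ⟨y, hy⟩ := he.subset ⟨x, rfl⟩
    obtain ⟨hy1, hy2⟩ := Prod.mk.inj hy
    rw [← hφf, ← hy2, (Subtype.ext hy1 : y = x)]

/-- The maps of `D` in `E`. -/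
noncomputable def restrictSystem (D : Cfsg.FusionSystem T) (E : Cfsg.FusionSystem S) (hTS : T ≤ S) :
    Cfsg.FusionSystem T :=
  mkSub D T (fun P f => IsMap D P f ∧ IsMap E P f)
    (fun h hfg => ⟨h.1.congr hfg, h.2.congr hfg⟩)
    (fun h => ⟨h.1, h.1.dom_le, fun _ hx => h.1.apply_mem hx⟩)
    (fun hP hg => ⟨isMap_conj hP hg, isMap_conj (hP.trans hTS) (hTS hg)⟩)
    (fun hf hg h => ⟨hf.1.comp hg.1 h, hf.2.comp hg.2 h⟩)
    (fun {P R f g} hf hi hg hgl => by
      have hfi : IsIso E P R f := ⟨hf.2, hi.2⟩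
      obtain ⟨g₀, hg₀, hgl₀, -⟩ := hfi.exists_inv
      refine ⟨hg.1, hg₀.1.congr fun y hy => ?_⟩
      obtain ⟨x, hx, rfl⟩ := hi.exists_preimage hy
      rw [hgl₀ x hx, hgl x hx])

omit [Fact p.Prime] in
theorem mem_normalizer_of_conj_mem_centralizer {Q : Subgroup Ω}
    (hQ : T ≤ Subgroup.normalizer (Q : Set Ω)) {t : Ω} (ht : t ∈ T) :
    t ∈ Subgroup.normalizer (centralizerIn T Q : Set Ω) := by
  have key : ∀ s ∈ T, ∀ x ∈ centralizerIn T Q, s * x * s⁻¹ ∈ centralizerIn T Q := by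
    intro s hs x hx
    refine ⟨T.mul_mem (T.mul_mem hs hx.1) (T.inv_mem hs),
      Subgroup.mem_centralizer_iff.mpr fun q hq => ?_⟩
    have h1 := Subgroup.mem_centralizer_iff.mp hx.2 _
      (Fusion.conj_mem_of_mem_normalizer (inv_mem (hQ hs)) hq)
    calc q * (s * x * s⁻¹) = s * (s⁻¹ * q * s⁻¹⁻¹ * x) * s⁻¹ := by group
      _ = s * (x * (s⁻¹ * q * s⁻¹⁻¹)) * s⁻¹ := by rw [h1]
      _ = s * x * s⁻¹ * q := by group
  refine Subgroup.mem_normalizer_iff.mpr fun x => ⟨key t ht x, fun hx => ?_⟩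
  simpa [mul_assoc] using key t⁻¹ (T.inv_mem ht) _ hx

omit [Fact p.Prime] in
theorem IsLocal.normal_map [Finite T] {U : Subgroup Ω} {L : Type u} [Group L]
    {ι : ↥(normalizerIn T U) →* L} (h : IsLocal D p U ι) {Q : Subgroup Ω} (hQ : D.IsNormal Q)
    (hQU : Q ≤ U) : ((Q.subgroupOf (normalizerIn T U)).map ι).Normal := by
  refine ⟨?_⟩
  rintro _ ⟨x, hx, rfl⟩ g
  obtain ⟨f, hf, -, hfe⟩ := h.exists_map g le_rfl h.shape.le (fun y hy => by
    obtain ⟨v, -, hv⟩ := h.shape.exists_conj g ⟨y, h.shape.le hy⟩ hy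
    exact ⟨v, hv.symm⟩)
  obtain ⟨hfx, he⟩ := hfe x (hQU hx)
  exact ⟨_, isNormal_closed' hQ hf (hQU hx) hx, he⟩

/-- If the automizer of a normal subgroup is a `p`-group then elements of coprime order of a local
model centralize it. -/
theorem IsLocal.mem_centralizer_of_coprime [Finite T] {U : Subgroup Ω} {L : Type u} [Group L]
    {ι : ↥(normalizerIn T U) →* L} (h : IsLocal D p U ι) {Q : Subgroup Ω} (hQ : D.IsNormal Q)
    (hc : IsPGroup p (D.autGroup Q)) (hQU : Q ≤ U) {g : L} (hg : (orderOf g).Coprime p) :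
    g ∈ Subgroup.centralizer (((Q.subgroupOf (normalizerIn T U)).map ι : Subgroup L) : Set L) := by
  haveI := h.normal_map hQ hQU
  let e : Q ≃* ((Q.subgroupOf (normalizerIn T U)).map ι : Subgroup L) :=
    (Subgroup.subgroupOfEquivOfLe (hQU.trans h.shape.le)).symm.trans
      (Subgroup.equivMapOfInjective _ ι h.shape.inj)
  let Ψ : L →* MulAut Q := (MulAut.congr e.symm).toMonoidHom.comp
    (MulAut.conjNormal (H := (Q.subgroupOf (normalizerIn T U)).map ι))
  have hΨ : ∀ k, Ψ k ∈ D.autGroup Q := by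
    intro k
    obtain ⟨f, hf, -, hfe⟩ := h.exists_map k le_rfl h.shape.le (fun y hy => by
      obtain ⟨v, -, hv⟩ := h.shape.exists_conj k ⟨y, h.shape.le hy⟩ hy
      exact ⟨v, hv.symm⟩)
    refine autGroup_mem_of_isMap ((hf.mono hQU).congr fun x hx => ?_)
    obtain ⟨hfx, he⟩ := hfe x (hQU hx)
    rw [autFun_of_mem _ hx]
    refine congrArg Subtype.val (a₁ := (⟨f x, hfx⟩ : ↥(normalizerIn T U)))
      (a₂ := ⟨(Ψ k ⟨x, hx⟩ : Ω), hQU.trans h.shape.le (Ψ k ⟨x, hx⟩).2⟩) (h.shape.inj ?_)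
    rw [he]
    show _ = (e (e.symm (MulAut.conjNormal k (e ⟨x, hx⟩))) : L)
    rw [e.apply_symm_apply, MulAut.conjNormal_apply]
    rfl
  obtain ⟨m, hm⟩ := hc ⟨Ψ g, hΨ g⟩
  have h1 : orderOf (Ψ g) ∣ p ^ m := orderOf_dvd_of_pow_eq_one (congrArg Subtype.val hm)
  have h2 : orderOf (Ψ g) ∣ orderOf g := orderOf_map_dvd Ψ g
  have h3 : Ψ g = 1 := orderOf_eq_one_iff.mp
    (Nat.eq_one_of_dvd_coprimes ((Nat.coprime_comm.mp hg).pow_left m) h1 h2)
  refine Subgroup.mem_centralizer_iff.mpr ?_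
  rintro _ ⟨x, hx, rfl⟩
  have h4 : e (e.symm (MulAut.conjNormal g (e ⟨x, hx⟩))) = e ⟨x, hx⟩ :=
    congrArg e (DFunLike.congr_fun h3 ⟨x, hx⟩)
  rw [e.apply_symm_apply] at h4
  have h5 : g * ι x * g⁻¹ = ι x := by
    have := congrArg Subtype.val h4
    rwa [MulAut.conjNormal_apply] at this
  calc ι x * g = g * ι x * g⁻¹ * g := by rw [h5]
    _ = g * ι x := by group

variable (D) in
/-- Every map of `D` stabilizing `U` that acts on `R` as `g` does is in `E`. -/
def ConjIn (E : Cfsg.FusionSystem S) {U : Subgroup Ω} {L : Type u} [Group L]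
    (ι : ↥(normalizerIn T U) →* L) (g : L) : Prop :=
  ∀ (R : Subgroup Ω) (hR : R ≤ normalizerIn T U), U ≤ R → ∀ f : Ω → Ω, IsMap D R f →
    f '' (U : Set Ω) = (U : Set Ω) →
    (∀ (x : Ω) (hx : x ∈ R) (hfx : f x ∈ normalizerIn T U),
      ι ⟨f x, hfx⟩ = g * ι ⟨x, hR hx⟩ * g⁻¹) → IsMap E R f

variable (D) in
/-- Every automorphism of `U` that acts as `g` does is in `E`. -/
def AutIn (E : Cfsg.FusionSystem S) {U : Subgroup Ω} {L : Type u} [Group L]
    (ι : ↥(normalizerIn T U) →* L) (g : L) : Prop :=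
  ∀ f : Ω → Ω, IsMap D U f → f '' (U : Set Ω) = (U : Set Ω) →
    (∀ (x : Ω) (hx : x ∈ normalizerIn T U), x ∈ U → ∀ (hfx : f x ∈ normalizerIn T U),
      ι ⟨f x, hfx⟩ = g * ι ⟨x, hx⟩ * g⁻¹) → IsMap E U f

/-- The local hypothesis at a centric subgroup, relative to a normal subgroup. -/
structure LocalCond {U : Subgroup Ω} {L : Type u} [Group L] (p : ℕ) (D : Cfsg.FusionSystem T)
    (Q₀ : Subgroup Ω) (ι : ↥(normalizerIn T U) →* L) : Prop where
  isLocal : IsLocal D p U ι
  centric : D.IsCentric U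
  fullyNormalized : D.IsFullyNormalized U
  le : Q₀ ≤ U
  normal : ((Q₀.subgroupOf (normalizerIn T U)).map ι).Normal
  central : ∀ g : L, (orderOf g).Coprime p →
    g ∈ Subgroup.centralizer (((Q₀.subgroupOf (normalizerIn T U)).map ι : Subgroup L) : Set L)

/-- What a target system, a class of systems and a functor need for the reduction. -/
structure ControlData (p : ℕ) (E : Cfsg.FusionSystem S)
    (W : ∀ (Q : Type u) [Group Q], Subgroup Q)
    (Good : ∀ T : Subgroup Ω, Cfsg.FusionSystem T → Prop) : Prop where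
  nontriv : ∀ (Q : Type u) [Group Q] [Finite Q], IsPGroup p Q → Nontrivial Q → W Q ≠ ⊥
  invariant : IsInvariantW p W
  le : ∀ {T : Subgroup Ω} {D : Cfsg.FusionSystem T}, Good T D → T ≤ S
  saturated : ∀ {T : Subgroup Ω} {D : Cfsg.FusionSystem T}, Good T D → D.IsSaturated p
  normalizer : ∀ {T : Subgroup Ω} {D : Cfsg.FusionSystem T}, Good T D → ∀ (V : Subgroup Ω)
    (hV : D.IsFullyNormalized V), Good (normalizerIn T V) (normalizerSystem D V hV.1)
  centralType : ∀ {T : Subgroup Ω} {D : Cfsg.FusionSystem T}, Good T D → ∀ (Q : Subgroup Ω)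
    (hQ : D.IsNormal Q) (hn : T ≤ Subgroup.normalizer (Q : Set Ω)),
      Good T (centralTypeSystem D Q hQ.1 hn)
  loc : ∀ {T : Subgroup Ω} {D : Cfsg.FusionSystem T}, Good T D →
    ∀ (Q₀ U : Subgroup Ω) (L : Type u) [Group L] (ι : ↥(normalizerIn T U) →* L),
      LocalCond p D Q₀ ι →
      (∀ g ∈ Subgroup.normalizer ((secW W ι.range
        ((Q₀.subgroupOf (normalizerIn T U)).map ι) : Subgroup L) : Set L), ConjIn D E ι g) →
      ∀ g : L, AutIn D E ι g
  constrained : ∀ {T : Subgroup Ω} {D : Cfsg.FusionSystem T}, Good T D →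
    ∀ (Q₀ U : Subgroup Ω) (L : Type u) [Group L] (ι : ↥(normalizerIn T U) →* L),
      LocalCond p D Q₀ ι → D.IsNormal U →
      (∀ g ∈ Subgroup.normalizer ((secW W ι.range
        ((Q₀.subgroupOf (normalizerIn T U)).map ι) : Subgroup L) : Set L), ConjIn D E ι g) →
      (∀ V : Subgroup Ω, V ≤ normalizerIn T U →
        normalizerIn T U ≤ Subgroup.normalizer (V : Set Ω) →
        ¬ ((V.subgroupOf (normalizerIn T U)).map ι).Normal →
        ∀ g ∈ Subgroup.normalizer
          (((V.subgroupOf (normalizerIn T U)).map ι : Subgroup L) : Set L), ConjIn D E ι g) →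
      ∀ g : L, ConjIn D E ι g

/-- What a target system, a class of systems and a family of functors need for the reduction. -/
structure ControlFamily {κ : Type*} (p : ℕ) (E : Cfsg.FusionSystem S)
    (W : κ → ∀ (Q : Type u) [Group Q], Subgroup Q)
    (Good : ∀ T : Subgroup Ω, Cfsg.FusionSystem T → Prop) : Prop where
  nontriv : ∀ (i : κ) (Q : Type u) [Group Q] [Finite Q], IsPGroup p Q → Nontrivial Q → W i Q ≠ ⊥
  invariant : ∀ i, IsInvariantW p (W i)
  le : ∀ {T : Subgroup Ω} {D : Cfsg.FusionSystem T}, Good T D → T ≤ S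
  saturated : ∀ {T : Subgroup Ω} {D : Cfsg.FusionSystem T}, Good T D → D.IsSaturated p
  normalizer : ∀ {T : Subgroup Ω} {D : Cfsg.FusionSystem T}, Good T D → ∀ (V : Subgroup Ω)
    (hV : D.IsFullyNormalized V), Good (normalizerIn T V) (normalizerSystem D V hV.1)
  centralType : ∀ {T : Subgroup Ω} {D : Cfsg.FusionSystem T}, Good T D → ∀ (Q : Subgroup Ω)
    (hQ : D.IsNormal Q) (hn : T ≤ Subgroup.normalizer (Q : Set Ω)),
      Good T (centralTypeSystem D Q hQ.1 hn)
  loc : ∀ {T : Subgroup Ω} {D : Cfsg.FusionSystem T}, Good T D →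
    ∀ (Q₀ U : Subgroup Ω) (L : Type u) [Group L] (ι : ↥(normalizerIn T U) →* L),
      LocalCond p D Q₀ ι →
      (∀ i, ∀ g ∈ Subgroup.normalizer ((secW (W i) ι.range
        ((Q₀.subgroupOf (normalizerIn T U)).map ι) : Subgroup L) : Set L), ConjIn D E ι g) →
      ∀ g : L, AutIn D E ι g
  constrained : ∀ {T : Subgroup Ω} {D : Cfsg.FusionSystem T}, Good T D →
    ∀ (Q₀ U : Subgroup Ω) (L : Type u) [Group L] (ι : ↥(normalizerIn T U) →* L),
      LocalCond p D Q₀ ι → D.IsNormal U →
      (∀ i, ∀ g ∈ Subgroup.normalizer ((secW (W i) ι.range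
        ((Q₀.subgroupOf (normalizerIn T U)).map ι) : Subgroup L) : Set L), ConjIn D E ι g) →
      (∀ V : Subgroup Ω, V ≤ normalizerIn T U →
        normalizerIn T U ≤ Subgroup.normalizer (V : Set Ω) →
        ¬ ((V.subgroupOf (normalizerIn T U)).map ι).Normal →
        ∀ g ∈ Subgroup.normalizer
          (((V.subgroupOf (normalizerIn T U)).map ι : Subgroup L) : Set L), ConjIn D E ι g) →
      ∀ g : L, ConjIn D E ι g


omit [Fact p.Prime] in
/-- A map acting as an element normalizing the image of `Z` extends over `Z`, stabilizing it. -/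
theorem IsLocal.exists_extend [Finite T] {U : Subgroup Ω} {L : Type u} [Group L]
    {ι : ↥(normalizerIn T U) →* L} (h : IsLocal D p U ι) {g : L} {R Z : Subgroup Ω}
    (hR : R ≤ normalizerIn T U) (hUR : U ≤ R) {f : Ω → Ω} (hf : IsMap D R f)
    (hfU : f '' (U : Set Ω) = (U : Set Ω))
    (he : ∀ (x : Ω) (hx : x ∈ R) (hfx : f x ∈ normalizerIn T U),
      ι ⟨f x, hfx⟩ = g * ι ⟨x, hR hx⟩ * g⁻¹)
    (hZ : Z ≤ normalizerIn T U)
    (hg : g ∈ Subgroup.normalizer (((Z.subgroupOf (normalizerIn T U)).map ι : Subgroup L) : Set L)) :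
    ∃ f', IsMap D (R ⊔ Z) f' ∧ Set.EqOn f' f R ∧ f' '' (Z : Set Ω) = (Z : Set Ω) := by
  have hfR : ∀ x ∈ R, f x ∈ normalizerIn T U := fun x hx =>
    Fusion.map_mem_normalizer hf hUR hfU hx (hR hx).2
  have hsup : R ⊔ Z ≤ normalizerIn T U := sup_le hR hZ
  have hrange : ∀ (x : Ω) (hx : x ∈ R ⊔ Z), g * ι ⟨x, hsup hx⟩ * g⁻¹ ∈ ι.range := by
    intro x hx
    have : (R ⊔ Z).subgroupOf (normalizerIn T U) ≤
        (ι.range.comap (MulAut.conj g).toMonoidHom).comap ι := by
      rw [Subgroup.subgroupOf_sup hR hZ]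
      refine sup_le (fun y hy => ⟨⟨f y, hfR y hy⟩, he y hy (hfR y hy)⟩) fun y hy => ?_
      obtain ⟨z, -, hz⟩ := Fusion.conj_mem_of_mem_normalizer hg
        (⟨y, hy, rfl⟩ : ι y ∈ (Z.subgroupOf (normalizerIn T U)).map ι)
      exact ⟨z, hz⟩
    exact this (x := ⟨x, hsup hx⟩) hx
  obtain ⟨f', hf', -, hfe'⟩ := h.exists_map g (hUR.trans le_sup_left) hsup hrange
  refine ⟨f', hf', fun x hx => ?_, ?_⟩
  · obtain ⟨hfx, he'⟩ := hfe' x (Subgroup.mem_sup_left hx)
    exact congrArg Subtype.val (h.shape.inj (he'.trans (he x hx (hfR x hx)).symm))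
  · have hmem : ∀ x ∈ Z, f' x ∈ Z := fun x hx => by
      obtain ⟨hfx, he'⟩ := hfe' x (Subgroup.mem_sup_right hx)
      obtain ⟨z, hz, hze⟩ := Fusion.conj_mem_of_mem_normalizer hg
        (⟨⟨x, hZ hx⟩, hx, rfl⟩ : ι ⟨x, hZ hx⟩ ∈ (Z.subgroupOf (normalizerIn T U)).map ι)
      have := congrArg Subtype.val (h.shape.inj (hze.trans he'.symm))
      have h5 : (z : Ω) ∈ Z := hz
      rw [this] at h5
      exact h5
    exact Set.Subset.antisymm (fun y ⟨x, hx, hxy⟩ => hxy ▸ hmem x hx)
      (surjOn_of_card_le (hZ.trans (Fusion.normalizerIn_le T U))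
        (hf'.injOn.mono fun x hx => (le_sup_right : Z ≤ R ⊔ Z) hx) hmem le_rfl)

/-- A Sylow subgroup meets a normal subgroup in a Sylow subgroup. -/
theorem exists_sylow_eq_inf {G : Type u} [Group G] [Finite G] (P : Sylow p G) (C : Subgroup G)
    [C.Normal] : ∃ R : Sylow p C, (R : Subgroup C).map C.subtype = (P : Subgroup G) ⊓ C := by
  obtain ⟨R, hR⟩ := (P.2.comap_subtype (K := C)).exists_le_sylow
  obtain ⟨P', hP'⟩ := (R.2.map C.subtype).exists_le_sylow
  refine ⟨R, ?_⟩
  have hle : (P : Subgroup G) ⊓ C ≤ (R : Subgroup C).map C.subtype := fun x hx =>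
    ⟨⟨x, hx.2⟩, hR hx.1, rfl⟩
  obtain ⟨k, hk⟩ := MulAction.exists_smul_eq G P' P
  refine (Subgroup.eq_of_le_of_card_ge hle ?_).symm
  have hsub : ((R : Subgroup C).map C.subtype).map (MulAut.conj k).toMonoidHom ≤
      (P : Subgroup G) ⊓ C := by
    rintro _ ⟨x, hx, rfl⟩
    refine ⟨?_, (inferInstance : C.Normal).conj_mem x (Subgroup.map_subtype_le _ hx) k⟩
    rw [← hk, SetLike.mem_coe, Sylow.coe_subgroup_smul]
    exact ⟨x, hP' hx, rfl⟩
  exact (Nat.card_congr (Subgroup.equivMapOfInjective _ _ (MulAut.conj k).injective).toEquiv).le.trans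
    (Subgroup.card_le_of_le hsub)

omit [Fact p.Prime] in
theorem isMap_le_of_normalizerSystem {V : Subgroup Ω} {hV : V ≤ T} {P : Subgroup Ω} {f : Ω → Ω}
    (h : IsMap (normalizerSystem D V hV) P f) : IsMap D P f :=
  ((IsNormalizerSystem.isMap_iff (isNormalizerSystem_normalizerSystem V hV)).mp h).1

omit [Fact p.Prime] in
theorem isNormal_normalizerSystem [Finite T] {Q V : Subgroup Ω} (hQ : D.IsNormal Q) (hV : V ≤ T)
    (hQV : Q ≤ normalizerIn T V) : (normalizerSystem D V hV).IsNormal Q := by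
  refine Fusion.isNormal_iff.mpr ⟨hQV, fun P f hf => ?_⟩
  have hVN : V ≤ normalizerIn T V := Fusion.le_normalizerIn hV
  obtain ⟨-, hPN, -, f', hf', he, hfV⟩ :=
    (IsNormalizerSystem.isMap_iff (isNormalizerSystem_normalizerSystem V hV)).mp hf
  obtain ⟨f'', hf'', he', hfQ⟩ := (Fusion.isNormal_iff.mp hQ).2 _ _ hf'
  have hV'' : f'' '' (V : Set Ω) = (V : Set Ω) :=
    (Set.image_congr fun x hx => he' (Subgroup.mem_sup_right hx)).trans hfV
  have hsub : (P ⊔ V) ⊔ Q ≤ normalizerIn T V := sup_le (sup_le hPN hVN) hQV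
  refine ⟨f'', ((IsNormalizerSystem.isMap_iff (isNormalizerSystem_normalizerSystem V hV)).mpr
    ⟨hf'', hsub, fun x hx => Fusion.map_mem_normalizer hf''
      (le_sup_right.trans le_sup_left) hV'' hx (hsub hx).2,
      f'', hf''.mono (sup_le le_rfl (le_sup_right.trans le_sup_left)), fun _ _ => rfl,
      hV''⟩).mono (sup_le (le_sup_left.trans le_sup_left) le_sup_right), fun x hx => ?_, hfQ⟩
  exact (he' (Subgroup.mem_sup_left hx)).trans (he hx)

omit [Fact p.Prime] in
theorem ncard_normalizerSystem_lt [Finite T] {V : Subgroup Ω} (hV : V ≤ T) (hne : ¬ D.IsNormal V) :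
    (mapGraphs (normalizerSystem D V hV)).ncard < (mapGraphs D).ncard := by
  refine ncard_mapGraphs_lt (fun P f h => isMap_le_of_normalizerSystem h) ?_
  by_contra hall
  push Not at hall
  refine hne (Fusion.isNormal_iff.mpr ⟨hV, fun P f hf => ?_⟩)
  exact ((IsNormalizerSystem.isMap_iff (isNormalizerSystem_normalizerSystem V hV)).mp
    (hall P f hf)).2.2.2

omit [Fact p.Prime] in
theorem secW_conj (W : ∀ (Q : Type u) [Group Q], Subgroup Q) (hW : IsInvariantW p W)
    {A B : Subgroup Ω} [Finite A] (hA : IsPGroup p A) (hBA : B ≤ A) {n : Ω}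
    (hnA : n ∈ Subgroup.normalizer (A : Set Ω)) (hnB : n ∈ Subgroup.normalizer (B : Set Ω)) :
    n ∈ Subgroup.normalizer (secW W A B : Set Ω) := by
  have hmap : ∀ {X : Subgroup Ω}, X ≤ A → n ∈ Subgroup.normalizer (X : Set Ω) →
      (X.subgroupOf A).map (conjHom A n) = X := by
    intro X hX hn
    refine le_antisymm ?_ fun x hx => ?_
    · rintro _ ⟨a, ha, rfl⟩
      exact Fusion.conj_mem_of_mem_normalizer hn ha
    · have hx' := Fusion.conj_mem_of_mem_normalizer (inv_mem hn) hx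
      exact ⟨⟨_, hX hx'⟩, hx', by simp [conjHom, mul_assoc]⟩
  have hr : (conjHom A n).range = A := by
    rw [MonoidHom.range_eq_map, ← Subgroup.subgroupOf_self, hmap le_rfl hnA]
  have h := secW_map_of_map hW hA (conjHom A n)
    ((MulAut.conj n).injective.comp A.subtype_injective) hr (hmap hBA hnB)
  haveI : Finite (secW W A B) :=
    Finite.of_injective _ (Subgroup.inclusion_injective (secW_le A B))
  refine mem_normalizer_of_conj_mem fun y hy => ?_
  rw [← h]
  exact ⟨⟨y, secW_le A B hy⟩, hy, rfl⟩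

/-- The reduction. -/
theorem ControlFamily.control {E : Cfsg.FusionSystem S}
    {κ : Type*} [Nonempty κ] {W : κ → ∀ (Q : Type u) [Group Q], Subgroup Q}
    {Good : ∀ T : Subgroup Ω, Cfsg.FusionSystem T → Prop} [Finite S] (hS : IsPGroup p S)
    (hd : ControlFamily p E W Good) {T : Subgroup Ω} (D : Cfsg.FusionSystem T) (Q₀ : Subgroup Ω)
    (hG : Good T D) (hQ₀ : D.IsNormal Q₀) (hc : IsPGroup p (D.autGroup Q₀))
    (hant : ∀ i P f, IsMap D P f → ExtendsStab D (secW (W i) T Q₀) P f → IsMap E P f) :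
    ∀ P f, IsMap D P f → IsMap E P f := by
  induction hn : (mapGraphs D).ncard using Nat.strong_induction_on generalizing T D Q₀ with
  | _ n ihn =>
  induction hk : Nat.card S - Nat.card Q₀ using Nat.strong_induction_on generalizing Q₀ with
  | _ k ihk =>
  obtain ⟨i₀⟩ := ‹Nonempty κ›
  have hTS : T ≤ S := hd.le hG
  haveI : Finite T := Fusion.finite_of_le hTS
  have hT : IsPGroup p T := hS.to_le hTS
  have hD := hd.saturated hG
  by_cases hQT : Q₀ = T
  · intro P f hf
    refine hant i₀ P f hf ?_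
    have hY : secW (W i₀) T Q₀ = Q₀ := le_antisymm ((secW_le T Q₀).trans hQT.ge)
      (le_secW hQ₀.1 (Subgroup.normal_subgroupOf_of_le_normalizer (isNormal_normalizer hQ₀)))
    rw [hY]
    exact (Fusion.isNormal_iff.mp hQ₀).2 P f hf
  set Y := secW (W i₀) T Q₀ with hYdef
  by_cases hYn : D.IsNormal Y
  · exact fun P f hf => hant i₀ P f hf ((Fusion.isNormal_iff.mp hYn).2 P f hf)
  have hYle : Y ≤ T := secW_le T Q₀
  -- maps stabilizing a subgroup that is normal in `T` but not in `D`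
  have proper : ∀ V : Subgroup Ω, ∀ hV : V ≤ T, T ≤ Subgroup.normalizer (V : Set Ω) →
      ¬ D.IsNormal V → ∀ P f, IsMap D P f → ExtendsStab D V P f → IsMap E P f := by
    intro V hV hVT hVn P f hf hext
    have hNT : normalizerIn T V = T := inf_eq_left.mpr hVT
    have hVfn : D.IsFullyNormalized V :=
      ⟨hV, fun R _ => hNT.symm ▸ Subgroup.card_le_of_le (Fusion.normalizerIn_le T R)⟩
    refine ihn _ (hn ▸ ncard_normalizerSystem_lt hV hVn) (normalizerSystem D V hV) Q₀
      (hd.normalizer hG V hVfn) (isNormal_normalizerSystem hQ₀ hV (hNT.symm ▸ hQ₀.1))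
      (hc.to_le (autGroup_mono fun φ hφ => mem_hom_iff_isMap.mpr
        (isMap_le_of_normalizerSystem (isMap_extFun hφ)))) (fun i P' f' hf' hext' => ?_) rfl P f
      ((IsNormalizerSystem.isMap_iff (isNormalizerSystem_normalizerSystem V hV)).mpr
        ⟨hf, hNT.symm ▸ hf.dom_le, fun x hx => hNT.symm ▸ hf.apply_mem hx, hext⟩)
    refine hant i P' f' (isMap_le_of_normalizerSystem hf') ?_
    obtain ⟨f'', hf'', he, hY⟩ := hext'
    have hYe : secW (W i) (normalizerIn T V) Q₀ = secW (W i) T Q₀ := by rw [hNT]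
    rw [hYe] at hf'' hY
    exact ⟨f'', isMap_le_of_normalizerSystem hf'', he, hY⟩
  -- the core
  set Q := D.core with hQdef
  have hQ : D.IsNormal Q := Fusion91.isNormal_core D
  have hQ₀Q : Q₀ ≤ Q := Fusion91.le_core hQ₀
  have hQn := isNormal_normalizer hQ
  have hQ₀n := isNormal_normalizer hQ₀
  -- generation
  have hgen : (∀ U : Subgroup Ω, D.IsFullyNormalized U → D.IsCentric U → D.IsRadical p U →
      (∀ R : Subgroup Ω, Nat.card U < Nat.card R → ∀ f, IsMap D R f → IsMap E R f) →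
      ∀ f, IsMap D U f → f '' (U : Set Ω) = (U : Set Ω) → IsMap E U f) →
      ∀ P f, IsMap D P f → IsMap E P f := by
    intro haut
    have key : ∀ U : Subgroup Ω, D.IsFullyNormalized U → D.IsCentric U → D.IsRadical p U →
        (∀ R : Subgroup Ω, Nat.card U < Nat.card R → ∀ f, IsMap D R f → IsMap E R f) →
        D.autGroup U ≤ (restrictSystem D E hTS).autGroup U := fun U hUN hUC hUR hbig α hα => by
      have h1 := (mem_autGroup hUC.1).mp hα
      exact autGroup_mem_of_isMap (isMap_mkSub.mpr ⟨h1.1, haut U hUN hUC hUR hbig _ h1.1 h1.2⟩)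
    have hbig0 : ∀ R : Subgroup Ω, Nat.card T < Nat.card R → ∀ f, IsMap D R f → IsMap E R f :=
      fun R hR f hf => absurd (Subgroup.card_le_of_le hf.dom_le) (not_le.mpr hR)
    have hle := Fus93.le_of_aut hT hD (restrictSystem D E hTS)
      (key T fullyNormalized_self isCentric_self (isRadical_self hT hD) hbig0)
      (fun U _ hUN hUC hUR hbig => key U hUN hUC hUR fun R hR f hf =>
        (isMap_mkSub.mp (hf.of_subset (hbig R hR))).2)
    exact fun P f hf => (isMap_mkSub.mp (hf.of_le hle)).2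
  -- conjugations in a local model stabilizing the section
  have hsec : ∀ i U L (_ : Group L) (ι : ↥(normalizerIn T U) →* L) (Q₁ : Subgroup Ω),
      IsLocal D p U ι →
      secW (W i) ι.range ((Q₁.subgroupOf (normalizerIn T U)).map ι) =
        ((secW (W i) (normalizerIn T U) Q₁).subgroupOf (normalizerIn T U)).map ι := by
    intro i U L _ ι Q₁ h
    haveI : Finite (normalizerIn T U) := Fusion.finite_of_le (Fusion.normalizerIn_le T U)
    exact (secW_map (hd.invariant i) (hT.to_le (Fusion.normalizerIn_le T U)) ι h.shape.inj).symm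
  by_cases hRQ : centralizerIn T Q ≤ Q
  · -- `D` is constrained
    have hQC : D.IsCentric Q := ⟨hQ.1, fun Q' hQ' => by
      obtain ⟨f, hf⟩ := isConj_iff.mp hQ'
      rw [← SetLike.coe_injective ((isNormal_image hQ hf.1 le_rfl).symm.trans hf.2)]
      exact hRQ⟩
    obtain ⟨L, hL, hLf, ι, h⟩ :=
      exists_isLocal hT hD hQC (isNormal_fullyNormalized hQ)
    have hN : normalizerIn T Q = T := inf_eq_left.mpr hQn
    have hloc : LocalCond p D Q₀ ι := by
      refine ⟨h, hQC, isNormal_fullyNormalized hQ, hQ₀Q, ?_, fun g hg => ?_⟩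
      · refine ⟨?_⟩
        rintro _ ⟨x, hx, rfl⟩ g
        obtain ⟨f, hf, -, hfe⟩ := h.exists_map g le_rfl (hN.symm ▸ hQ.1) (fun y hy => by
          obtain ⟨v, -, hv⟩ := h.shape.exists_conj g ⟨y, hN.symm ▸ hQ.1 hy⟩ hy
          exact ⟨v, hv.symm⟩)
        obtain ⟨hfx, he⟩ := hfe x (hQ₀Q hx)
        exact ⟨_, isNormal_closed' hQ₀ hf (hQ₀Q hx) hx, he⟩
      · exact h.mem_centralizer_of_coprime hQ₀ hc hQ₀Q hg
    have hall := hd.constrained hG Q₀ Q L ι hloc hQ (fun i g hg R hR hUR f hf hfU he => by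
        rw [hsec i Q L hL ι Q₀ h] at hg
        obtain ⟨f', hf', hee, hfY⟩ := h.exists_extend hR hUR hf hfU he (secW_le _ _) hg
        rw [hN] at hf' hfY
        exact hant i R f hf ⟨f', hf', hee, hfY⟩)
      (fun V hV hVn hVnn g hg R hR hUR f hf hfU he => by
        rw [hN] at hV hVn
        have hVD : ¬ D.IsNormal V := fun hVD => hVnn ⟨by
          rintro _ ⟨x, hx, rfl⟩ g'
          have hxQ : (x : Ω) ∈ Q := Fusion91.le_core hVD hx
          obtain ⟨f₁, hf₁, -, hfe⟩ := h.exists_map g' le_rfl (hN.symm ▸ hQ.1) (fun y hy => by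
            obtain ⟨v, -, hv⟩ := h.shape.exists_conj g' ⟨y, hN.symm ▸ hQ.1 hy⟩ hy
            exact ⟨v, hv.symm⟩)
          obtain ⟨hfx, he'⟩ := hfe x hxQ
          exact ⟨_, isNormal_closed' hVD hf₁ hxQ hx, he'⟩⟩
        exact proper V hV hVn hVD R f hf (h.exists_extend hR hUR hf hfU he (hN.symm ▸ hV) hg))
    intro P f hf
    obtain ⟨f', hf', he, hfQ⟩ := (Fusion.isNormal_iff.mp hQ).2 P f hf
    have hsub : P ⊔ Q ≤ normalizerIn T Q := hN.symm ▸ hf'.dom_le
    obtain ⟨g, hg⟩ := h.exists_conj le_sup_right hsub hf' hfQ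
    exact ((hall g (P ⊔ Q) hsub le_sup_right f' hf' hfQ hg).mono le_sup_left).congr he
  set C := centralizerIn T Q with hCdef
  set R₁ := Q ⊔ C with hR₁def
  have hR₁T : R₁ ≤ T := sup_le hQ.1 (Fusion.centralizerIn_le T Q)
  have hR₁n : T ≤ Subgroup.normalizer (R₁ : Set Ω) := fun t ht => mem_normalizer_sup (hQn ht)
    (mem_normalizer_of_conj_mem_centralizer hQn ht)
  have hR₁ne : ¬ D.IsNormal R₁ := fun hR => hRQ (le_sup_right.trans (Fusion91.le_core hR))
  -- maps on a subgroup containing `R₁`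
  have hR₁map : ∀ P f, IsMap D P f → R₁ ≤ P → IsMap E P f := by
    intro P f hf hRP
    refine proper R₁ hR₁T hR₁n hR₁ne P f hf ⟨f, hf.mono (sup_le le_rfl hRP), fun _ _ => rfl, ?_⟩
    have hmem : ∀ x ∈ R₁, f x ∈ R₁ := isMap_mem_sup hf (le_sup_left.trans hRP)
      (le_sup_right.trans hRP)
      (fun x hx => Subgroup.mem_sup_left (isNormal_closed' hQ hf (hRP (Subgroup.mem_sup_left hx)) hx))
      (fun x hx => Subgroup.mem_sup_right (Fusion.map_mem_centralizer hf (le_sup_left.trans hRP)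
        (isNormal_image hQ hf (le_sup_left.trans hRP)) (hRP (Subgroup.mem_sup_right hx)) hx.2))
    exact Set.Subset.antisymm (fun y ⟨x, hx, he⟩ => he ▸ hmem x hx)
      (surjOn_of_card_le hR₁T (hf.injOn.mono hRP) hmem le_rfl)
  by_cases hcQ : IsPGroup p (D.autGroup Q)
  · -- every map is of central type at the core
    rcases hQ₀Q.lt_or_eq with hlt | heq
    · have hcard : Nat.card Q₀ < Nat.card Q := by
        haveI := Fusion.finite_of_le hQ.1
        exact lt_of_le_of_ne (Subgroup.card_le_of_le hQ₀Q)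
          fun h => hlt.ne (Subgroup.eq_of_le_of_card_ge hQ₀Q h.ge)
      have hcardS : Nat.card Q ≤ Nat.card S := Subgroup.card_le_of_le (hQ.1.trans hTS)
      refine ihk (Nat.card S - Nat.card Q) (by omega) Q hQ hcQ (fun i P f hf hext => ?_) rfl
      by_cases hQT' : Q = T
      · exact absurd ((Fusion.centralizerIn_le T Q).trans hQT'.ge) hRQ
      have hlt' : Q < secW (W i) T Q := lt_secW (hd.nontriv i) hT hQ.1 hQT'
        (Subgroup.normal_subgroupOf_of_le_normalizer hQn)
      refine proper _ (secW_le T Q) (fun t ht => secW_conj (W i) (hd.invariant i) hT hQ.1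
        (T.le_normalizer ht) (hQn ht)) (fun hYQ => hlt'.not_ge (Fusion91.le_core hYQ)) P f hf hext
    · refine hgen fun U hUN hUC hUR hbig f hf hfU => ?_
      have hQU : Q ≤ U := normal_le_radical hT hQ hUC hUR
      by_cases hR₁U : R₁ ≤ U
      · exact hR₁map U f hf hR₁U
      obtain ⟨L, hL, hLf, ι, h⟩ := exists_isLocal hT hD hUC hUN
      have hUle : U ≤ normalizerIn T U := Fusion.le_normalizerIn hUC.1
      have hUT : U ≠ T := fun hUT => hR₁U (hUT ▸ hR₁T)
      have hNlt := Fus93.card_normalizerIn_lt hT hUC.1 hUT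
      haveI := Fusion.finite_of_le hUC.1
      have hloc : LocalCond p D Q₀ ι := by
        refine ⟨h, hUC, hUN, heq ▸ hQU, ?_, fun g hg => h.mem_centralizer_of_coprime hQ₀ hc
          (heq ▸ hQU) hg⟩
        exact h.normal_map hQ₀ (heq ▸ hQU)
      obtain ⟨g, hg⟩ := h.exists_conj le_rfl hUle hf hfU
      refine hd.loc hG Q₀ U L ι hloc (fun i g' hg' R hR hUR' f' hf' hfU' he' => ?_) g f hf hfU
        (fun x _ hxU hfx => hg x hxU hfx)
      rw [hsec i U L hL ι Q₀ h] at hg'
      obtain ⟨f'', hf'', hee, hfY⟩ := h.exists_extend hR hUR' hf' hfU' he' (secW_le _ _) hg'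
      -- descending induction along normalizers
      have chain : ∀ (m : ℕ) (V : Subgroup Ω), V ≤ T → ¬ D.IsNormal V → Q ≤ normalizerIn T V →
          Nat.card U < Nat.card (normalizerIn T V) →
          Nat.card T - Nat.card (normalizerIn T V) = m →
          ∀ M, M ≤ normalizerIn T V → ∀ f : Ω → Ω, IsMap D (M ⊔ V) f →
            f '' (V : Set Ω) = (V : Set Ω) → IsMap E (M ⊔ V) f := by
        intro m
        induction m using Nat.strong_induction_on with
        | _ m ihm =>
        intro V hV hVn hQV hUV hm M hM f₁ hf₁ hf₁V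
        obtain ⟨V', hVV', hV'N⟩ := exists_fullyNormalized (F := D) hV
        obtain ⟨γ, hγ, hγV, hγN⟩ := exists_normalizer_map hT
          (fullyAutomized_of_fullyNormalized hT hD hV'N) (receptive_of_fullyNormalized hT hD hV'N)
          hVV'
        have hV'n : ¬ D.IsNormal V' := fun hn' => by
          obtain ⟨δ, hδ, -, -⟩ := hγV.exists_inv
          rw [← SetLike.coe_injective ((isNormal_image hn' hδ.1 le_rfl).symm.trans hδ.2)] at hVn
          exact hVn hn'
        have hV'T := hV'N.1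
        have hQV' : Q ≤ normalizerIn T V' := fun q hq => by
          obtain ⟨q', hq', rfl⟩ := (isNormal_image hQ hγ hQV).symm.subset hq
          exact hγN q' (hQV hq')
        have hcardγ : Nat.card (normalizerIn T V) ≤ Nat.card (normalizerIn T V') :=
          card_le_of_injOn (Fusion.normalizerIn_le T V') hγ.injOn hγN
        have hD' : ∀ P f, IsMap (normalizerSystem D V' hV'T) P f → IsMap E P f := by
          refine ihn _ (hn ▸ ncard_normalizerSystem_lt hV'T hV'n) (normalizerSystem D V' hV'T) Q₀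
            (hd.normalizer hG V' hV'N) (isNormal_normalizerSystem hQ₀ hV'T (heq ▸ hQV'))
            (hc.to_le (autGroup_mono fun φ hφ => mem_hom_iff_isMap.mpr
              (isMap_le_of_normalizerSystem (isMap_extFun hφ)))) (fun j P' f₂ hf₂ hext => ?_) rfl
          obtain ⟨f₃, hf₃, he₃, hY₃⟩ := hext
          have hf₃D := isMap_le_of_normalizerSystem hf₃
          by_cases hT' : normalizerIn T V' = T
          · rw [hT'] at hf₃D hY₃
            exact hant j P' f₂ (isMap_le_of_normalizerSystem hf₂) ⟨f₃, hf₃D, he₃, hY₃⟩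
          haveI := Fusion.finite_of_le (Fusion.normalizerIn_le T V')
          haveI := Fusion.finite_of_le hQ.1
          have hT'p := hT.to_le (Fusion.normalizerIn_le T V')
          have hQne : Q ≠ normalizerIn T V' := fun h => by
            have h1 := (hUV.trans_le hcardγ).trans_eq (by rw [h] : _ = Nat.card Q)
            exact absurd (Subgroup.card_le_of_le hQU) (not_le.mpr h1)
          have hlt' : Q < secW (W j) (normalizerIn T V') Q₀ := heq ▸ lt_secW (hd.nontriv j) hT'p
            (heq ▸ hQV') (heq ▸ hQne) (Subgroup.normal_subgroupOf_of_le_normalizer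
              ((Fusion.normalizerIn_le T V').trans hQ₀n))
          have hNN : normalizerIn T (normalizerIn T V') ≤
              normalizerIn T (secW (W j) (normalizerIn T V') Q₀) := fun t ht =>
            ⟨ht.1, secW_conj (W j) (hd.invariant j) hT'p (heq ▸ hQV') ht.2 (hQ₀n ht.1)⟩
          have hlt2 := Fus93.card_normalizerIn_lt hT (Fusion.normalizerIn_le T V') hT'
          haveI := Fusion.finite_of_le (Fusion.normalizerIn_le T
            (secW (W j) (normalizerIn T V') Q₀))
          have hcard2 := Subgroup.card_le_of_le hNN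
          have hM2 : P' ≤ normalizerIn T (secW (W j) (normalizerIn T V') Q₀) :=
            hf₂.dom_le.trans ((Fusion.le_normalizerIn (Fusion.normalizerIn_le T V')).trans hNN)
          have hcardT := Subgroup.card_le_of_le (Fusion.normalizerIn_le T
            (secW (W j) (normalizerIn T V') Q₀))
          refine ((ihm _ (by omega) (secW (W j) (normalizerIn T V') Q₀)
            ((secW_le _ _).trans (Fusion.normalizerIn_le T V'))
            (fun hn' => hlt'.not_ge (Fusion91.le_core hn'))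
            ((hQV'.trans (Fusion.le_normalizerIn (Fusion.normalizerIn_le T V'))).trans hNN)
            (by omega) rfl P' hM2 f₃ hf₃D hY₃).mono le_sup_left).congr he₃
        -- transport into the normalizer system
        have hMV : M ⊔ V ≤ normalizerIn T V := sup_le hM (Fusion.le_normalizerIn hV)
        have hf₁N : ∀ x ∈ M ⊔ V, f₁ x ∈ normalizerIn T V := fun x hx =>
          Fusion.map_mem_normalizer hf₁ le_sup_right hf₁V hx (hMV hx).2
        have hγE : IsMap E (normalizerIn T V) γ := hbig _ hUV γ hγ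
        obtain ⟨X, hX⟩ := hγ.exists_image
        obtain ⟨Z, hZ⟩ := (hγ.mono hMV).exists_image
        obtain ⟨δ, hδ, hδγ, -⟩ := hγV.exists_inv
        have hVX : IsIso E (normalizerIn T V) X γ := ⟨hγE, hX.2⟩
        obtain ⟨δ', hδ', hδ'γ, -⟩ := hVX.exists_inv
        obtain ⟨δZ, hδZ, hδZγ, -⟩ := hZ.exists_inv
        have hZX : Z ≤ X := fun z hz => by
          obtain ⟨x, hx, rfl⟩ := hZ.exists_preimage hz
          exact hX.mem (hMV hx)
        have hV'Z : V' ≤ Z := fun z hz => by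
          obtain ⟨x, hx, rfl⟩ := hγV.exists_preimage hz
          exact hZ.mem (Subgroup.mem_sup_right hx)
        have hk : IsMap D Z (γ ∘ f₁ ∘ δZ) :=
          (hδZ.comp_map hf₁).comp hγ fun y hy => hf₁N _ (hδZ.mem hy)
        have hkV : (γ ∘ f₁ ∘ δZ) '' (V' : Set Ω) = (V' : Set Ω) := by
          rw [← hγV.2, ← Set.image_comp]
          conv_rhs => rw [← hf₁V, ← Set.image_comp]
          exact Set.image_congr fun x hx => by
            simp only [Function.comp_apply]; rw [hδZγ x (Subgroup.mem_sup_right hx)]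
        have hZN : Z ≤ normalizerIn T V' := fun z hz => by
          obtain ⟨x, hx, rfl⟩ := hZ.exists_preimage hz
          exact hγN x (hMV hx)
        have hkE : IsMap E Z (γ ∘ f₁ ∘ δZ) := hD' Z _
          ((IsNormalizerSystem.isMap_iff (isNormalizerSystem_normalizerSystem V' hV'T)).mpr
            ⟨hk, hZN, fun z hz => Fusion.map_mem_normalizer hk hV'Z hkV hz (hZN hz).2,
              _, hk.mono (sup_le le_rfl hV'Z), fun _ _ => rfl, hkV⟩)
        refine (((hγE.mono hMV).comp hkE fun x hx => hZ.mem hx).comp hδ'.1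
          fun x hx => ?_).congr fun x hx => ?_
        · simp only [Function.comp_apply]
          rw [hδZγ x hx]
          exact hX.mem (hf₁N x hx)
        · simp only [Function.comp_apply]
          rw [hδZγ x hx, hδ'γ _ (hf₁N x hx)]
      haveI := Fusion.finite_of_le (Fusion.normalizerIn_le T U)
      haveI := Fusion.finite_of_le hQ.1
      have hQne : Q₀ ≠ normalizerIn T U := fun hh => by
        have h1 := Subgroup.card_le_of_le (heq ▸ hQU : Q₀ ≤ U)
        rw [hh] at h1
        omega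
      have hlt' : Q < secW (W i) (normalizerIn T U) Q₀ := heq ▸ lt_secW (hd.nontriv i)
        (hT.to_le (Fusion.normalizerIn_le T U)) ((heq ▸ hQU : Q₀ ≤ U).trans hUle) hQne
        (Subgroup.normal_subgroupOf_of_le_normalizer ((Fusion.normalizerIn_le T U).trans hQ₀n))
      have hNY : normalizerIn T U ≤ normalizerIn T (secW (W i) (normalizerIn T U) Q₀) := fun t ht =>
        ⟨ht.1, secW_conj (W i) (hd.invariant i) (hT.to_le (Fusion.normalizerIn_le T U))
          ((heq ▸ hQU : Q₀ ≤ U).trans hUle) ((normalizerIn T U).le_normalizer ht) (hQ₀n ht.1)⟩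
      haveI := Fusion.finite_of_le (Fusion.normalizerIn_le T
        (secW (W i) (normalizerIn T U) Q₀))
      exact ((chain _ _ ((secW_le _ _).trans (Fusion.normalizerIn_le T U))
        (fun hn' => hlt'.not_ge (Fusion91.le_core hn')) ((hQU.trans hUle).trans hNY)
        (hNlt.trans_le (Subgroup.card_le_of_le hNY)) rfl R (hR.trans hNY) f'' hf'' hfY).mono
        le_sup_left).congr hee
  · -- the maps of central type form a proper subsystem
    set D₁ := centralTypeSystem D Q hQ.1 hQn with hD₁def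
    have hD₁ : ∀ P f, IsMap D₁ P f → IsMap E P f := by
      refine ihn (mapGraphs D₁).ncard ?_ D₁ Q₀ (hd.centralType hG Q hQ hQn)
        (isNormal_centralType hQ₀ hQ₀Q) (hc.to_le (autGroup_mono (centralType_le _)))
        (fun i P f hf hext => hant i P f (isMap_centralType.mp hf).1 ?_) rfl
      · rw [← hn]
        refine ncard_mapGraphs_lt (fun P f h => (isMap_centralType.mp h).1) ?_
        by_contra hall
        push Not at hall
        exact hcQ ((isPGroup_autGroup_centralType hT).to_le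
          (autGroup_mono (hom_subset_of_isMap (hall Q))))
      · obtain ⟨f', hf', he, hY⟩ := hext
        exact ⟨f', (isMap_centralType.mp hf').1, he, hY⟩
    refine hgen fun U hUN hUC hUR hbig f hf hfU => ?_
    have hQU : Q ≤ U := normal_le_radical hT hQ hUC hUR
    by_cases hR₁U : R₁ ≤ U
    · exact hR₁map U f hf hR₁U
    obtain ⟨L, hL, hLf, ι, h⟩ := exists_isLocal hT hD hUC hUN
    have hUle : U ≤ normalizerIn T U := Fusion.le_normalizerIn hUC.1
    haveI := Fusion.finite_of_le hUC.1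
    obtain ⟨g, hg⟩ := h.exists_conj le_rfl hUle hf hfU
    -- Frattini
    set B := (Q.subgroupOf (normalizerIn T U)).map ι with hBdef
    haveI hBn : B.Normal := h.normal_map hQ hQU
    let K : Subgroup L := Subgroup.centralizer (B : Set L)
    obtain ⟨PL, hPL⟩ := h.sylow
    obtain ⟨RK, hRK⟩ := exists_sylow_eq_inf PL K
    obtain ⟨n', hn', c, hc', rfl⟩ := Subgroup.mem_sup_of_normal_right.mp
      (show g ∈ Subgroup.normalizer (((RK : Subgroup K).map K.subtype : Subgroup L) : Set L) ⊔ K by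
        rw [Sylow.normalizer_sup_eq_top RK]; trivial)
    rw [hRK, hPL] at hn'
    set C₀ := C ⊓ normalizerIn T U with hC₀def
    have hC₀map : ((C₀.subgroupOf (normalizerIn T U)).map ι) = ι.range ⊓ K := by
      refine le_antisymm ?_ ?_
      · rintro _ ⟨x, hx, rfl⟩
        refine ⟨⟨x, rfl⟩, Subgroup.mem_centralizer_iff.mpr ?_⟩
        rintro _ ⟨q, hq, rfl⟩
        rw [← map_mul, ← map_mul]
        exact congrArg ι (Subtype.ext (Subgroup.mem_centralizer_iff.mp hx.1.2 q hq))
      · rintro _ ⟨⟨x, rfl⟩, hx⟩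
        refine ⟨x, ⟨⟨x.2.1, Subgroup.mem_centralizer_iff.mpr fun q hq => ?_⟩, x.2⟩, rfl⟩
        have h1 := Subgroup.mem_centralizer_iff.mp hx (ι ⟨q, hUle (hQU hq)⟩) ⟨_, hq, rfl⟩
        rw [← map_mul, ← map_mul] at h1
        exact congrArg Subtype.val (h.shape.inj h1)
    obtain ⟨f₁, hf₁, hf₁U, hfe₁⟩ := h.exists_map c le_rfl hUle (fun y hy => by
      obtain ⟨v, -, hv⟩ := h.shape.exists_conj c ⟨y, hUle hy⟩ hy
      exact ⟨v, hv.symm⟩)
    obtain ⟨f₂, hf₂, hf₂U, hfe₂⟩ := h.exists_map n' le_rfl hUle (fun y hy => by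
      obtain ⟨v, -, hv⟩ := h.shape.exists_conj n' ⟨y, hUle hy⟩ hy
      exact ⟨v, hv.symm⟩)
    obtain ⟨f₃, hf₃, he₃, -⟩ := h.exists_extend (g := n') (Z := C₀) hUle le_rfl hf₂ hf₂U
      (fun x hx hfx => by obtain ⟨_, he⟩ := hfe₂ x hx; exact he) inf_le_right
      (by rw [hC₀map]; exact hn')
    have hC₀U : ¬ C₀ ≤ U := fun hC₀U => by
      haveI := Fusion.finite_of_le (sup_le hUC.1 hR₁T : U ⊔ R₁ ≤ T)
      have hne : U ≠ U ⊔ R₁ := fun h => hR₁U (h ▸ le_sup_right)
      have hlt := Fus93.card_normalizerIn_lt (hT.to_le (sup_le hUC.1 hR₁T)) le_sup_left hne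
      refine absurd (Subgroup.card_le_of_le (?_ : normalizerIn (U ⊔ R₁) U ≤ U)) (not_le.mpr hlt)
      intro x hx
      have hx1 : x ∈ U ⊔ C := by
        have : U ⊔ R₁ ≤ U ⊔ C := sup_le le_sup_left (sup_le (hQU.trans le_sup_left) le_sup_right)
        exact this hx.1
      rw [← SetLike.mem_coe, Subgroup.coe_mul_of_left_le_normalizer_right U C
        (fun t ht => mem_normalizer_of_conj_mem_centralizer hQn (hUC.1 ht))] at hx1
      obtain ⟨a, ha, z, hz, rfl⟩ := Set.mem_mul.mp hx1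
      refine U.mul_mem ha (hC₀U ⟨hz, hz.1, ?_⟩)
      simpa using (Subgroup.normalizer (U : Set Ω)).mul_mem (inv_mem (U.le_normalizer ha)) hx.2
    have hf₂E : IsMap E U f₂ := by
      have hlt : Nat.card U < Nat.card ↥(U ⊔ C₀) := by
        haveI := Fusion.finite_of_le hf₃.dom_le
        refine lt_of_le_of_ne (Subgroup.card_le_of_le le_sup_left) fun hh => hC₀U ?_
        exact le_sup_right.trans (Subgroup.eq_of_le_of_card_ge le_sup_left hh.ge).ge
      exact ((hbig _ hlt f₃ hf₃).mono le_sup_left).congr he₃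
    have hf₁E : IsMap E U f₁ := by
      refine hD₁ U f₁ (isMap_centralType_of_fix hf₁ hQU fun q hq => ?_)
      obtain ⟨hfx, he⟩ := hfe₁ q (hQU hq)
      refine congrArg Subtype.val (a₂ := (⟨q, hUle (hQU hq)⟩ : ↥(normalizerIn T U)))
        (h.shape.inj (he.trans ?_))
      rw [← Subgroup.mem_centralizer_iff.mp hc' (ι ⟨q, hUle (hQU hq)⟩) ⟨_, hq, rfl⟩]
      group
    refine (hf₁E.comp hf₂E fun x hx => hf₁U.subset ⟨x, hx, rfl⟩).congr fun x hx => ?_
    have hx₁ : f₁ x ∈ U := hf₁U.subset ⟨x, hx, rfl⟩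
    obtain ⟨hfx₁, he₁⟩ := hfe₁ x hx
    obtain ⟨hfx₂, he₂⟩ := hfe₂ _ hx₁
    have hfxN : f x ∈ normalizerIn T U := hUle (hfU.subset ⟨x, hx, rfl⟩)
    refine congrArg Subtype.val (a₁ := (⟨f₂ (f₁ x), hfx₂⟩ : ↥(normalizerIn T U)))
      (a₂ := ⟨f x, hfxN⟩) (h.shape.inj ?_)
    rw [hg x hx hfxN, he₂, he₁]
    group

/-- The reduction for a single functor. -/
theorem ControlData.control {E : Cfsg.FusionSystem S}
    {W : ∀ (Q : Type u) [Group Q], Subgroup Q}
    {Good : ∀ T : Subgroup Ω, Cfsg.FusionSystem T → Prop} [Finite S] (hS : IsPGroup p S)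
    (hd : ControlData p E W Good) {T : Subgroup Ω} (D : Cfsg.FusionSystem T) (Q₀ : Subgroup Ω)
    (hG : Good T D) (hQ₀ : D.IsNormal Q₀) (hc : IsPGroup p (D.autGroup Q₀))
    (hant : ∀ P f, IsMap D P f → ExtendsStab D (secW W T Q₀) P f → IsMap E P f) :
    ∀ P f, IsMap D P f → IsMap E P f :=
  ControlFamily.control (W := fun _ : Unit => W) hS
    { nontriv := fun _ => hd.nontriv
      invariant := fun _ => hd.invariant
      le := hd.le
      saturated := hd.saturated
      normalizer := hd.normalizer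
      centralType := hd.centralType
      loc := fun hG Q₀ U L _ ι h hant => hd.loc hG Q₀ U L ι h (hant ())
      constrained := fun hG Q₀ U L _ ι h hU hant => hd.constrained hG Q₀ U L ι h hU (hant ()) }
    D Q₀ hG hQ₀ hc fun _ => hant

omit [Fact p.Prime] in
theorem le_normalizer_map_W {W : ∀ (Q : Type u) [Group Q], Subgroup Q} (hW : IsInvariantW p W)
    [Finite S] (hS : IsPGroup p S) :
    S ≤ Subgroup.normalizer ((W ↥S).map S.subtype : Set Ω) := fun s hs =>
  Subgroup.le_normalizer_map S.subtype ⟨⟨s, hs⟩, by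
    rw [Subgroup.normalizer_eq_top_iff.mpr (normal_W hW (↥S) hS)]; trivial, rfl⟩

/-- The reduction for a system and the maps stabilizing `W(S)`. -/
theorem ControlData.control_top [Finite S] (hS : IsPGroup p S) {E : Cfsg.FusionSystem S}
    {W : ∀ (Q : Type u) [Group Q], Subgroup Q}
    {Good : ∀ T : Subgroup Ω, Cfsg.FusionSystem T → Prop} (hd : ControlData p E W Good)
    {F : Cfsg.FusionSystem S} (hG : Good S F)
    (hant : ∀ P f, IsMap F P f → ExtendsStab F ((W ↥S).map S.subtype) P f → IsMap E P f) :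
    ∀ P f, IsMap F P f → IsMap E P f := by
  refine hd.control hS F ⊥ hG (Fusion91.isNormal_bot F) ?_ fun P f hf hext => ?_
  · haveI : Subsingleton (MulAut (⊥ : Subgroup Ω)) :=
      ⟨fun a b => MulEquiv.ext fun x => Subsingleton.elim _ _⟩
    exact fun a => ⟨0, Subsingleton.elim _ _⟩
  · rw [secW_bot hd.invariant S hS] at hext
    exact hant P f hf hext

end Cfsg.Agent.Fusion92
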