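import Cfsg.Agent.Fusion92.Control
import Cfsg.Prelude.Def_FusionReduction
import Cfsg.Agent.Lib.Fusion.SubSat
import Cfsg.Agent.LocalEven61.Involves

set_option autoImplicit false

/-! Inheritance of section-freeness. -/

namespace Cfsg.Agent.Fusion92

open Cfsg Cfsg.Agent.Fusion
open Cfsg.FusionSystem (normalizerIn centralizerIn extender)

universe u v

variable {Ω : Type u} [Group Ω] {T : Subgroup Ω} {D : Cfsg.FusionSystem T} {p : ℕ} [Fact p.Prime]

/-- A subgroup containing `Q` and centric in the system of central type at `Q` is centric. -/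
theorem isCentric_of_centralType [Finite T] (hT : IsPGroup p T) (hD : D.IsSaturated p)
    {Q U : Subgroup Ω} (hQ : D.IsNormal Q) {hn : T ≤ Subgroup.normalizer (Q : Set Ω)}
    (hQU : Q ≤ U) (hU : (centralTypeSystem D Q hQ.1 hn).IsCentric U) : D.IsCentric U := by
  refine ⟨hU.1, fun V hV x hx => ?_⟩
  obtain ⟨f, hf⟩ := isConj_iff.mp hV
  have hQV : Q ≤ V := fun q hq => by
    obtain ⟨q', hq', rfl⟩ := (isNormal_image hQ hf.1 hQU).symm.subset hq
    exact hf.mem (hQU hq')
  obtain ⟨g, hg, hgl, hgr⟩ := hf.exists_inv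
  have hgQ : IsIso D Q Q g := ⟨hg.1.mono hQV, isNormal_image hQ hg.1 hQV⟩
  obtain ⟨φ, -, hφ⟩ := id hgQ.1
  have hVN : V ≤ extender T Q φ := fun v hv => (mem_extender_fun hφ).mpr
    ⟨hf.cod_le hv, hn (hf.cod_le hv), g v, hg.isMap.apply_mem hv,
      fun q hq => hg.isMap.map_conj hv (hQV hq)⟩
  have hxN : x ∈ extender T Q φ := (mem_extender_fun hφ).mpr ⟨hx.1, hn hx.1, 1, T.one_mem,
    fun q hq => by rw [← Subgroup.mem_centralizer_iff.mp hx.2 q (hQV hq)]; simp⟩
  obtain ⟨ε, hε, hεe⟩ := receptive_extend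
    (receptive_of_fullyNormalized hT hD (isNormal_fullyNormalized hQ)) hgQ
    (isExtendable_extender hφ)
  have hε' : IsMap D (extender T Q φ) ε := hε.mono le_sup_right
  have hk : IsMap D U (ε ∘ f) := hf.1.comp hε' fun y hy => hVN (hf.mem hy)
  have hkQ : ∀ q ∈ Q, (ε ∘ f) q = q := fun q hq => by
    show ε (f q) = q
    rw [hεe (isNormal_closed' hQ hf.1 (hQU hq) hq), hgl q (hQU hq)]
  obtain ⟨U', hU'⟩ := (isMap_centralType_of_fix (hQS := hQ.1) (hQ := hn) hk hQU hkQ).exists_image
  have hεx : ε x ∈ U' := hU.2 U' hU'.isConj ⟨hε'.apply_mem hxN,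
    Subgroup.mem_centralizer_iff.mpr fun y hy => by
      obtain ⟨u, hu, rfl⟩ := hU'.exists_preimage hy
      simp only [Function.comp_apply]
      rw [← hε'.map_mul (hVN (hf.mem hu)) hxN, ← hε'.map_mul hxN (hVN (hf.mem hu)),
        Subgroup.mem_centralizer_iff.mp hx.2 (f u) (hf.mem hu)]⟩
  obtain ⟨u, hu, he⟩ := hU'.exists_preimage hεx
  rw [← hε'.injOn (hVN (hf.mem hu)) hxN he]
  exact hf.mem hu

/-- A local model of a subsystem over the same subgroup, at a centric subgroup, is a subgroup of a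
local model of the system. -/
theorem IsLocal.exists_embedding_conj [Finite T] (hT : IsPGroup p T) (hD : D.IsSaturated p)
    {D' : Cfsg.FusionSystem T} (hle : D' ≤ D) {U : Subgroup Ω} (hC : D.IsCentric U) {L' : Type v}
    [Group L'] {ι' : ↥(normalizerIn T U) →* L'} (h' : IsLocal D' p U ι') :
    ∃ (W : Subgroup Ω) (L : Type u) (_ : Group L) (ι : ↥(normalizerIn T W) →* L),
      D.IsFullyNormalized W ∧ D.IsCentric W ∧ IsLocal D p W ι ∧
        ∃ j : L' →* L, Function.Injective j := by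
  have := h'.fin
  obtain ⟨W, hUW, hWN⟩ := exists_fullyNormalized (F := D) hC.1
  have hWC : D.IsCentric W := Fus93.isCentric_of_isConj hC hUW
  obtain ⟨L, hG, hL, ι, h⟩ := exists_isLocal hT hD hWC hWN
  obtain ⟨γ, hγ, hγW, hγN⟩ := exists_normalizer_map hT
    (fullyAutomized_of_fullyNormalized hT hD hWN) (receptive_of_fullyNormalized hT hD hWN) hUW
  let γN : ↥(normalizerIn T U) →* ↥(normalizerIn T W) :=
    MonoidHom.mk' (fun x => ⟨γ x, hγN x x.2⟩) fun x y => Subtype.ext (hγ.map_mul x.2 y.2)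
  have hγinj : Function.Injective γN := fun x y hxy =>
    Subtype.ext (hγ.injOn x.2 y.2 (congrArg Subtype.val hxy))
  have hmap : (U.subgroupOf (normalizerIn T U)).map (ι.comp γN) =
      (W.subgroupOf (normalizerIn T W)).map ι := by
    rw [← Subgroup.map_map]
    congr 1
    refine le_antisymm ?_ fun y hy => ?_
    · rintro _ ⟨x, hx, rfl⟩
      exact hγW.mem hx
    · obtain ⟨x, hx, he⟩ := hγW.exists_preimage hy
      exact ⟨⟨x, h'.shape.le hx⟩, hx, Subtype.ext he⟩
  have h2 : IsShape U (normalizerIn T U) (ι.comp γN) :=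
    ⟨h.shape.inj.comp hγinj, h'.shape.le, hmap.symm ▸ h.shape.norm, hmap.symm ▸ h.shape.cent⟩
  haveI : Finite U := Fusion.finite_of_le hC.1
  obtain ⟨j, hj, -⟩ := Fusion92.exists_embedding h'.shape h2 le_rfl (hT.to_le hC.1) h'.not_dvd_index
    (fun g R hUR hR f hf => by
      obtain ⟨f', hf', hfU, hfe⟩ := h'.exists_map g hUR hR (fun x hx => ⟨f ⟨x, hx⟩, hf ⟨x, hx⟩⟩)
      obtain ⟨g₂, hg₂⟩ := h.exists_conj_transport hγ hγW hγN hUR hR (hf'.of_le hle) hfU
      refine ⟨g₂, fun r => ?_⟩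
      obtain ⟨hfx, he⟩ := hfe r r.2
      rw [show f r = ⟨f' r, hfx⟩ from h'.shape.inj ((hf r).trans he.symm)]
      exact hg₂ r r.2 hfx)
  exact ⟨W, L, hG, ι, hWN, hWC, h, j, hj⟩

/-- Section-freeness, on local models. -/
theorem not_involves_of_isSectionFree [Finite T] (hT : IsPGroup p T) {H : Type*} [Group H]
    (hfree : D.IsSectionFree p H) {U : Subgroup Ω} (hUN : D.IsFullyNormalized U)
    (hUC : D.IsCentric U) {L : Type u} [Group L] {ι : ↥(normalizerIn T U) →* L}
    (h : IsLocal D p U ι) : ¬ Involves H L :=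
  hfree U hUN hUC _ (isNormalizerSystem_normalizerSystem U hUC.1) L ι
    (h.isModel hT (isNormalizerSystem_normalizerSystem U hUC.1))

theorem isSectionFree_normalizer [Finite T] (hT : IsPGroup p T) (hD : D.IsSaturated p) {H : Type*}
    [Group H] (hfree : D.IsSectionFree p H) {V : Subgroup Ω} (hV : D.IsFullyNormalized V) :
    (normalizerSystem D V hV.1).IsSectionFree p H := by
  intro U _ hUC M hM L _ ι hL hinv
  haveI : Finite (normalizerIn T V) := Fusion.finite_of_le (Fusion.normalizerIn_le T V)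
  obtain ⟨W, L', hG', ι', hWN, hWC, h', j, hj⟩ := exists_normalizer_embedding hT hD hV
    (isNormalizerSystem_normalizerSystem V hV.1) hUC
    (IsLocal.of_isModel (hT.to_le (Fusion.normalizerIn_le T V))
      (normalizerSystem_isSaturated hT hD hV) hUC hM hL)
  exact not_involves_of_isSectionFree hT hfree hWN hWC h' (LocalEven61.involves_trans hinv
    (LocalEven61.involves_of_hom (MonoidHom.id L) (fun x => ⟨x, rfl⟩) j hj))

theorem isSectionFree_centralType [Finite T] (hT : IsPGroup p T) (hD : D.IsSaturated p) {H : Type*}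
    [Group H] (hfree : D.IsSectionFree p H) {Q : Subgroup Ω} (hQ : D.IsNormal Q)
    (hn : T ≤ Subgroup.normalizer (Q : Set Ω)) :
    (centralTypeSystem D Q hQ.1 hn).IsSectionFree p H := by
  intro U hUN hUC M hM L _ ι hL hinv
  have hsat : (centralTypeSystem D Q hQ.1 hn).IsSaturated p := centralType_isSaturated hT hD hQ
  obtain ⟨U', L', hG', ι', hU'N, hU'C, hU'R, h', j, hj⟩ :=
    (IsLocal.of_isModel hT hsat hUC hM hL).exists_radical_embedding hT hsat hUC hUN
  have hQU' : Q ≤ U' := normal_le_radical hT (isNormal_centralType hQ le_rfl) hU'C hU'R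
  obtain ⟨W, L'', hG'', ι'', hWN, hWC, h'', k, hk⟩ := h'.exists_embedding_conj hT hD
    (centralType_le (hQS := hQ.1) (hQ := hn)) (isCentric_of_centralType hT hD hQ hQU' hU'C)
  exact not_involves_of_isSectionFree hT hfree hWN hWC h'' (LocalEven61.involves_trans hinv
    (LocalEven61.involves_of_hom (MonoidHom.id L) (fun x => ⟨x, rfl⟩) (k.comp j) (hk.comp hj)))

end Cfsg.Agent.Fusion92
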