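import Cfsg.Agent.Fusion92.Sparse
import Cfsg.Agent.PLocalB.NormalPComplementZJ

set_option autoImplicit false
set_option linter.style.haveILetI false

/-! The intersection of an axiomatic family of abelian subgroups. -/

namespace Cfsg.Agent.Fusion92

open Cfsg
open scoped commutatorElement

variable {G : Type*} [Group G] [Finite G] {p : ℕ} [Fact p.Prime]

/-- The intersection of the members contained in `H`. -/
def famCore {G : Type*} [Group G] (𝒜 : Set (Subgroup G)) (H : Subgroup G) : Subgroup G :=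
  ⨅ A ∈ {A : Subgroup G | A ∈ 𝒜 ∧ A ≤ H}, A

omit [Finite G] in
theorem famCore_le {𝒜 : Set (Subgroup G)} {H A : Subgroup G} (hA : A ∈ 𝒜) (hAH : A ≤ H) :
    famCore 𝒜 H ≤ A :=
  iInf₂_le A ⟨hA, hAH⟩

omit [Finite G] in
theorem le_famCore {𝒜 : Set (Subgroup G)} {H X : Subgroup G}
    (h : ∀ A ∈ 𝒜, A ≤ H → X ≤ A) : X ≤ famCore 𝒜 H :=
  le_iInf₂ fun A hA => h A hA.1 hA.2

/-- The intersection of a family with invariance and replacement is normal in a group with
self-centralizing `p`-core and quadratic elements in the core. -/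
theorem famCore_normal (hc : Subgroup.centralizer (pCore p G : Set G) ≤ pCore p G)
    (hst : ∀ (P : Subgroup G) [P.Normal], IsPGroup p P → IsPStableOn p P) (S : Sylow p G)
    {𝒜 : Set (Subgroup G)} (h𝒜 : ∀ A ∈ 𝒜, A ≤ (S : Subgroup G) ∧ IsMulCommutative A)
    (hne : 𝒜.Nonempty)
    (hinv : ∀ H : Subgroup G, pCore p G ≤ H → H ≤ (S : Subgroup G) → (∃ A ∈ 𝒜, A ≤ H) →
      ∀ g ∈ Subgroup.normalizer (H : Set G), ∀ x ∈ famCore 𝒜 H, g * x * g⁻¹ ∈ famCore 𝒜 H)
    (hrep : ∀ B : Subgroup G, B ≤ (S : Subgroup G) → ⁅⁅B, B⁆, B⁆ = ⊥ →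
      (∃ A ∈ 𝒜, ⁅B, B⁆ ≤ A ∧ ¬ B ≤ A) →
      ∃ A ∈ 𝒜, ⁅B, B⁆ ≤ A ∧ ¬ B ≤ A ∧ B ≤ Subgroup.normalizer (A : Set G)) :
    (famCore 𝒜 (S : Subgroup G)).Normal := by
  classical
  set Z := famCore 𝒜 (S : Subgroup G) with hZ
  set Q := pCore p G with hQdef
  have hQS : Q ≤ (S : Subgroup G) := Cfsg.Agent.Thompson.pCore_le_sylow S
  have hQp : IsPGroup p Q := Cfsg.Agent.Thompson.isPGroup_pCore
  obtain ⟨A₀, hA₀⟩ := hne
  have hZA : ∀ A ∈ 𝒜, Z ≤ A := fun A hA => famCore_le hA (h𝒜 A hA).1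
  have hSZ : (S : Subgroup G) ≤ Subgroup.normalizer (Z : Set G) := by
    intro s hs
    apply mem_normalizer_of_conj_mem
    intro x hx
    exact hinv _ hQS le_rfl ⟨A₀, hA₀, (h𝒜 A₀ hA₀).1⟩ s (Subgroup.le_normalizer hs) x hx
  have hZc : IsMulCommutative Z := by
    haveI := (h𝒜 A₀ hA₀).2
    exact ⟨⟨fun a b => Subtype.ext (congrArg Subtype.val
      ((inferInstance : IsMulCommutative A₀).is_comm.comm (⟨a, hZA A₀ hA₀ a.2⟩ : A₀)
        ⟨b, hZA A₀ hA₀ b.2⟩) :)⟩⟩
  have hquad : ∀ (B A : Subgroup G), IsMulCommutative A → B ≤ Subgroup.normalizer (A : Set G) →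
      ⁅⁅B, A⁆, A⁆ = ⊥ := by
    intro B A hA hBN
    refine le_bot_iff.mp
      ((Subgroup.commutator_mono (Subgroup.le_normalizer_iff_commutator_le_right.mp hBN) le_rfl).trans ?_)
    rw [le_bot_iff, Subgroup.commutator_eq_bot_iff_le_centralizer]
    exact Subgroup.le_centralizer_iff_isMulCommutative.mpr hA
  have hZQ : Z ≤ Q := by
    refine (PLocalB.mem_comap_pCore_of_quadratic (hst Q hQp) Z
      (hquad Q Z hZc (hQS.trans hSZ))).trans ?_
    refine Cfsg.Agent.Thompson.le_pCore inferInstance ?_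
    refine IsPGroup.comap_of_ker_isPGroup Cfsg.Agent.Thompson.isPGroup_pCore _ ?_
    rw [QuotientGroup.ker_mk']
    exact hQp.to_le hc
  suffices H : ∀ B : Subgroup G, B.Normal → B ≤ Q → (B ⊓ Z).Normal by
    have := H Q inferInstance le_rfl
    rwa [inf_eq_right.mpr hZQ] at this
  intro B
  induction hn : Nat.card B using Nat.strong_induction_on generalizing B with
  | _ n ih =>
  intro hB hBQ
  subst hn
  set Z₁ := B ⊓ Z with hZ₁
  set B₁ := Subgroup.normalClosure (Z₁ : Set G) with hB₁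
  have hB₁B : B₁ ≤ B := Subgroup.normalClosure_le_normal fun x hx => hx.1
  by_cases hlt : B₁ < B
  · have hcard : Nat.card B₁ < Nat.card B := by
      by_contra h
      exact hlt.ne (Subgroup.eq_of_le_of_card_ge hlt.le (Nat.not_lt.mp h))
    have := ih _ hcard B₁ rfl Subgroup.normalClosure_normal (hlt.le.trans hBQ)
    rwa [show B₁ ⊓ Z = Z₁ from le_antisymm (inf_le_inf_right _ hB₁B)
      (le_inf Subgroup.le_normalClosure inf_le_right)] at this
  have hBeq : B₁ = B := eq_of_le_of_not_lt hB₁B hlt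
  by_cases hbot : B = ⊥
  · rw [hZ₁, hbot, bot_inf_eq]; infer_instance
  by_contra hnn
  haveI := hB
  have hBp : IsPGroup p B := hQp.to_le hBQ
  have hBS : B ≤ (S : Subgroup G) := hBQ.trans hQS
  have hB'lt : ⁅B, B⁆ < B := lt_of_le_of_ne (Subgroup.commutator_le_self B) fun he =>
    hbot (Coprime.eq_bot_of_le_commutator B hBp.isNilpotent le_rfl he.ge)
  have hB'Z : ⁅B, B⁆ ≤ Z := by
    have hcard : Nat.card ↥⁅B, B⁆ < Nat.card B := by
      by_contra h
      exact hB'lt.ne (Subgroup.eq_of_le_of_card_ge hB'lt.le (Nat.not_lt.mp h))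
    have hN : (⁅B, B⁆ ⊓ Z).Normal := ih _ hcard ⁅B, B⁆ rfl inferInstance (hB'lt.le.trans hBQ)
    let T : Subgroup G := (Subgroup.centralizer
      ((B.map (QuotientGroup.mk' (⁅B, B⁆ ⊓ Z)) : Subgroup _) : Set _)).comap
        (QuotientGroup.mk' (⁅B, B⁆ ⊓ Z))
    have hT : ∀ x, x ∈ T ↔ ∀ y ∈ B, ⁅x, y⁆ ∈ ⁅B, B⁆ ⊓ Z := by
      intro x
      simp only [T, Subgroup.mem_comap, Subgroup.mem_centralizer_iff,
        Subgroup.coe_map, Set.forall_mem_image]
      refine forall₂_congr fun y _ => ?_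
      rw [← QuotientGroup.eq_one_iff, eq_comm, commutatorElement_def]
      simp only [QuotientGroup.mk'_apply, QuotientGroup.mk_mul, QuotientGroup.mk_inv]
      rw [mul_inv_eq_one, mul_inv_eq_iff_eq_mul]
    haveI : T.Normal := by
      haveI : (B.map (QuotientGroup.mk' (⁅B, B⁆ ⊓ Z))).Normal :=
        Subgroup.Normal.map hB _ (QuotientGroup.mk'_surjective _)
      infer_instance
    have hZT : Z₁ ≤ T := by
      intro x hx
      rw [hT]
      intro y hy
      refine ⟨Subgroup.commutator_mem_commutator hx.1 hy, ?_⟩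
      have h1 := (Subgroup.mem_normalizer_iff.mp (hSZ (hBS hy)) x⁻¹).mp (inv_mem hx.2)
      rw [commutatorElement_def, mul_assoc x y, mul_assoc x]
      exact mul_mem hx.2 h1
    have hBT : B ≤ T := hBeq ▸ Subgroup.normalClosure_le_normal hZT
    rw [Subgroup.commutator_le]
    exact fun x hx y hy => ((hT x).mp (hBT hx) y hy).2
  have hclass : ⁅⁅B, B⁆, B⁆ = ⊥ := by
    rw [Subgroup.commutator_eq_bot_iff_le_centralizer, Subgroup.le_centralizer_iff]
    conv_lhs => rw [← hBeq]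
    refine Subgroup.normalClosure_le_normal fun x hx => Subgroup.mem_centralizer_iff.mpr fun z hz => ?_
    exact congrArg Subtype.val (hZc.is_comm.comm (⟨z, hB'Z hz⟩ : Z) ⟨x, hx.2⟩)
  set D := (pCore p (G ⧸ Subgroup.centralizer (B : Set G))).comap
    (QuotientGroup.mk' (Subgroup.centralizer (B : Set G))) with hD
  have hCD : Subgroup.centralizer (B : Set G) ≤ D := fun x hx => by
    simp [hD, Subgroup.mem_comap, (QuotientGroup.eq_one_iff x).mpr hx]
  let S₁ : Subgroup G := (S : Subgroup G) ⊓ D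
  have hQD : Q ≤ D := fun x hx => Cfsg.Agent.Thompson.map_pCore_le_of_surjective _
    (QuotientGroup.mk'_surjective _) (Subgroup.mem_map_of_mem _ hx)
  have hDgen : D = S₁ ⊔ Subgroup.centralizer (B : Set G) := by
    apply le_antisymm _ (sup_le inf_le_right hCD)
    have hmap : (S : Subgroup G).map (QuotientGroup.mk' (Subgroup.centralizer (B : Set G))) =
        (S.mapSurjective (QuotientGroup.mk'_surjective (Subgroup.centralizer (B : Set G))) :
          Subgroup _) := rfl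
    intro x hx
    have h1 : QuotientGroup.mk' (Subgroup.centralizer (B : Set G)) x ∈
        (S : Subgroup G).map (QuotientGroup.mk' _) := by
      rw [hmap]; exact Cfsg.Agent.Thompson.pCore_le_sylow _ hx
    obtain ⟨s, hs, hsx⟩ := h1
    have hcm : s⁻¹ * x ∈ Subgroup.centralizer (B : Set G) := QuotientGroup.eq.mp hsx
    have hsD : s ∈ D := by
      rw [← mul_inv_cancel_right s (s⁻¹ * x)]
      simpa [mul_assoc] using mul_mem hx (inv_mem (hCD hcm))
    rw [← mul_inv_cancel_left s x]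
    exact Subgroup.mul_mem_sup ⟨hs, hsD⟩ hcm
  have hDZ : D ≤ Subgroup.normalizer (Z₁ : Set G) := by
    rw [hDgen]
    refine sup_le (fun s hs => ?_) fun c hcm => ?_ <;> apply mem_normalizer_of_conj_mem <;>
      intro x hx
    · exact ⟨hB.conj_mem x hx.1 s, (Subgroup.mem_normalizer_iff.mp (hSZ hs.1) x).mp hx.2⟩
    · rwa [← Subgroup.mem_centralizer_iff.mp hcm x hx.1, mul_inv_cancel_right]
  have hkey : ∀ A ∈ 𝒜, A ≤ S₁ → B ≤ A := by
    intro A hA hle
    have hZW : Z ≤ famCore 𝒜 S₁ :=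
      le_famCore fun A' hA' _ => hZA A' hA'
    refine le_trans ?_ (famCore_le hA hle)
    conv_lhs => rw [← hBeq]
    rw [hB₁, Subgroup.normalClosure, Subgroup.closure_le]
    intro x hx
    obtain ⟨z, hz, hzx⟩ := Group.mem_conjugatesOfSet_iff.mp hx
    obtain ⟨g, rfl⟩ := isConj_iff.mp hzx
    obtain ⟨m, hm, d, hd, rfl⟩ := Subgroup.mem_sup_of_normal_right.mp
      ((PLocalB.normalizer_inf_sup_eq_top S D) ▸ Subgroup.mem_top g :
        g ∈ Subgroup.normalizer (S₁ : Set G) ⊔ D)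
    have h1 : d * z * d⁻¹ ∈ famCore 𝒜 S₁ :=
      hZW ((Subgroup.mem_normalizer_iff.mp (hDZ hd) z).mp hz).2
    have := hinv S₁ (le_inf hQS hQD) inf_le_left ⟨A, hA, hle⟩ m hm _ h1
    simpa [mul_assoc] using this
  by_cases hall : ∀ A ∈ 𝒜, B ≤ A
  · apply hnn
    have : Z₁ = B := inf_eq_left.mpr (le_famCore fun A hA _ => hall A hA)
    rw [this]; exact hB
  push Not at hall
  obtain ⟨A, hA, hBA⟩ := hall
  obtain ⟨A', hA', -, hBA', hBN⟩ := hrep B hBS hclass ⟨A, hA, hB'Z.trans (hZA A hA), hBA⟩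
  exact hBA' (hkey A' hA' (le_inf (h𝒜 A' hA').1
    (PLocalB.mem_comap_pCore_of_quadratic (hst B hBp) A' (hquad B A' (h𝒜 A' hA').2 hBN))))

end Cfsg.Agent.Fusion92
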