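import Cfsg.Agent.Fusion92.Centric

set_option autoImplicit false

/-! The twisted biset attached to a centric subgroup `U`: a finite `N × N`-set `X`
(`N = N_S(U)`) with an equivariant map to `Aut_F(U)` whose fibres are torsors of `Z(U)`. -/

namespace Cfsg.Agent.Fusion92

open Cfsg Cfsg.FusionSystem Cfsg.Agent.Fusion91

universe u

variable {Ω : Type u} [Group Ω] {S : Subgroup Ω}

/-- The hypotheses on `U` under which the model of `N_F(U)` is constructed. -/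
structure ModelSetup [Finite S] (p : ℕ) [Fact p.Prime] (F : Cfsg.FusionSystem S)
    (U : Subgroup Ω) : Prop where
  isP : IsPGroup p S
  sat : F.IsSaturated p
  centric : F.IsCentric U
  automized : F.IsFullyAutomized p U
  receptive : F.IsReceptive U

/-- Conjugation action of `N_S(U)` on `U`. -/
def nAut (S U : Subgroup Ω) : ↥(normalizerIn S U) →* MulAut U :=
  U.normalizerMonoidHom.comp (Subgroup.inclusion inf_le_right)

theorem nAut_apply {U : Subgroup Ω} (n : ↥(normalizerIn S U)) (u : U) :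
    ((nAut S U n u : U) : Ω) = n * u * (n : Ω)⁻¹ := rfl

variable [Finite S] {p : ℕ} [Fact p.Prime] {F : Cfsg.FusionSystem S} {U : Subgroup Ω}

namespace ModelSetup

variable (h : ModelSetup p F U)
include h

theorem le : U ≤ S := h.centric.1

theorem finiteU : Finite U := finite_of_le h.le

theorem finiteN : Finite ↥(normalizerIn S U) := finite_of_le (normalizerIn_le U)

theorem finiteA : Finite (F.autGroup U) :=
  have := h.finiteU
  finite_autGroup F U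

/-- The map `N_S(U) → Aut_F(U)`. -/
def piA : ↥(normalizerIn S U) →* F.autGroup U :=
  (nAut S U).codRestrict (F.autGroup U) fun n => by
    refine (mem_autGroup_iff F h.le).mpr ?_
    convert F.conj_mem h.le (normalizerIn_le U n.2) using 1
    exact MonoidHom.ext fun x => rfl

theorem piA_apply (n : ↥(normalizerIn S U)) (u : U) :
    ((((h.piA n : F.autGroup U) : MulAut U) u : U) : Ω) = n * u * (n : Ω)⁻¹ := rfl

/-- `Aut_S(U)` inside `Aut_F(U)`. -/
def autS : Subgroup (F.autGroup U) := h.piA.range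

theorem autS_eq : h.autS = (autInducedBy S U).subgroupOf (F.autGroup U) := by
  have := h.finiteU
  ext a
  rw [Subgroup.mem_subgroupOf, mem_autInducedBy_iff]
  constructor
  · rintro ⟨n, rfl⟩
    exact ⟨n, normalizerIn_le U n.2, fun u => rfl⟩
  · rintro ⟨g, hg, he⟩
    have hgN : g ∈ normalizerIn S U :=
      ⟨hg, mem_normalizer_of_conj_mem fun u hu => he ⟨u, hu⟩ ▸ SetLike.coe_mem _⟩
    exact ⟨⟨g, hgN⟩, Subtype.ext (MulEquiv.ext fun u => Subtype.ext (he u).symm)⟩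

/-- The centre of `U` inside `N_S(U)`. -/
def zin : Subgroup.center U →* ↥(normalizerIn S U) :=
  (Subgroup.inclusion (le_normalizerIn h.le)).comp (Subgroup.center U).subtype

theorem coe_zin (w : Subgroup.center U) : (h.zin w : Ω) = ((w : U) : Ω) := rfl

theorem zin_injective : Function.Injective h.zin :=
  fun a b e => Subtype.ext (Subtype.ext (congrArg (fun n : ↥(normalizerIn S U) => (n : Ω)) e))

theorem piA_zin (w : Subgroup.center U) : h.piA (h.zin w) = 1 := by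
  refine Subtype.ext (MulEquiv.ext fun u => Subtype.ext ?_)
  rw [piA_apply]
  show ((w : U) : Ω) * u * ((w : U) : Ω)⁻¹ = u
  have h1 : ((u * (w : U) : U) : Ω) = (((w : U) * u : U) : Ω) :=
    congrArg Subtype.val (Subgroup.mem_center_iff.mp w.2 u)
  simp only [Subgroup.coe_mul] at h1
  rw [← h1, mul_inv_cancel_right]

theorem exists_zin {n : ↥(normalizerIn S U)} (hn : h.piA n = 1) : ∃ w, h.zin w = n := by
  have hc : ∀ u ∈ U, (n : Ω) * u = u * n := by
    intro u hu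
    have h1 : (n : Ω) * u * (n : Ω)⁻¹ = u := by
      rw [← h.piA_apply n ⟨u, hu⟩, hn]; rfl
    exact mul_inv_eq_iff_eq_mul.mp h1
  have : (n : Ω) ∈ centralizerIn S U := ⟨normalizerIn_le U n.2, fun u hu => (hc u hu).symm⟩
  have hnU : (n : Ω) ∈ U := h.centric.2 U ⟨U.subtype, subtype_mem F h.le, U.range_subtype⟩ this
  refine ⟨⟨⟨n, hnU⟩, Subgroup.mem_center_iff.mpr fun u => Subtype.ext ?_⟩, Subtype.ext rfl⟩
  exact (hc u u.2).symm

theorem piA_inclusion_conj (a : F.autGroup U) (u : U) :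
    a⁻¹ * h.piA (Subgroup.inclusion (le_normalizerIn h.le) u) * a =
      h.piA (Subgroup.inclusion (le_normalizerIn h.le) ((a : MulAut U)⁻¹ u)) := by
  refine Subtype.ext (MulEquiv.ext fun v => Subtype.ext ?_)
  rw [piA_apply]
  show (((a : MulAut U)⁻¹ ((nAut S U _) ((a : MulAut U) v)) : U) : Ω) = _
  have : (nAut S U) (Subgroup.inclusion (le_normalizerIn h.le) u) ((a : MulAut U) v) =
      u * (a : MulAut U) v * u⁻¹ := Subtype.ext rfl
  rw [this, map_mul, map_mul, map_inv, MulAut.inv_apply_self]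
  rfl

/-- The domain on which `a⁻¹` extends, as a subgroup of `N_S(U)`. -/
def dom (a : F.autGroup U) : Subgroup ↥(normalizerIn S U) :=
  h.autS.comap ((MulAut.conj a⁻¹).toMonoidHom.comp h.piA)

theorem mem_dom {a : F.autGroup U} {k : ↥(normalizerIn S U)} :
    k ∈ h.dom a ↔ a⁻¹ * h.piA k * a ∈ h.autS := by
  show a⁻¹ * h.piA k * a⁻¹⁻¹ ∈ h.autS ↔ _
  rw [inv_inv]

theorem inclusion_mem_dom (a : F.autGroup U) (u : U) :
    Subgroup.inclusion (le_normalizerIn h.le) u ∈ h.dom a := by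
  rw [mem_dom, piA_inclusion_conj]
  exact ⟨_, rfl⟩

/-- The domain as a subgroup of the ambient group. -/
def domΩ (a : F.autGroup U) : Subgroup Ω := (h.dom a).map (normalizerIn S U).subtype

theorem mem_domΩ {a : F.autGroup U} {k : ↥(normalizerIn S U)} :
    (k : Ω) ∈ h.domΩ a ↔ k ∈ h.dom a := by
  refine ⟨?_, fun hk => ⟨k, hk, rfl⟩⟩
  rintro ⟨k', hk', he⟩
  exact (Subtype.ext he : k' = k) ▸ hk'

theorem le_domΩ (a : F.autGroup U) : U ≤ h.domΩ a :=
  fun u hu => ⟨_, h.inclusion_mem_dom a ⟨u, hu⟩, rfl⟩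

theorem domΩ_le (a : F.autGroup U) : h.domΩ a ≤ normalizerIn S U := Subgroup.map_subtype_le _

theorem exists_ext (a : F.autGroup U) :
    ∃ φ ∈ F.Hom (h.domΩ a), ∀ (u : Ω) (hu : u ∈ U),
      φ ⟨u, h.le_domΩ a hu⟩ = (((a : MulAut U)⁻¹ ⟨u, hu⟩ : U) : Ω) := by
  have hφ : autHom ((a : MulAut U)⁻¹) ∈ F.Hom U := autHom_mem F h.le (inv_mem a.2)
  obtain ⟨ψ, hψ, he⟩ := h.receptive.2 U _ hφ (range_autHom _)
  have hle : h.domΩ a ≤ extender S U (autHom ((a : MulAut U)⁻¹)) := by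
    rintro _ ⟨k, hk, rfl⟩
    obtain ⟨n, hn⟩ := h.mem_dom.mp hk
    refine Subgroup.subset_closure
      ⟨normalizerIn_le U k.2, k.2.2, n, normalizerIn_le U n.2, fun x hx => ?_⟩
    have h1 := congrArg
      (fun b : F.autGroup U => (((b : MulAut U) ((a : MulAut U)⁻¹ x) : U) : Ω)) hn
    simp only [piA_apply] at h1
    show (((a : MulAut U)⁻¹ ⟨_, hx⟩ : U) : Ω) = _
    rw [autHom_apply]
    refine Eq.trans ?_ h1.symm
    simp only [Subgroup.coe_mul, InvMemClass.coe_inv, MulAut.mul_apply,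
      MulAut.apply_inv_self]
    rfl
  refine ⟨ψ.comp (Subgroup.inclusion hle), restrict_mem F hψ hle, fun u hu => ?_⟩
  exact he u hu (hle (h.le_domΩ a hu))

theorem mapsTo_normalizer (a : F.autGroup U) {R : Subgroup Ω} (hUR : U ≤ R)
    (hRN : R ≤ normalizerIn S U) {φ : R →* Ω} (hφ : φ ∈ F.Hom R)
    (hφa : ∀ (u : Ω) (hu : u ∈ U), φ ⟨u, hUR hu⟩ = (((a : MulAut U) ⟨u, hu⟩ : U) : Ω)) (x : R) :
    φ x ∈ normalizerIn S U := by
  have := h.finiteU
  refine ⟨val_mem F hφ x, map_mem_normalizer hUR (map_eq_of_maps_to F hUR hφ ?_) (hRN x.2).2⟩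
  intro z hz
  have h1 := hφa z hz
  exact h1 ▸ SetLike.coe_mem _

theorem piA_of_map (a : F.autGroup U) {R : Subgroup Ω} (hUR : U ≤ R)
    (hRN : R ≤ normalizerIn S U) {φ : R →* Ω} (hφ : φ ∈ F.Hom R)
    (hφa : ∀ (u : Ω) (hu : u ∈ U), φ ⟨u, hUR hu⟩ = (((a : MulAut U) ⟨u, hu⟩ : U) : Ω)) (x : R) :
    h.piA ⟨φ x, h.mapsTo_normalizer a hUR hRN hφ hφa x⟩ =
      a * h.piA (Subgroup.inclusion hRN x) * a⁻¹ := by
  refine Subtype.ext (MulEquiv.ext fun v => Subtype.ext ?_)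
  obtain ⟨u, rfl⟩ := (a : MulAut U).surjective v
  rw [piA_apply]
  show φ x * _ * (φ x)⁻¹ = (((a : MulAut U) (nAut S U (Subgroup.inclusion hRN x)
    ((a : MulAut U)⁻¹ ((a : MulAut U) u))) : U) : Ω)
  rw [MulAut.inv_apply_self]
  have h1 := hφa u u.2
  rw [← h1, ← map_inv, ← map_mul, ← map_mul]
  have h2 := hφa _ (nAut S U (Subgroup.inclusion hRN x) u).2
  exact h2

/-- An extension of `a⁻¹` to its domain. -/
noncomputable def ext (a : F.autGroup U) : h.dom a →* ↥(normalizerIn S U) :=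
  ((h.exists_ext a).choose.comp
    (((normalizerIn S U).subtype.comp (h.dom a).subtype).codRestrict (h.domΩ a)
      fun k => h.mem_domΩ.mpr k.2)).codRestrict (normalizerIn S U) fun k =>
    h.mapsTo_normalizer a⁻¹ (h.le_domΩ a) (h.domΩ_le a) (h.exists_ext a).choose_spec.1
      (fun u hu => (h.exists_ext a).choose_spec.2 u hu) _

theorem coe_ext (a : F.autGroup U) (k : h.dom a) :
    (h.ext a k : Ω) = (h.exists_ext a).choose ⟨(k : ↥(normalizerIn S U)), h.mem_domΩ.mpr k.2⟩ :=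
  rfl

theorem ext_inclusion (a : F.autGroup U) (u : U) :
    h.ext a ⟨_, h.inclusion_mem_dom a u⟩ =
      Subgroup.inclusion (le_normalizerIn h.le) ((a : MulAut U)⁻¹ u) :=
  Subtype.ext ((h.exists_ext a).choose_spec.2 u u.2)

theorem piA_ext (a : F.autGroup U) (k : h.dom a) :
    h.piA (h.ext a k) = a⁻¹ * h.piA (k : ↥(normalizerIn S U)) * a := by
  have h1 := h.piA_of_map a⁻¹ (h.le_domΩ a) (h.domΩ_le a) (h.exists_ext a).choose_spec.1
    (fun u hu => (h.exists_ext a).choose_spec.2 u hu) ⟨_, h.mem_domΩ.mpr k.2⟩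
  rw [inv_inv] at h1
  exact h1

/-- The twisted diagonal of an extension. -/
noncomputable def diag (a : F.autGroup U) :
    Subgroup (↥(normalizerIn S U) × ↥(normalizerIn S U)) :=
  ((h.dom a).subtype.prod (h.ext a)).range

/-- Double cosets of `Aut_S(U)` in `Aut_F(U)`. -/
abbrev DC := DoubleCoset.Quotient (h.autS : Set (F.autGroup U)) (h.autS : Set (F.autGroup U))

/-- The biset. -/
abbrev X := Σ t : h.DC, (↥(normalizerIn S U) × ↥(normalizerIn S U)) ⧸ h.diag t.out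

theorem finiteX : Finite h.X := by
  have := h.finiteN
  have := h.finiteA
  have : Finite h.DC := Quotient.finite _
  infer_instance

theorem mu_wd (a : F.autGroup U) (x y : ↥(normalizerIn S U) × ↥(normalizerIn S U))
    (hxy : x⁻¹ * y ∈ h.diag a) :
    h.piA x.1 * a * (h.piA x.2)⁻¹ = h.piA y.1 * a * (h.piA y.2)⁻¹ := by
  obtain ⟨k, hk⟩ := hxy
  obtain ⟨h1, h2⟩ := Prod.ext_iff.mp hk
  simp only [MonoidHom.prod_apply, Prod.fst_mul, Prod.snd_mul, Prod.fst_inv,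
    Prod.snd_inv] at h1 h2
  rw [eq_inv_mul_iff_mul_eq] at h1 h2
  rw [← h1, ← h2, map_mul, map_mul, mul_inv_rev, piA_ext]
  simp only [Subgroup.subtype_apply]
  group

/-- The map from the biset to `Aut_F(U)`. -/
noncomputable def mu (x : h.X) : F.autGroup U :=
  Quotient.liftOn' x.2 (fun z => h.piA z.1 * x.1.out * (h.piA z.2)⁻¹)
    fun z₁ z₂ hz => h.mu_wd _ z₁ z₂ (QuotientGroup.leftRel_apply.mp hz)

theorem mu_mk (t : h.DC) (z : ↥(normalizerIn S U) × ↥(normalizerIn S U)) :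
    h.mu ⟨t, QuotientGroup.mk z⟩ = h.piA z.1 * t.out * (h.piA z.2)⁻¹ := rfl

theorem mu_smul (g : ↥(normalizerIn S U) × ↥(normalizerIn S U)) (x : h.X) :
    h.mu (g • x) = h.piA g.1 * h.mu x * (h.piA g.2)⁻¹ := by
  obtain ⟨t, q⟩ := x
  obtain ⟨z, rfl⟩ := QuotientGroup.mk_surjective q
  show h.mu ⟨t, QuotientGroup.mk (g * z)⟩ = _
  rw [mu_mk, mu_mk, Prod.fst_mul, Prod.snd_mul, map_mul, map_mul]
  group

theorem mu_surjective : Function.Surjective h.mu := by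
  intro a
  obtain ⟨_, _, ⟨n, rfl⟩, ⟨m, rfl⟩, he⟩ := DoubleCoset.mk_out_eq_mul h.autS h.autS a
  refine ⟨⟨DoubleCoset.mk _ _ a, QuotientGroup.mk (n⁻¹, m)⟩, ?_⟩
  rw [mu_mk, he, map_inv]
  group

theorem free_right {b : ↥(normalizerIn S U)} {x : h.X}
    (hb : ((1, b) : ↥(normalizerIn S U) × ↥(normalizerIn S U)) • x = x) : b = 1 := by
  obtain ⟨t, q⟩ := x
  obtain ⟨z, rfl⟩ := QuotientGroup.mk_surjective q
  have h1 : ((1, b) * z : ↥(normalizerIn S U) × ↥(normalizerIn S U))⁻¹ * z ∈ h.diag t.out :=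
    QuotientGroup.eq.mp (eq_of_heq (Sigma.mk.inj hb).2)
  obtain ⟨k, hk⟩ := h1
  obtain ⟨h1, h2⟩ := Prod.ext_iff.mp hk
  simp only [MonoidHom.prod_apply, Prod.fst_mul, Prod.snd_mul, Prod.fst_inv, Prod.snd_inv,
    one_mul, inv_mul_cancel, mul_inv_rev] at h1 h2
  obtain rfl : k = 1 := Subtype.ext (h1.trans (by simp))
  rw [map_one] at h2
  have h3 : z.2⁻¹ * b⁻¹ * z.2 = z.2⁻¹ * 1 * z.2 := by rw [← h2]; group
  exact inv_eq_one.mp (mul_left_cancel (mul_right_cancel h3))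

theorem exists_fiber {x y : h.X} (hxy : h.mu x = h.mu y) :
    ∃ w : Subgroup.center U,
      y = ((1, h.zin w) : ↥(normalizerIn S U) × ↥(normalizerIn S U)) • x := by
  obtain ⟨t, q⟩ := x
  obtain ⟨t', q'⟩ := y
  obtain ⟨z, rfl⟩ := QuotientGroup.mk_surjective q
  obtain ⟨z', rfl⟩ := QuotientGroup.mk_surjective q'
  rw [mu_mk, mu_mk] at hxy
  obtain rfl : t = t' := by
    rw [← DoubleCoset.out_eq' _ _ t, ← DoubleCoset.out_eq' _ _ t', DoubleCoset.eq]
    refine ⟨h.piA (z'.1⁻¹ * z.1), ⟨_, rfl⟩, h.piA (z.2⁻¹ * z'.2), ⟨_, rfl⟩, ?_⟩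
    calc t'.out = (h.piA z'.1)⁻¹ * (h.piA z'.1 * t'.out * (h.piA z'.2)⁻¹) * h.piA z'.2 := by group
      _ = _ := by rw [← hxy, map_mul, map_mul, map_inv, map_inv]; group
  have e2 : t.out⁻¹ * h.piA (z'.1⁻¹ * z.1) * t.out = h.piA (z'.2⁻¹ * z.2) := by
    calc t.out⁻¹ * h.piA (z'.1⁻¹ * z.1) * t.out
        = t.out⁻¹ * (h.piA z'.1)⁻¹ * (h.piA z.1 * t.out * (h.piA z.2)⁻¹) * h.piA z.2 := by
          rw [map_mul, map_inv]; group
      _ = _ := by rw [hxy, map_mul, map_inv]; group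
  have hk : z'.1⁻¹ * z.1 ∈ h.dom t.out := h.mem_dom.mpr ⟨_, e2.symm⟩
  have hker : h.piA (z'.2 * h.ext t.out ⟨_, hk⟩ * z.2⁻¹) = 1 := by
    rw [map_mul, map_mul, piA_ext, e2, map_mul, map_inv, map_inv]; group
  obtain ⟨w, hw⟩ := h.exists_zin hker
  refine ⟨w, ?_⟩
  show _ = (⟨t, QuotientGroup.mk ((1, h.zin w) * z)⟩ : h.X)
  congr 1
  rw [QuotientGroup.eq]
  refine ⟨⟨_, hk⟩, ?_⟩
  rw [hw]
  ext : 1
  · simp
  · simp only [MonoidHom.prod_apply, Prod.snd_mul, Prod.snd_inv]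
    group

theorem inclusion_smul (u : U) (x : h.X) :
    ((Subgroup.inclusion (le_normalizerIn h.le) u, 1) :
        ↥(normalizerIn S U) × ↥(normalizerIn S U)) • x =
      ((1, Subgroup.inclusion (le_normalizerIn h.le) ((h.mu x : MulAut U)⁻¹ u)⁻¹) :
        ↥(normalizerIn S U) × ↥(normalizerIn S U)) • x := by
  obtain ⟨t, q⟩ := x
  obtain ⟨z, rfl⟩ := QuotientGroup.mk_surjective q
  show (⟨t, QuotientGroup.mk (_ * z)⟩ : h.X) = ⟨t, QuotientGroup.mk (_ * z)⟩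
  congr 1
  rw [QuotientGroup.eq, mu_mk]
  let u₁ : U := nAut S U z.1⁻¹ u⁻¹
  have hu₁ : Subgroup.inclusion (le_normalizerIn h.le) u₁ =
      z.1⁻¹ * (Subgroup.inclusion (le_normalizerIn h.le) u)⁻¹ * z.1 :=
    Subtype.ext (by show (z.1 : Ω)⁻¹ * (u : Ω)⁻¹ * (z.1 : Ω)⁻¹⁻¹ = _; simp)
  refine ⟨⟨_, h.inclusion_mem_dom t.out u₁⟩, ?_⟩
  refine Prod.ext ?_ ?_
  · simp [hu₁, mul_assoc]
  · simp only [MonoidHom.prod_apply, h.ext_inclusion, Prod.snd_mul, Prod.snd_inv, one_mul]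
    have hm : (((h.piA z.1 * t.out * (h.piA z.2)⁻¹ : F.autGroup U) : MulAut U)⁻¹ u)⁻¹ =
        nAut S U z.2 ((t.out : MulAut U)⁻¹ u₁) := by
      rw [← map_inv]
      simp only [Subgroup.coe_mul, InvMemClass.coe_inv, mul_inv_rev, inv_inv, MulAut.mul_apply]
      simp only [u₁, map_inv]
      rfl
    rw [hm]
    apply Subtype.ext
    simp only [Subgroup.coe_mul, InvMemClass.coe_inv, Subgroup.coe_inclusion, nAut_apply]
    group

theorem point_map (x : h.X) :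
    ∃ φ ∈ F.Hom (h.domΩ (h.mu x)),
      (∀ (u : Ω) (hu : u ∈ U),
        φ ⟨u, h.le_domΩ _ hu⟩ = (((h.mu x : MulAut U)⁻¹ ⟨u, hu⟩ : U) : Ω)) ∧
      ∀ k : h.dom (h.mu x), ∃ b : ↥(normalizerIn S U),
        (b : Ω) = φ ⟨(k : ↥(normalizerIn S U)), h.mem_domΩ.mpr k.2⟩ ∧
        (((k : ↥(normalizerIn S U)), b) : ↥(normalizerIn S U) × ↥(normalizerIn S U)) • x = x := by
  obtain ⟨t, q⟩ := x
  obtain ⟨z, rfl⟩ := QuotientGroup.mk_surjective q
  set ψ := (h.exists_ext t.out).choose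
  have hψ : ψ ∈ F.Hom (h.domΩ t.out) := (h.exists_ext t.out).choose_spec.1
  set m := h.mu ⟨t, QuotientGroup.mk z⟩ with hm
  have hmv : m = h.piA z.1 * t.out * (h.piA z.2)⁻¹ := h.mu_mk t z
  -- conjugation by `z.1⁻¹` carries the domain at `m` into the domain at `t.out`
  have hk : ∀ k : h.dom m, z.1⁻¹ * (k : ↥(normalizerIn S U)) * z.1 ∈ h.dom t.out := by
    intro k
    obtain ⟨n, hn⟩ := h.mem_dom.mp k.2
    refine h.mem_dom.mpr ⟨z.2⁻¹ * n * z.2, ?_⟩
    have hn' := hn.trans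
      (congrArg (fun a => a⁻¹ * h.piA (k : ↥(normalizerIn S U)) * a) hmv)
    rw [map_mul, map_mul, map_mul, map_mul, map_inv, map_inv, hn']
    group
  have hS1 : h.domΩ m ≤ S := (h.domΩ_le m).trans (normalizerIn_le U)
  have hz1 : ((z.1 : Ω))⁻¹ ∈ S := S.inv_mem (normalizerIn_le U z.1.2)
  obtain ⟨c₁, hc₁, hc₁e⟩ := exists_comp F (F.conj_mem hS1 hz1) hψ (by
    rintro ⟨_, k, hk', rfl⟩
    refine ⟨_, hk ⟨k, hk'⟩, ?_⟩
    simp [conjHom])
  obtain ⟨c₂, hc₂, hc₂e⟩ := exists_comp F hc₁ (F.conj_mem le_rfl (normalizerIn_le U z.2.2))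
    (fun x => val_mem F hc₁ x)
  have hval : ∀ k : h.dom m, c₂ ⟨(k : ↥(normalizerIn S U)), h.mem_domΩ.mpr k.2⟩ =
      ((z.2 * h.ext t.out ⟨_, hk k⟩ * z.2⁻¹ : ↥(normalizerIn S U)) : Ω) := by
    intro k
    rw [hc₂e]
    show (z.2 : Ω) * c₁ _ * (z.2 : Ω)⁻¹ = _
    rw [hc₁e]
    simp only [Subgroup.coe_mul, InvMemClass.coe_inv, coe_ext, ψ]
    congr 3
    apply Subtype.ext
    simp [conjHom]
  have hfix : ∀ k : h.dom m, (((k : ↥(normalizerIn S U)), z.2 * h.ext t.out ⟨_, hk k⟩ * z.2⁻¹) :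
      ↥(normalizerIn S U) × ↥(normalizerIn S U)) •
        (⟨t, QuotientGroup.mk z⟩ : h.X) = ⟨t, QuotientGroup.mk z⟩ := by
    intro k
    show (⟨t, QuotientGroup.mk (_ * z)⟩ : h.X) = _
    congr 1
    symm
    rw [QuotientGroup.eq]
    refine ⟨⟨_, hk k⟩, Prod.ext ?_ ?_⟩
    · simp [mul_assoc]
    · simp [mul_assoc]
  refine ⟨c₂, hc₂, fun u hu => ?_, fun k => ⟨_, (hval k).symm, hfix k⟩⟩
  refine (hval ⟨Subgroup.inclusion (le_normalizerIn h.le) ⟨u, hu⟩, h.inclusion_mem_dom m _⟩).trans ?_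
  have h1 := hfix ⟨Subgroup.inclusion (le_normalizerIn h.le) ⟨u, hu⟩, h.inclusion_mem_dom m _⟩
  set b := z.2 * h.ext t.out ⟨_, hk ⟨Subgroup.inclusion (le_normalizerIn h.le) ⟨u, hu⟩,
    h.inclusion_mem_dom m _⟩⟩ * z.2⁻¹ with hb
  rw [show ((Subgroup.inclusion (le_normalizerIn h.le) ⟨u, hu⟩, b) :
      ↥(normalizerIn S U) × ↥(normalizerIn S U)) =
      (1, b) * (Subgroup.inclusion (le_normalizerIn h.le) ⟨u, hu⟩, 1) by simp,
    mul_smul, h.inclusion_smul, ← mul_smul] at h1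
  simp only [Prod.mk_mul_mk, one_mul] at h1
  have h2 := h.free_right h1
  rw [map_inv] at h2
  have h3 := eq_of_mul_inv_eq_one h2
  rw [h3]
  rfl

end ModelSetup

end Cfsg.Agent.Fusion92
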