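import Cfsg.Agent.Fusion92.Radical
import Cfsg.Agent.Fus93.Criteria

set_option autoImplicit false

/-! The subsystem of the maps acting on a normal subgroup as an element of `S` does. -/

namespace Cfsg.Agent.Fusion92

open Cfsg Cfsg.Agent.Fusion
open Cfsg.FusionSystem (normalizerIn centralizerIn extender)

universe u v

variable {Ω : Type u} [Group Ω] {S : Subgroup Ω} {F : Cfsg.FusionSystem S} {p : ℕ} [Fact p.Prime]
  {Q : Subgroup Ω}

omit [Fact p.Prime] in
theorem isNormal_closed' (hQ : F.IsNormal Q) {R : Subgroup Ω} {f : Ω → Ω} (hf : IsMap F R f)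
    {x : Ω} (hx : x ∈ R) (hxQ : x ∈ Q) : f x ∈ Q := by
  obtain ⟨f', -, he, hQ'⟩ := (Fusion.isNormal_iff.mp hQ).2 R f hf
  rw [← he hx]
  exact hQ'.subset ⟨x, hxQ, rfl⟩

omit [Fact p.Prime] in
theorem isNormal_image [Finite S] (hQ : F.IsNormal Q) {R : Subgroup Ω} {f : Ω → Ω}
    (hf : IsMap F R f) (hQR : Q ≤ R) : f '' (Q : Set Ω) = (Q : Set Ω) :=
  Set.Subset.antisymm (fun _ ⟨x, hx, he⟩ => he ▸ isNormal_closed' hQ hf (hQR hx) hx)
    (surjOn_of_card_le hQ.1 (hf.injOn.mono hQR) (fun _ hx => isNormal_closed' hQ hf (hQR hx) hx)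
      le_rfl)

omit [Fact p.Prime] in
theorem isNormal_normalizer [Finite S] (hQ : F.IsNormal Q) :
    S ≤ Subgroup.normalizer (Q : Set Ω) := by
  intro t ht
  haveI := finite_of_le hQ.1
  exact mem_normalizer_of_conj_mem fun x hx =>
    isNormal_closed' hQ (isMap_conj hQ.1 ht) hx hx

omit [Fact p.Prime] in
theorem isNormal_fullyNormalized [Finite S] (hQ : F.IsNormal Q) : F.IsFullyNormalized Q := by
  refine ⟨hQ.1, fun Q' hQ' => ?_⟩
  obtain ⟨f, hf⟩ := isConj_iff.mp hQ'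
  rw [SetLike.coe_injective (hf.2.symm.trans (isNormal_image hQ hf.1 le_rfl))]

/-- `f` on `P` is a map whose extension to `PQ` acts on `Q` as an element of `S` does. -/
def IsCentralType (F : Cfsg.FusionSystem S) (Q P : Subgroup Ω) (f : Ω → Ω) : Prop :=
  IsMap F P f ∧ ∃ f', IsMap F (P ⊔ Q) f' ∧ Set.EqOn f' f P ∧
    ∃ t ∈ S, ∀ x ∈ Q, f' x = t * x * t⁻¹

/-- The subsystem of the maps of central type at the normal subgroup `Q`. -/
noncomputable def centralTypeSystem (F : Cfsg.FusionSystem S) (Q : Subgroup Ω)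
    (hQS : Q ≤ S) (hQ : S ≤ Subgroup.normalizer (Q : Set Ω)) : Cfsg.FusionSystem S :=
  mkSub F S (IsCentralType F Q)
    (fun ⟨h, f', hf', he, ht⟩ hfg => ⟨h.congr hfg, f', hf', he.trans hfg, ht⟩)
    (fun h => ⟨h.1, h.1.dom_le, fun _ hx => h.1.apply_mem hx⟩)
    (fun {P g} hP hg => ⟨isMap_conj hP hg, _, isMap_conj (sup_le hP hQS) hg, fun _ _ => rfl,
      g, hg, fun _ _ => rfl⟩)
    (fun {P R f g} hf hg h => by
      obtain ⟨hf, f', hf', hfe, t, ht, htQ⟩ := hf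
      obtain ⟨hg, g', hg', hge, s, hs, hsQ⟩ := hg
      have hQQ : ∀ x ∈ Q, f' x ∈ Q := fun x hx =>
        htQ x hx ▸ Fusion.conj_mem_of_mem_normalizer (hQ ht) hx
      have hmem : ∀ x ∈ P ⊔ Q, f' x ∈ R ⊔ Q := isMap_mem_sup hf' le_sup_left le_sup_right
        (fun x hx => Subgroup.mem_sup_left (hfe hx ▸ h x hx))
        (fun x hx => Subgroup.mem_sup_right (hQQ x hx))
      refine ⟨hf.comp hg h, _, hf'.comp hg' hmem, fun x hx => ?_, s * t, S.mul_mem hs ht,
        fun x hx => ?_⟩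
      · show g' (f' x) = g (f x)
        rw [hfe hx, hge (h x hx)]
      · show g' (f' x) = _
        rw [hsQ _ (hQQ x hx), htQ x hx]
        group)
    (fun {P P' f g} hf hi hg hgl => by
      obtain ⟨hf, f', hf', hfe, t, ht, htQ⟩ := hf
      have hQQ : f' '' (Q : Set Ω) = (Q : Set Ω) :=
        (Set.image_congr fun x hx => htQ x hx).trans (image_conj_eq_self (hQ ht))
      have hi' : IsIso F (P ⊔ Q) (P' ⊔ Q) f' :=
        IsIso.sup hf' ((Set.image_congr hfe).trans hi.2) hQQ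
      obtain ⟨g', hg', hgl', -⟩ := hi'.exists_inv
      refine ⟨hg.1, g', hg'.1, fun y hy => ?_, t⁻¹, S.inv_mem ht, fun y hy => ?_⟩
      · obtain ⟨x, hx, rfl⟩ := hi.exists_preimage hy
        rw [hgl x hx, ← hfe hx]
        exact hgl' x (Subgroup.mem_sup_left hx)
      · obtain ⟨x, hx, rfl⟩ := (hQQ.symm ▸ hy : y ∈ f' '' (Q : Set Ω))
        rw [hgl' x (Subgroup.mem_sup_right hx), htQ x hx]
        group)

omit [Fact p.Prime] in
theorem isMap_centralType {hQS : Q ≤ S} {hQ : S ≤ Subgroup.normalizer (Q : Set Ω)}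
    {P : Subgroup Ω} {f : Ω → Ω} :
    IsMap (centralTypeSystem F Q hQS hQ) P f ↔ IsCentralType F Q P f :=
  isMap_mkSub

omit [Fact p.Prime] in
theorem centralType_le {hQS : Q ≤ S} {hQ : S ≤ Subgroup.normalizer (Q : Set Ω)} :
    centralTypeSystem F Q hQS hQ ≤ F :=
  le_of_isMap fun _ _ h => (isMap_centralType.mp h).1

omit [Fact p.Prime] in
/-- A map fixing `Q` pointwise is of central type. -/
theorem isMap_centralType_of_fix {hQS : Q ≤ S} {hQ : S ≤ Subgroup.normalizer (Q : Set Ω)}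
    {P : Subgroup Ω} {f : Ω → Ω} (hf : IsMap F P f) (hQP : Q ≤ P) (h : ∀ x ∈ Q, f x = x) :
    IsMap (centralTypeSystem F Q hQS hQ) P f :=
  isMap_centralType.mpr ⟨hf, f, hf.mono (sup_le le_rfl hQP), fun _ _ => rfl, 1, S.one_mem,
    fun x hx => by rw [h x hx]; simp⟩

omit [Fact p.Prime] in
/-- A normal subgroup below `Q` is normal in the system of central type at `Q`. -/
theorem isNormal_centralType [Finite S] {Q₀ : Subgroup Ω} (hQ₀ : F.IsNormal Q₀) (hle : Q₀ ≤ Q)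
    {hQS : Q ≤ S} {hQ : S ≤ Subgroup.normalizer (Q : Set Ω)} :
    (centralTypeSystem F Q hQS hQ).IsNormal Q₀ := by
  refine Fusion.isNormal_iff.mpr ⟨hQ₀.1, fun P f hf => ?_⟩
  obtain ⟨-, f', hf', he, ht⟩ := isMap_centralType.mp hf
  have hle' : P ⊔ Q₀ ≤ P ⊔ Q := sup_le_sup_left hle P
  refine ⟨f', isMap_centralType.mpr ⟨hf'.mono hle', f', hf'.mono (sup_le hle' le_sup_right),
    fun _ _ => rfl, ht⟩, he, ?_⟩
  exact isNormal_image hQ₀ hf' (hle.trans le_sup_right)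

omit [Fact p.Prime] in
theorem autGroup_centralType [Finite S] {hQS : Q ≤ S}
    {hQ : S ≤ Subgroup.normalizer (Q : Set Ω)} :
    (centralTypeSystem F Q hQS hQ).autGroup Q = autInducedBy S Q := by
  refine le_antisymm (fun α hα => ?_) (autInducedBy_le_autGroup hQS)
  obtain ⟨-, f', -, he, t, ht, htQ⟩ := isMap_centralType.mp ((mem_autGroup hQS).mp hα).1
  refine mem_autInducedBy.mpr ⟨t, ht, fun x => ?_⟩
  rw [← autFun_coe, ← he x.2, htQ x x.2]

omit [Fact p.Prime] in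
theorem isPGroup_autGroup_centralType [Finite S] (hS : IsPGroup p S) {hQS : Q ≤ S}
    {hQ : S ≤ Subgroup.normalizer (Q : Set Ω)} :
    IsPGroup p ((centralTypeSystem F Q hQS hQ).autGroup Q) := by
  rw [autGroup_centralType, ← range_conjAutHom]
  exact (hS.to_le (Fusion.normalizerIn_le S Q)).of_surjective _
    (conjAutHom S Q).rangeRestrict_surjective

/-- The automorphisms of `X` stabilizing the subgroup `P`. -/
def stabAut (P X : Subgroup Ω) : Subgroup (MulAut X) where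
  carrier := {α | ∀ x : X, (α x : Ω) ∈ P ↔ (x : Ω) ∈ P}
  one_mem' x := Iff.rfl
  mul_mem' {α β} hα hβ x := (hα (β x)).trans (hβ x)
  inv_mem' {α} hα x := by
    have := hα (α⁻¹ x)
    rw [show α (α⁻¹ x) = x from α.apply_symm_apply x] at this
    exact this.symm

/-- The system of central type at a normal subgroup is saturated. -/
theorem centralType_isSaturated [Finite S] (hS : IsPGroup p S) (hF : F.IsSaturated p)
    (hQ : F.IsNormal Q) :
    (centralTypeSystem F Q hQ.1 (isNormal_normalizer hQ)).IsSaturated p := by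
  set D := centralTypeSystem F Q hQ.1 (isNormal_normalizer hQ) with hD
  have hQn := isNormal_normalizer hQ
  intro P hP
  haveI := Fusion.finite_of_le hP
  haveI := Fusion.finite_of_le hQ.1
  have hP₀ : P ⊔ Q ≤ S := sup_le hP hQ.1
  obtain ⟨X, hPX, hXN⟩ := exists_fullyNormalized (F := F) hP₀
  have hXS : X ≤ S := hXN.1
  haveI := Fusion.finite_of_le hP₀
  haveI := Fusion.finite_of_le hXS
  haveI := Fusion.finite_mulAut X
  obtain ⟨τ₀, hτ₀⟩ := isConj_iff.mp hPX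
  let A : Subgroup (MulAut ↥(P ⊔ Q)) := D.autGroup (P ⊔ Q) ⊓ stabAut P (P ⊔ Q)
  have hAF : A ≤ F.autGroup (P ⊔ Q) := inf_le_left.trans (autGroup_mono (centralType_le _))
  let A₀ : Subgroup (F.autGroup X) :=
    (A.map (MulAut.congr hτ₀.equiv).toMonoidHom).subgroupOf (F.autGroup X)
  obtain ⟨R, hR⟩ := (fullyAutomized_of_fullyNormalized hS hF hXN).2
  -- move a Sylow subgroup of `A₀` into the automorphisms induced by `S`
  obtain ⟨M₀⟩ : Nonempty (Sylow p A₀) := inferInstance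
  obtain ⟨R', hR'⟩ := (M₀.2.map A₀.subtype).exists_le_sylow
  obtain ⟨a, ha⟩ := MulAction.exists_smul_eq (F.autGroup X) R' R
  have haiso : IsIso F X X (autFun (a : MulAut X)) := (mem_autGroup hXS).mp a.2
  have hτ : IsIso F (P ⊔ Q) X (autFun (a : MulAut X) ∘ τ₀) := hτ₀.comp haiso
  set τ := autFun (a : MulAut X) ∘ τ₀ with hτdef
  let Aτ : Subgroup (MulAut X) := A.map (MulAut.congr hτ.equiv).toMonoidHom
  have hAτF : Aτ ≤ F.autGroup X := by
    show Aτ ≤ _
    rw [← autGroup_map_congr hτ]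
    exact Subgroup.map_mono hAF
  -- the Sylow subgroup of `Aτ` induced by `S`
  have hconjτ : ∀ α : MulAut ↥(P ⊔ Q), MulAut.congr hτ.equiv α =
      (a : MulAut X) * MulAut.congr hτ₀.equiv α * (a : MulAut X)⁻¹ := by
    intro α
    refine MulEquiv.ext fun y => ?_
    obtain ⟨x, rfl⟩ := hτ.equiv.surjective y
    apply Subtype.ext
    rw [congr_apply_equiv hτ]
    have e1 : hτ.equiv x = (a : MulAut X) (hτ₀.equiv x) := Subtype.ext (by
      rw [hτ.equiv_apply, hτdef, Function.comp_apply, ← hτ₀.equiv_apply, autFun_coe])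
    rw [e1, MulAut.mul_apply, MulAut.mul_apply,
      show ((a : MulAut X)⁻¹) ((a : MulAut X) (hτ₀.equiv x)) = hτ₀.equiv x from
        (a : MulAut X).symm_apply_apply _]
    rw [hτdef, Function.comp_apply, ← congr_apply_equiv hτ₀, autFun_coe]
  have hMτ : ¬ p ∣ ((autInducedBy S X).subgroupOf Aτ).index := by
    let e : A₀ →* Aτ := (((MulAut.conj (a : MulAut X)).toMonoidHom.comp
      (F.autGroup X).subtype).comp A₀.subtype).codRestrict Aτ fun β => by
        obtain ⟨α, hα, he⟩ := Subgroup.mem_subgroupOf.mp β.2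
        refine ⟨α, hα, ?_⟩
        show MulAut.congr hτ.equiv α = (a : MulAut X) * ((β : F.autGroup X) : MulAut X) * (a : MulAut X)⁻¹
        rw [hconjτ]
        exact congrArg (fun z => (a : MulAut X) * z * (a : MulAut X)⁻¹) he
    have hes : Function.Surjective e := by
      rintro ⟨_, α, hα, rfl⟩
      have hm : MulAut.congr hτ₀.equiv α ∈ F.autGroup X := by
        rw [← autGroup_map_congr hτ₀]; exact ⟨α, hAF hα, rfl⟩
      exact ⟨⟨⟨_, hm⟩, α, hα, rfl⟩, Subtype.ext (hconjτ α).symm⟩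
    intro hdvd
    have hle : (M₀ : Subgroup A₀).map e ≤ (autInducedBy S X).subgroupOf Aτ := by
      rintro _ ⟨β, hβ, rfl⟩
      have h1 : a * (β : F.autGroup X) * a⁻¹ ∈ (R : Subgroup (F.autGroup X)) := by
        rw [← ha, Sylow.coe_subgroup_smul]
        exact ⟨_, hR' ⟨β, hβ, rfl⟩, rfl⟩
      rw [hR, Subgroup.mem_subgroupOf] at h1
      exact Subgroup.mem_subgroupOf.mpr h1
    haveI : Finite A₀ := inferInstance
    haveI : Finite Aτ := inferInstance
    exact (M₀.mapSurjective hes).not_dvd_index (hdvd.trans (Subgroup.index_dvd_of_le hle))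
  -- the map back to a subgroup containing `Q`
  obtain ⟨τi, hτi, hτil, hτir⟩ := hτ.exists_inv
  have hQX : Q ≤ X := fun q hq => by
    obtain ⟨q', hq', rfl⟩ := (isNormal_image hQ hτ.1 le_sup_right).symm.subset hq
    exact hτ.mem (Subgroup.mem_sup_right hq')
  have hτiQ : IsIso F Q Q τi := ⟨hτi.1.mono hQX, isNormal_image hQ hτi.1 hQX⟩
  obtain ⟨φ, -, hφ⟩ := id hτiQ.1
  let Nε : Subgroup Ω := extender S Q φ
  have hNεext : IsExtendable S Q τi Nε := isExtendable_extender hφ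
  have hXNε : X ≤ Nε := fun y hy => (mem_extender_fun hφ).mpr
    ⟨hXS hy, hQn (hXS hy), τi y, hτi.isMap.apply_mem hy,
      fun q hq => hτi.isMap.map_conj hy (hQX hq)⟩
  have hMNε : ∀ y (hy : y ∈ normalizerIn S X), conjAutHom S X ⟨y, hy⟩ ∈ Aτ → y ∈ Nε := by
    intro y hy hyA
    obtain ⟨α, hα, hαe⟩ := hyA
    obtain ⟨-, f', -, he, t, ht, htQ⟩ := isMap_centralType.mp ((mem_autGroup hP₀).mp hα.1).1
    refine (mem_extender_fun hφ).mpr ⟨hy.1, hQn hy.1, t, ht, fun q hq => ?_⟩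
    obtain ⟨q', hq', rfl⟩ := (isNormal_image hQ hτ.1 le_sup_right).symm.subset hq
    have hq'P : q' ∈ P ⊔ Q := Subgroup.mem_sup_right hq'
    have h1 : y * τ q' * y⁻¹ = τ (α ⟨q', hq'P⟩) := by
      rw [← congr_apply_equiv hτ α ⟨q', hq'P⟩]
      have := congrArg (fun β : MulAut X => ((β (hτ.equiv ⟨q', hq'P⟩)) : Ω)) hαe
      exact this.symm
    rw [h1, hτil _ (α _).2, hτil _ hq'P, ← autFun_coe, ← he hq'P]
    exact htQ q' hq'
  have hCNε : centralizerIn S X ≤ Nε := fun y hy => (mem_extender_fun hφ).mpr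
    ⟨hy.1, hQn hy.1, 1, S.one_mem, fun q hq => by
      rw [← Subgroup.mem_centralizer_iff.mp hy.2 q (hQX hq)]; simp⟩
  obtain ⟨ε, hε₀, hεe⟩ := receptive_extend
    (receptive_of_fullyNormalized hS hF (isNormal_fullyNormalized hQ)) hτiQ hNεext
  have hε : IsMap F Nε ε := hε₀.mono le_sup_right
  obtain ⟨P₁, hP₁⟩ := (hε.mono hXNε).exists_image
  have hθ : IsIso F (P ⊔ Q) P₁ (ε ∘ τ) := hτ.comp hP₁
  have hθQ : ∀ x ∈ Q, (ε ∘ τ) x = x := fun x hx => by
    have hxQ : τ x ∈ Q := isNormal_closed' hQ hτ.1 (Subgroup.mem_sup_right hx) hx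
    show ε (τ x) = x
    rw [hεe hxQ, hτil x (Subgroup.mem_sup_right hx)]
  have hθD : IsMap D (P ⊔ Q) (ε ∘ τ) := isMap_centralType_of_fix hθ.1 le_sup_right hθQ
  obtain ⟨P', hP'⟩ := (hθD.mono (le_sup_left (b := Q))).exists_image
  have hP'S : P' ≤ S := hP'.cod_le
  haveI := Fusion.finite_of_le hP'S
  have hP₁eq : P' ⊔ Q = P₁ := SetLike.coe_injective
    ((IsIso.sup (f := ε ∘ τ) hθ.1 hP'.2 ((Set.image_congr hθQ).trans (Set.image_id' _))).2.symm.trans
      hθ.2)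
  have hθD' : IsIso D (P ⊔ Q) P₁ (ε ∘ τ) := ⟨hθD, hθ.2⟩
  have hP₁S : P₁ ≤ S := hθ.cod_le
  haveI := Fusion.finite_of_le hP₁S
  haveI := Fusion.finite_mulAut P₁
  haveI := Fusion.finite_mulAut P'
  let A' : Subgroup (MulAut P₁) := D.autGroup P₁ ⊓ stabAut P' P₁
  have hA'eq : A' = Aτ.map (MulAut.congr hP₁.equiv).toMonoidHom := by
    have hcomp : ∀ α : MulAut ↥(P ⊔ Q), MulAut.congr hθD'.equiv α =
        MulAut.congr hP₁.equiv (MulAut.congr hτ.equiv α) := by
      intro α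
      refine MulEquiv.ext fun y => ?_
      obtain ⟨x, rfl⟩ := hθD'.equiv.surjective y
      apply Subtype.ext
      rw [congr_apply_equiv hθD']
      have e1 : hθD'.equiv x = hP₁.equiv (hτ.equiv x) := Subtype.ext rfl
      rw [e1, congr_apply_equiv hP₁, congr_apply_equiv hτ]
      rfl
    have hstab : ∀ α : MulAut ↥(P ⊔ Q), α ∈ stabAut P (P ⊔ Q) ↔
        MulAut.congr hθD'.equiv α ∈ stabAut P' P₁ := by
      have hm : ∀ x : ↥(P ⊔ Q), ((hθD'.equiv x : P₁) : Ω) ∈ P' ↔ (x : Ω) ∈ P := fun x => by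
        rw [hθD'.equiv_apply]
        refine ⟨fun h => ?_, fun h => hP'.mem h⟩
        obtain ⟨z, hz, he⟩ := hP'.exists_preimage h
        rwa [← hθD.injOn (Subgroup.mem_sup_left hz) x.2 he]
      intro α
      constructor
      · intro h y
        obtain ⟨x, rfl⟩ := hθD'.equiv.surjective y
        rw [hm, ← h x, ← hm (α x), congr_apply_equiv, hθD'.equiv_apply]
      · intro h x
        rw [← hm x, ← h (hθD'.equiv x), congr_apply_equiv, ← hθD'.equiv_apply, hm]
    refine le_antisymm (fun β hβ => ?_) ?_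
    · have hβ1 : β ∈ D.autGroup P₁ := hβ.1
      rw [← autGroup_map_congr hθD'] at hβ1
      obtain ⟨α, hα, rfl⟩ := hβ1
      exact ⟨_, ⟨α, ⟨hα, (hstab α).mpr hβ.2⟩, rfl⟩, (hcomp α).symm⟩
    · rintro _ ⟨_, ⟨α, hα, rfl⟩, rfl⟩
      refine ⟨?_, ?_⟩
      · rw [← autGroup_map_congr hθD']
        exact ⟨α, hα.1, hcomp α⟩
      · show MulAut.congr hP₁.equiv (MulAut.congr hτ.equiv α) ∈ stabAut P' P₁
        rw [← hcomp]
        exact (hstab α).mp hα.2
  -- the automorphisms in `A'` induced by `S`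
  let M : Subgroup A' := (autInducedBy S P₁).subgroupOf A'
  have hεM : ∀ y (hy : y ∈ normalizerIn S X), conjAutHom S X ⟨y, hy⟩ ∈ Aτ →
      MulAut.congr hP₁.equiv (conjAutHom S X ⟨y, hy⟩) ∈ autInducedBy S P₁ := fun y hy hyA =>
    (congr_autInducedBy_mem hP₁ hy).mpr ⟨ε y, hε.apply_mem (hMNε y hy hyA),
      fun x hx => hε.map_conj (hMNε y hy hyA) (hXNε hx)⟩
  have hM : ¬ p ∣ M.index := by
    intro hdvd
    let e : Aτ →* A' := ((MulAut.congr hP₁.equiv).toMonoidHom.comp Aτ.subtype).codRestrict A'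
      fun β => hA'eq ▸ ⟨β, β.2, rfl⟩
    have hes : Function.Surjective e := fun β => by
      obtain ⟨γ, hγ, he⟩ := (hA'eq ▸ β.2 : (β : MulAut P₁) ∈ Aτ.map (MulAut.congr hP₁.equiv).toMonoidHom)
      exact ⟨⟨γ, hγ⟩, Subtype.ext he⟩
    refine hMτ (hdvd.trans ((Subgroup.index_dvd_of_le ?_).trans (Subgroup.index_map_dvd _ hes)))
    rintro _ ⟨β, hβ, rfl⟩
    obtain ⟨⟨y, hy⟩, hye⟩ : (β : MulAut X) ∈ (conjAutHom S X).range := by
      rw [range_conjAutHom]; exact hβ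
    refine Subgroup.mem_subgroupOf.mpr ?_
    show MulAut.congr hP₁.equiv (β : MulAut X) ∈ autInducedBy S P₁
    rw [← hye]
    exact hεM y hy (hye.symm ▸ β.2)
  -- restriction to `P'`
  have hP'P₁ : P' ≤ P₁ := hP₁eq ▸ le_sup_left
  have hQP₁ : Q ≤ P₁ := hP₁eq ▸ le_sup_right
  have hres : ∀ β : A', IsIso D P' P' (autFun (β : MulAut P₁)) := fun β => by
    refine ⟨((mem_autGroup hP₁S).mp β.2.1).1.mono hP'P₁, ?_⟩
    refine Set.Subset.antisymm ?_ fun y hy => ?_
    · rintro _ ⟨x, hx, rfl⟩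
      rw [autFun_of_mem _ (hP'P₁ hx)]
      exact (β.2.2 ⟨x, hP'P₁ hx⟩).mpr hx
    · refine ⟨((β : MulAut P₁).symm ⟨y, hP'P₁ hy⟩ : Ω), ?_, by simp⟩
      refine (β.2.2 _).mp ?_
      simpa using hy
  let res : A' →* D.autGroup P' := MonoidHom.mk'
    (fun β => ⟨(hres β).equiv, (hres β).equiv_mem_autGroup⟩) fun β γ =>
      Subtype.ext (MulEquiv.ext fun x => Subtype.ext (by
        show autFun ((β : MulAut P₁) * (γ : MulAut P₁)) (x : Ω) = autFun _ (autFun _ (x : Ω))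
        exact autFun_mul _ _ (hP'P₁ x.2)))
  have hresS : Function.Surjective res := fun β => by
    have hb := (mem_autGroup hP'S).mp β.2
    obtain ⟨-, f', hf', he, t, ht, htQ⟩ := isMap_centralType.mp hb.1
    have hD' : IsMap D (P' ⊔ Q) f' := isMap_centralType.mpr
      ⟨hf', f', hf'.mono (sup_le le_rfl le_sup_right), fun _ _ => rfl, t, ht, htQ⟩
    have hiso : IsIso D (P' ⊔ Q) (P' ⊔ Q) f' := IsIso.sup hD' ((Set.image_congr he).trans hb.2)
      ((Set.image_congr fun x hx => htQ x hx).trans (image_conj_eq_self (hQn ht)))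
    rw [hP₁eq] at hiso
    obtain ⟨α, hα, hαe⟩ := hiso.exists_aut
    refine ⟨⟨α, hα, fun x => ?_⟩, Subtype.ext (MulEquiv.ext fun x => Subtype.ext ?_)⟩
    · have h1 : ((α x : P₁) : Ω) = f' x := (autFun_coe α x).symm.trans (hαe x.2)
      rw [h1]
      refine ⟨fun h => ?_, fun h => ?_⟩
      · obtain ⟨z, hz, hze⟩ := hb.exists_preimage h
        rw [← he hz] at hze
        rwa [← hf'.injOn (Subgroup.mem_sup_left hz) (hP₁eq.symm ▸ x.2) hze]
      · rw [he h]; exact hb.mem h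
    · show autFun α (x : Ω) = _
      rw [hαe (hP'P₁ x.2), he x.2, autFun_coe]
  have hMres : M.map res = (autInducedBy S P').subgroupOf (D.autGroup P') := by
    refine le_antisymm ?_ ?_
    · rintro _ ⟨β, hβ, rfl⟩
      obtain ⟨g, hg, hge⟩ := mem_autInducedBy.mp hβ
      refine Subgroup.mem_subgroupOf.mpr (mem_autInducedBy.mpr ⟨g, hg, fun x => ?_⟩)
      show autFun (β : MulAut P₁) (x : Ω) = _
      rw [autFun_of_mem _ (hP'P₁ x.2)]
      exact hge ⟨x, hP'P₁ x.2⟩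
    · intro β hβ
      obtain ⟨g, hg, hge⟩ := mem_autInducedBy.mp (Subgroup.mem_subgroupOf.mp hβ)
      have hgP₁ : g ∈ normalizerIn S P₁ := ⟨hg, hP₁eq ▸
        Subgroup.mem_normalizer_iff_map_conj_eq.mpr (by
          rw [Subgroup.map_sup, Subgroup.mem_normalizer_iff_map_conj_eq.mp (mem_normalizer_of_induces hge),
            Subgroup.mem_normalizer_iff_map_conj_eq.mp (hQn hg)])⟩
      refine ⟨⟨conjAutHom S P₁ ⟨g, hgP₁⟩,
        autInducedBy_le_autGroup hP₁S (mem_autInducedBy.mpr ⟨g, hg, fun _ => rfl⟩), fun x => ?_⟩,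
        Subgroup.mem_subgroupOf.mpr (mem_autInducedBy.mpr ⟨g, hg, fun _ => rfl⟩), ?_⟩
      · exact (Subgroup.mem_normalizer_iff.mp (mem_normalizer_of_induces hge) (x : Ω)).symm
      · refine Subtype.ext (MulEquiv.ext fun x => Subtype.ext ?_)
        show autFun _ (x : Ω) = _
        rw [autFun_of_mem _ (hP'P₁ x.2)]
        exact (hge x).symm
  have hindB : ¬ p ∣ ((autInducedBy S P').subgroupOf (D.autGroup P')).index := fun hdvd =>
    hM (hdvd.trans (hMres ▸ Subgroup.index_map_dvd _ hresS))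
  have hBp : IsPGroup p ((autInducedBy S P').subgroupOf (D.autGroup P')) := by
    rw [← range_conjAutHom]
    exact ((hS.to_le (Fusion.normalizerIn_le S P')).of_surjective _
      (conjAutHom S P').rangeRestrict_surjective).comap_of_injective _ (Subgroup.subtype_injective _)
  refine ⟨P', hP'.isConj, ⟨hP'S, hBp.toSylow hindB, rfl⟩,
    isReceptive_of hP'S fun R f hf Mx hRM hMx => ?_⟩
  obtain ⟨-, f₀, hf₀, he₀, t, ht, htQ⟩ := isMap_centralType.mp hf.1
  have hf₀D : IsMap D (R ⊔ Q) f₀ := isMap_centralType.mpr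
    ⟨hf₀, f₀, hf₀.mono (sup_le le_rfl le_sup_right), fun _ _ => rfl, t, ht, htQ⟩
  have hi₀ : IsIso D (R ⊔ Q) P₁ f₀ := hP₁eq ▸ IsIso.sup hf₀D ((Set.image_congr he₀).trans hf.2)
    ((Set.image_congr fun x hx => htQ x hx).trans (image_conj_eq_self (hQn ht)))
  haveI := Fusion.finite_of_le hi₀.dom_le
  haveI : Finite Mx := Fusion.finite_of_le hMx.1
  have hMR : ∀ m ∈ Mx, m ∈ normalizerIn S (R ⊔ Q) := fun m hm =>
    ⟨hMx.1 hm, Subgroup.mem_normalizer_iff_map_conj_eq.mpr (by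
      rw [Subgroup.map_sup, Subgroup.mem_normalizer_iff_map_conj_eq.mp (hMx.2 m hm).1,
        Subgroup.mem_normalizer_iff_map_conj_eq.mp (hQn (hMx.1 hm))])⟩
  have hα : ∀ m : Mx, MulAut.congr hi₀.equiv (conjAutHom S (R ⊔ Q) ⟨m, hMR m m.2⟩) ∈ A' := by
    intro m
    refine ⟨?_, fun y => ?_⟩
    · rw [← autGroup_map_congr hi₀]
      exact ⟨_, autInducedBy_le_autGroup hi₀.dom_le (range_conjAutHom S _ ▸ ⟨_, rfl⟩), rfl⟩
    · have hm : ∀ z : ↥(R ⊔ Q), ((hi₀.equiv z : P₁) : Ω) ∈ P' ↔ (z : Ω) ∈ R := fun z => by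
        rw [hi₀.equiv_apply]
        refine ⟨fun h => ?_, fun h => he₀ h ▸ hf.mem h⟩
        obtain ⟨w, hw, he⟩ := hf.exists_preimage h
        rw [← he₀ hw] at he
        rwa [← hf₀.injOn (Subgroup.mem_sup_left hw) z.2 he]
      obtain ⟨x, rfl⟩ := hi₀.equiv.surjective y
      rw [hm, congr_apply_equiv, ← hi₀.equiv_apply, hm, conjAutHom_apply]
      exact (Subgroup.mem_normalizer_iff.mp (hMx.2 m m.2).1 (x : Ω)).symm
  let Φ : Mx →* A' := MonoidHom.mk' (fun m => ⟨_, hα m⟩) fun m n => Subtype.ext (by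
    show MulAut.congr hi₀.equiv (conjAutHom S (R ⊔ Q) ⟨(m : Ω) * n, _⟩) = _
    rw [show (⟨(m : Ω) * n, hMR _ (m * n).2⟩ : ↥(normalizerIn S (R ⊔ Q))) =
      ⟨m, hMR m m.2⟩ * ⟨n, hMR n n.2⟩ from rfl, map_mul, map_mul]
    rfl)
  let H : Subgroup A' := ((autInducedBy S P').subgroupOf (D.autGroup P')).comap res
  have hΦH : Φ.range ≤ H := by
    rintro _ ⟨m, rfl⟩
    refine Subgroup.mem_comap.mpr (Subgroup.mem_subgroupOf.mpr ?_)
    obtain ⟨-, s, hs, hse⟩ := hMx.2 m m.2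
    refine mem_autInducedBy.mpr ⟨s, hs, fun x => ?_⟩
    obtain ⟨z, hz, hze⟩ := hf.exists_preimage x.2
    show autFun _ (x : Ω) = _
    rw [autFun_of_mem _ (hP'P₁ x.2)]
    have hx : (⟨(x : Ω), hP'P₁ x.2⟩ : P₁) = hi₀.equiv ⟨z, Subgroup.mem_sup_left hz⟩ :=
      Subtype.ext (by rw [hi₀.equiv_apply, he₀ hz, hze])
    rw [hx]
    show ((MulAut.congr hi₀.equiv _) _ : Ω) = _
    rw [congr_apply_equiv, conjAutHom_apply, ← hze]
    show f₀ ((m : Ω) * z * (m : Ω)⁻¹) = _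
    rw [he₀ (Fusion.conj_mem_of_mem_normalizer (hMx.2 m m.2).1 hz)]
    exact hse z hz
  have hMH : M ≤ H := fun β hβ => by
    refine Subgroup.mem_comap.mpr ?_
    rw [← hMres]
    exact ⟨β, hβ, rfl⟩
  -- conjugate the image of `Mx` into `M` by an element acting trivially on `P'`
  have hΦp : IsPGroup p (Φ.range.subgroupOf H) :=
    ((hS.to_le hMx.1).of_surjective _ Φ.rangeRestrict_surjective).comap_of_injective _
      (Subgroup.subtype_injective _)
  have hMp : IsPGroup p (M.subgroupOf H) := by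
    refine (IsPGroup.comap_of_injective ?_ _ (Subgroup.subtype_injective _) :
      IsPGroup p (M.subgroupOf H))
    refine (IsPGroup.comap_of_injective ?_ _ (Subgroup.subtype_injective _) : IsPGroup p M)
    rw [← range_conjAutHom]
    exact (hS.to_le (Fusion.normalizerIn_le S P₁)).of_surjective _
      (conjAutHom S P₁).rangeRestrict_surjective
  obtain ⟨T, hT⟩ := hΦp.exists_le_sylow
  have hMind : ¬ p ∣ (M.subgroupOf H).index := fun hdvd =>
    hM (hdvd.trans ⟨H.index, (Subgroup.relIndex_mul_index hMH).symm⟩)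
  obtain ⟨h, hh⟩ := MulAction.exists_smul_eq H T (hMp.toSylow hMind)
  obtain ⟨m, hm, hme⟩ : res (h : A') ∈ M.map res := by rw [hMres]; exact h.2
  let b : A' := m⁻¹ * h
  have hbP : res b = 1 := by rw [map_mul, map_inv, hme, inv_mul_cancel]
  have hbM : ∀ x : Mx, b * Φ x * b⁻¹ ∈ M := fun x => by
    have h1 : (h : A') * Φ x * (h : A')⁻¹ ∈ M := by
      have h2 : h * ⟨Φ x, hΦH ⟨x, rfl⟩⟩ * h⁻¹ ∈ ((hMp.toSylow hMind : Sylow p H) : Subgroup H) := by
        rw [← hh, Sylow.coe_subgroup_smul]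
        exact ⟨_, hT (Subgroup.mem_subgroupOf.mpr ⟨x, rfl⟩), rfl⟩
      exact Subgroup.mem_subgroupOf.mp h2
    have : b * Φ x * b⁻¹ = m⁻¹ * ((h : A') * Φ x * (h : A')⁻¹) * (m⁻¹)⁻¹ := by
      simp only [b, mul_inv_rev, mul_assoc]
    rw [this]
    exact M.mul_mem (M.mul_mem (M.inv_mem hm) h1) (M.inv_mem (M.inv_mem hm))
  have hb : IsIso D P₁ P₁ (autFun (b : MulAut P₁)) := (mem_autGroup hP₁S).mp b.2.1
  obtain ⟨εi, hεi, hεil, hεir⟩ := hP₁.exists_inv
  have hf₁ : IsIso D (R ⊔ Q) P₁ (autFun (b : MulAut P₁) ∘ f₀) := hi₀.comp hb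
  have hf₁F : IsIso F (R ⊔ Q) P₁ (autFun (b : MulAut P₁) ∘ f₀) :=
    ⟨hf₁.1.of_le centralType_le, hf₁.2⟩
  have hg : IsIso F (R ⊔ Q) X (εi ∘ (autFun (b : MulAut P₁) ∘ f₀)) := hf₁F.comp hεi
  -- the action of `Mx` through this map
  have hy : ∀ x : Mx, ∃ y, y ∈ normalizerIn S X ∧ y ∈ Nε ∧
      ∀ z ∈ R ⊔ Q, (εi ∘ (autFun (b : MulAut P₁) ∘ f₀)) ((x : Ω) * z * (x : Ω)⁻¹) =
        y * (εi ∘ (autFun (b : MulAut P₁) ∘ f₀)) z * y⁻¹ := by
    intro x
    have h1 : ((b * Φ x * b⁻¹ : A') : MulAut P₁) ∈ Aτ.map (MulAut.congr hP₁.equiv).toMonoidHom :=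
      hA'eq ▸ (b * Φ x * b⁻¹).2
    obtain ⟨g, hg', hge⟩ := mem_autInducedBy.mp (Subgroup.mem_subgroupOf.mp (hbM x))
    obtain ⟨γ, hγ, hγe⟩ := h1
    have hgN : g ∈ normalizerIn S P₁ := ⟨hg', mem_normalizer_of_induces hge⟩
    -- `γ` is induced by an element of `S`: the Sylow subgroup of `Aτ` maps onto `M`
    have h2 : ((b * Φ x * b⁻¹ : A') : MulAut P₁) = conjAutHom S P₁ ⟨g, hgN⟩ :=
      MulEquiv.ext fun z => Subtype.ext (hge z)
    have h3 : γ ∈ autInducedBy S X := by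
      have h4 : IsPGroup p ((autInducedBy S X).subgroupOf Aτ) := by
        rw [← range_conjAutHom]
        exact ((hS.to_le (Fusion.normalizerIn_le S X)).of_surjective _
          (conjAutHom S X).rangeRestrict_surjective).comap_of_injective _
          (Subgroup.subtype_injective _)
      let e : Aτ →* A' := ((MulAut.congr hP₁.equiv).toMonoidHom.comp Aτ.subtype).codRestrict A'
        fun β => hA'eq ▸ ⟨β, β.2, rfl⟩
      have hle : ((autInducedBy S X).subgroupOf Aτ).map e ≤ M := by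
        rintro _ ⟨β, hβ, rfl⟩
        obtain ⟨⟨y, hy⟩, hye⟩ : (β : MulAut X) ∈ (conjAutHom S X).range := by
          rw [range_conjAutHom]; exact hβ
        refine Subgroup.mem_subgroupOf.mpr ?_
        show MulAut.congr hP₁.equiv (β : MulAut X) ∈ autInducedBy S P₁
        rw [← hye]
        exact hεM y hy (hye.symm ▸ β.2)
      have heb : Function.Bijective e := by
        refine ⟨fun β γ h => Subtype.ext ((MulAut.congr hP₁.equiv).injective
          (congrArg Subtype.val h)), fun β => ?_⟩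
        obtain ⟨γ, hγ, he⟩ := (hA'eq ▸ β.2 :
          (β : MulAut P₁) ∈ Aτ.map (MulAut.congr hP₁.equiv).toMonoidHom)
        exact ⟨⟨γ, hγ⟩, Subtype.ext he⟩
      have heq : ((autInducedBy S X).subgroupOf Aτ).map e = M := by
        have hMp' : IsPGroup p M := by
          refine (IsPGroup.comap_of_injective ?_ _ (Subgroup.subtype_injective _) : IsPGroup p M)
          rw [← range_conjAutHom]
          exact (hS.to_le (Fusion.normalizerIn_le S P₁)).of_surjective _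
            (conjAutHom S P₁).rangeRestrict_surjective
        haveI : Finite A' := inferInstance
        refine ((hMp'.to_le hle).toSylow ?_).3 hMp' hle |>.symm
        intro hdvd
        exact hMτ (hdvd.trans (Subgroup.index_map_dvd _ heb.2))
      have : (⟨γ, hγ⟩ : Aτ) ∈ (autInducedBy S X).subgroupOf Aτ := by
        obtain ⟨δ, hδ, hδe⟩ := (heq.symm ▸ hbM x :
          b * Φ x * b⁻¹ ∈ ((autInducedBy S X).subgroupOf Aτ).map e)
        rwa [show (⟨γ, hγ⟩ : Aτ) = δ from heb.1 ((Subtype.ext hγe).trans hδe.symm)]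
      exact this
    obtain ⟨y, hy, hye⟩ := mem_autInducedBy.mp h3
    have hyN : y ∈ normalizerIn S X := ⟨hy, mem_normalizer_of_induces hye⟩
    have hyγ : conjAutHom S X ⟨y, hyN⟩ = γ := MulEquiv.ext fun z => Subtype.ext (hye z).symm
    refine ⟨y, hyN, hMNε y hyN (hyγ ▸ hγ), fun z hz => ?_⟩
    have hz' : (x : Ω) * z * (x : Ω)⁻¹ ∈ R ⊔ Q :=
      Fusion.conj_mem_of_mem_normalizer (hMR x x.2).2 hz
    let w : P₁ := hi₀.equiv ⟨z, hz⟩
    have hw : ((Φ x : MulAut P₁) w : Ω) = f₀ ((x : Ω) * z * (x : Ω)⁻¹) :=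
      (congr_apply_equiv hi₀ _ ⟨z, hz⟩).trans rfl
    have hbw : ((b * Φ x * b⁻¹ : A') : MulAut P₁) ((b : MulAut P₁) w) =
        (b : MulAut P₁) ((Φ x : MulAut P₁) w) := by
      simp only [Subgroup.coe_mul, Subgroup.coe_inv, MulAut.mul_apply]
      rw [show ((b : MulAut P₁)⁻¹) ((b : MulAut P₁) w) = w from (b : MulAut P₁).symm_apply_apply w]
    obtain ⟨v, hv⟩ := hP₁.equiv.surjective ((b : MulAut P₁) w)
    have h5 := hbw
    rw [← hγe, ← hv] at h5
    have h6 : ε (γ v : Ω) = ((b : MulAut P₁) ((Φ x : MulAut P₁) w) : Ω) :=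
      (congr_apply_equiv hP₁ γ v).symm.trans (congrArg Subtype.val h5)
    show εi (autFun (b : MulAut P₁) (f₀ ((x : Ω) * z * (x : Ω)⁻¹))) =
      y * εi (autFun (b : MulAut P₁) (f₀ z)) * y⁻¹
    rw [← hw, autFun_coe, ← h6, hεil _ (γ v).2, hye v,
      show f₀ z = (w : Ω) from rfl, autFun_coe, ← hv, hP₁.equiv_apply, hεil _ v.2]
  have hMX : IsExtendable S (R ⊔ Q) (εi ∘ (autFun (b : MulAut P₁) ∘ f₀)) Mx :=
    ⟨hMx.1, fun x hx => ⟨(hMR x hx).2, by
      obtain ⟨y, hy1, -, hy2⟩ := hy ⟨x, hx⟩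
      exact ⟨y, hy1.1, hy2⟩⟩⟩
  obtain ⟨g', hg', hge⟩ := receptive_extend (receptive_of_fullyNormalized hS hF hXN) hg hMX
  have hgN : ∀ z ∈ (R ⊔ Q) ⊔ Mx, g' z ∈ Nε := by
    refine isMap_mem_sup hg' le_sup_left le_sup_right (fun z hz => hXNε ?_) fun x hx => ?_
    · rw [hge hz]; exact hg.mem hz
    · obtain ⟨y, hy1, hy2, hy3⟩ := hy ⟨x, hx⟩
      have hc : y⁻¹ * g' x ∈ centralizerIn S X := by
        refine ⟨S.mul_mem (S.inv_mem hy1.1) (hg'.apply_mem (Subgroup.mem_sup_right hx)),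
          Subgroup.mem_centralizer_iff.mpr fun v hv => ?_⟩
        obtain ⟨z, hz, rfl⟩ := hg.exists_preimage hv
        have h1 := hg'.map_conj (g := x) (x := z) (Subgroup.mem_sup_right hx)
          (Subgroup.mem_sup_left hz)
        rw [hge hz, hge (Fusion.conj_mem_of_mem_normalizer (hMR x hx).2 hz), hy3 z hz] at h1
        set w := (εi ∘ (autFun (b : MulAut P₁) ∘ f₀)) z
        calc w * (y⁻¹ * g' x) = y⁻¹ * (y * w * y⁻¹) * g' x := by group
          _ = y⁻¹ * (g' x * w * (g' x)⁻¹) * g' x := by rw [h1]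
          _ = y⁻¹ * g' x * w := by group
      simpa using Nε.mul_mem hy2 (hCNε hc)
  have hef : Set.EqOn (ε ∘ g') (autFun (b : MulAut P₁) ∘ f₀) ↑(R ⊔ Q) := fun z hz => by
    have hmem : autFun (b : MulAut P₁) (f₀ z) ∈ P₁ := hf₁.mem hz
    show ε (g' z) = _
    rw [hge hz]
    exact hεir _ hmem
  obtain ⟨-, f₁', hf₁', hfe₁, t₁, ht₁, ht₁Q⟩ := isMap_centralType.mp hf₁.1
  have hemap : IsMap F ((R ⊔ Q) ⊔ Mx) (ε ∘ g') := hg'.comp hε hgN
  have hDmap : IsMap D ((R ⊔ Q) ⊔ Mx) (ε ∘ g') := by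
    refine isMap_centralType.mpr ⟨hemap, ε ∘ g', hemap.mono
      (sup_le le_rfl (le_sup_right.trans le_sup_left)), fun _ _ => rfl, t₁, ht₁, fun q hq => ?_⟩
    rw [hef (Subgroup.mem_sup_right hq), ← hfe₁ (Subgroup.mem_sup_right hq)]
    exact ht₁Q q hq
  refine ⟨ε ∘ g', hDmap.mono le_sup_right, fun z hz => ?_⟩
  rw [hef (Subgroup.mem_sup_left hz)]
  show autFun (b : MulAut P₁) (f₀ z) = f z
  rw [he₀ hz]
  have := congrArg (fun β : D.autGroup P' => ((β : MulAut P') ⟨f z, hf.mem hz⟩ : Ω)) hbP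
  exact this

end Cfsg.Agent.Fusion92
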