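import Cfsg.Agent.Fusion92.Radical
import Cfsg.Agent.Fusion91.Basic

set_option autoImplicit false

/-! The local models of a factor system are sections of local models of the system. -/

namespace Cfsg.Agent.Fusion92

open Cfsg Cfsg.Agent.Fusion
open Cfsg.FusionSystem (normalizerIn centralizerIn preimageAlong InducedAlong)

universe u v w

variable {Ω : Type u} [Group Ω] {S : Subgroup Ω} {F : Cfsg.FusionSystem S} {p : ℕ} [Fact p.Prime]
  {Q : Subgroup Ω} {Ω' : Type v} [Group Ω'] {S' : Subgroup Ω'} {θ : S →* Ω'}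
  {E : Cfsg.FusionSystem S'}

omit [Fact p.Prime] in
theorem isNormal_closed (hQ : F.IsNormal Q) {R : Subgroup Ω} {f : Ω → Ω} (hf : IsMap F R f)
    {x : Ω} (hx : x ∈ R) (hxQ : x ∈ Q) : f x ∈ Q := by
  obtain ⟨f', -, he, hQ'⟩ := (Fusion.isNormal_iff.mp hQ).2 R f hf
  rw [← he hx]
  exact hQ'.subset ⟨x, hxQ, rfl⟩

omit [Fact p.Prime] in
/-- A map of the factor system lifts to the preimage of its source. -/
theorem exists_lift (hE : F.IsFactorSystem Q θ E) {P' : Subgroup Ω'} {f : Ω' → Ω'}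
    (hf : IsMap E P' f) :
    ∃ g : Ω → Ω, IsMap F (preimageAlong θ P') g ∧
      ∀ (x : S), θ x ∈ P' → ∃ hg : g x ∈ S, θ ⟨g x, hg⟩ = f (θ x) := by
  obtain ⟨φ', hφ', hφf⟩ := hf
  obtain ⟨-, φ, hφ, hP, hv, hi, he⟩ := (hE.2.2.2 P' φ').mp hφ'
  refine ⟨extFun φ, isMap_extFun hφ, fun x hx => ?_⟩
  have hmem : (x : Ω) ∈ preimageAlong θ P' := Fusion91.mem_preimageAlong.mpr ⟨x.2, hx⟩
  have h1 : extFun φ (x : Ω) = φ ⟨x, hmem⟩ := extFun_of_mem φ hmem
  refine ⟨h1 ▸ hv _, ?_⟩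
  rw [← hφf ⟨θ x, hx⟩]
  exact (congrArg θ (Subtype.ext h1 : (⟨extFun φ x, h1 ▸ hv _⟩ : S) = ⟨φ ⟨x, hmem⟩, hv _⟩)).trans
    (he ⟨x, hmem⟩).symm

omit [Fact p.Prime] in
/-- A map of the system on a full preimage descends to the factor system. -/
theorem exists_descend (hQ : F.IsNormal Q) (hE : F.IsFactorSystem Q θ E) {P' : Subgroup Ω'}
    (hP' : P' ≤ S') {g : Ω → Ω} (hg : IsMap F (preimageAlong θ P') g) :
    ∃ f : Ω' → Ω', IsMap E P' f ∧
      ∀ (x : S), θ x ∈ P' → ∃ hgx : g x ∈ S, θ ⟨g x, hgx⟩ = f (θ x) := by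
  obtain ⟨φ, hφ, hφg⟩ := id hg
  have hP : preimageAlong θ P' ≤ S := Fusion91.preimageAlong_le θ P'
  let π : ↥(preimageAlong θ P') →* P' :=
    (θ.comp (Subgroup.inclusion hP)).codRestrict P' fun x =>
      (Fusion91.mem_preimageAlong.mp x.2).2
  have hπ : Function.Surjective π := fun y => by
    obtain ⟨x, hx⟩ : (y : Ω') ∈ θ.range := hE.2.2.1 ▸ hP' y.2
    exact ⟨⟨x, Fusion91.mem_preimageAlong.mpr ⟨x.2, hx ▸ y.2⟩⟩, Subtype.ext hx⟩
  let ψ : ↥(preimageAlong θ P') →* Ω' := θ.comp (φ.codRestrict S (F.le_of_mem hφ).2)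
  have hker : π.ker ≤ ψ.ker := fun x hx => by
    have h1 : (x : Ω) ∈ Q := (hE.2.1 (Subgroup.inclusion hP x)).mp (congrArg Subtype.val hx)
    refine MonoidHom.mem_ker.mpr ((hE.2.1 _).mpr ?_)
    show φ x ∈ Q
    rw [hφg]
    exact isNormal_closed hQ hg x.2 h1
  let φ' : P' →* Ω' := π.liftOfSurjective hπ ⟨ψ, hker⟩
  have hcomp : ∀ x, φ' (π x) = ψ x := fun x =>
    π.liftOfRightInverse_comp_apply _ _ ⟨ψ, hker⟩ x
  have hφ' : φ' ∈ E.Hom P' := (hE.2.2.2 P' φ').mpr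
    ⟨hP', φ, hφ, hP, (F.le_of_mem hφ).2, fun x => (π x).2, fun x => hcomp x⟩
  refine ⟨extFun φ', isMap_extFun hφ', fun x hx => ?_⟩
  have hmem : (x : Ω) ∈ preimageAlong θ P' := Fusion91.mem_preimageAlong.mpr ⟨x.2, hx⟩
  refine ⟨hg.apply_mem hmem, ?_⟩
  rw [extFun_of_mem φ' hx, show (⟨θ x, hx⟩ : P') = π ⟨x, hmem⟩ from Subtype.ext rfl, hcomp]
  exact congrArg θ (Subtype.ext (hφg ⟨x, hmem⟩).symm)

omit [Fact p.Prime] in
theorem mem_normalizer_preimage (hθ : θ.range = S') {U' : Subgroup Ω'} (hU : U' ≤ S') (x : S) :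
    (x : Ω) ∈ Subgroup.normalizer (preimageAlong θ U' : Set Ω) ↔
      θ x ∈ Subgroup.normalizer (U' : Set Ω') := by
  have hmem : ∀ (y : Ω) (hy : y ∈ S), y ∈ preimageAlong θ U' ↔ θ ⟨y, hy⟩ ∈ U' := fun y hy =>
    ⟨fun h => (Fusion91.mem_preimageAlong.mp h).2,
      fun h => Fusion91.mem_preimageAlong.mpr ⟨hy, h⟩⟩
  constructor
  · intro h
    refine Subgroup.mem_normalizer_iff.mpr fun y => ?_
    have key : ∀ z : S, θ z ∈ U' ↔ θ (x * z * x⁻¹) ∈ U' := fun z => by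
      rw [← hmem z z.2, ← hmem _ (x * z * x⁻¹).2, Subgroup.mem_normalizer_iff.mp h (z : Ω)]
      simp
    constructor
    · intro hy
      obtain ⟨z, rfl⟩ : y ∈ θ.range := hθ ▸ hU hy
      rw [← map_inv, ← map_mul, ← map_mul]
      exact (key z).mp hy
    · intro hy
      have hyS : y ∈ θ.range := by
        have := θ.range.mul_mem (θ.range.mul_mem (θ.range.inv_mem ⟨x, rfl⟩) (hθ ▸ hU hy)) ⟨x, rfl⟩
        simpa [mul_assoc] using this
      obtain ⟨z, rfl⟩ := hyS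
      rw [← map_inv, ← map_mul, ← map_mul] at hy
      exact (key z).mpr hy
  · intro h
    refine Subgroup.mem_normalizer_iff.mpr fun y => ?_
    constructor
    · intro hy
      obtain ⟨hyS, hy'⟩ := Fusion91.mem_preimageAlong.mp hy
      refine Fusion91.mem_preimageAlong.mpr ⟨(x * ⟨y, hyS⟩ * x⁻¹).2, ?_⟩
      show θ (x * ⟨y, hyS⟩ * x⁻¹) ∈ U'
      rw [map_mul, map_mul, map_inv]
      exact (Subgroup.mem_normalizer_iff.mp h _).mp hy'
    · intro hy
      obtain ⟨hxy, hy'⟩ := Fusion91.mem_preimageAlong.mp hy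
      have hyS : y ∈ S := by
        have := S.mul_mem (S.mul_mem (S.inv_mem x.2) hxy) x.2
        simpa [mul_assoc] using this
      refine Fusion91.mem_preimageAlong.mpr ⟨hyS, ?_⟩
      refine (Subgroup.mem_normalizer_iff.mp h _).mpr ?_
      rw [← map_inv, ← map_mul, ← map_mul]
      exact hy'

/-- A model at a centric subgroup of the factor system embeds into a quotient of a local model of
the system. -/
theorem exists_factor_section [Finite S] (hS : IsPGroup p S) (hF : F.IsSaturated p)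
    (hQ : F.IsNormal Q) (hE : F.IsFactorSystem Q θ E) {U' : Subgroup Ω'} (hUC : E.IsCentric U')
    {N : Cfsg.FusionSystem (normalizerIn S' U')} (hN : E.IsNormalizerSystem U' N) {M : Type w}
    [Group M] {κ' : ↥(normalizerIn S' U') →* M} (hM : N.IsModel p M κ') :
    ∃ (W : Subgroup Ω) (L : Type u) (_ : Group L) (ι : ↥(normalizerIn S W) →* L),
      F.IsFullyNormalized W ∧ F.IsCentric W ∧ IsLocal F p W ι ∧
        ∃ (K : Subgroup L) (_ : K.Normal) (j : M →* L ⧸ K), Function.Injective j := by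
  have hθ := hE.2.2.1
  have hU'S := hUC.1
  haveI : Finite S' := by
    rw [← hθ]; exact Finite.of_surjective θ.rangeRestrict θ.rangeRestrict_surjective
  let U : Subgroup Ω := preimageAlong θ U'
  have hUS : U ≤ S := Fusion91.preimageAlong_le θ U'
  have hQU : Q ≤ U := fun x hx => Fusion91.mem_preimageAlong.mpr
    ⟨hQ.1 hx, by rw [(hE.2.1 ⟨x, hQ.1 hx⟩).mpr hx]; exact U'.one_mem⟩
  -- centralizing a conjugate of `U` modulo `Q`
  have hmod : ∀ (V : Subgroup Ω) (f : Ω → Ω), IsIso F U V f → ∀ x : S,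
      (∀ y ∈ V, (x : Ω) * y * (x : Ω)⁻¹ * y⁻¹ ∈ Q) → (x : Ω) ∈ V := by
    intro V f hf x hx
    obtain ⟨f', hf', hff⟩ := exists_descend hQ hE hU'S hf.1
    obtain ⟨V', hV'⟩ := hf'.exists_image
    have hθV : ∀ y (hy : y ∈ V), θ ⟨y, hf.cod_le hy⟩ ∈ V' := fun y hy => by
      obtain ⟨u, hu, rfl⟩ := hf.exists_preimage hy
      obtain ⟨huS, huU⟩ := Fusion91.mem_preimageAlong.mp hu
      obtain ⟨_, he⟩ := hff ⟨u, huS⟩ huU
      exact he ▸ hV'.mem huU
    have hxV : θ x ∈ V' := hUC.2 V' hV'.isConj ⟨hθ ▸ ⟨x, rfl⟩,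
      Subgroup.mem_centralizer_iff.mpr fun z hz => by
        obtain ⟨u', hu', rfl⟩ := hV'.exists_preimage hz
        obtain ⟨u, rfl⟩ : u' ∈ θ.range := hθ ▸ hU'S hu'
        obtain ⟨hfu, he⟩ := hff u hu'
        have hfV : f u ∈ V := hf.mem (Fusion91.mem_preimageAlong.mpr ⟨u.2, hu'⟩)
        have h1 := (hE.2.1 (x * ⟨f u, hfu⟩ * x⁻¹ * ⟨f u, hfu⟩⁻¹)).mpr (hx _ hfV)
        rw [map_mul, map_mul, map_mul, map_inv, map_inv, mul_inv_eq_one] at h1
        rw [← he]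
        calc θ ⟨f u, hfu⟩ * θ x = θ x * θ ⟨f u, hfu⟩ * (θ x)⁻¹ * θ x := by rw [h1]
          _ = θ x * θ ⟨f u, hfu⟩ := by group⟩
    obtain ⟨u', hu', he'⟩ := hV'.exists_preimage hxV
    obtain ⟨u, rfl⟩ : u' ∈ θ.range := hθ ▸ hU'S hu'
    obtain ⟨hfu, he⟩ := hff u hu'
    have h2 : θ (x * (⟨f u, hfu⟩ : S)⁻¹) = 1 := by
      rw [map_mul, map_inv, he, he', mul_inv_cancel]
    have hfV : f u ∈ V := hf.mem (Fusion91.mem_preimageAlong.mpr ⟨u.2, hu'⟩)
    have hQV : Q ≤ V := fun q hq => by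
      obtain ⟨u₀, hu₀, rfl⟩ := (surjOn_of_card_le (f := f) hQ.1 (hf.1.injOn.mono hQU)
        (fun a ha => isNormal_closed hQ hf.1 (hQU ha) ha) le_rfl) q hq
      exact hf.mem (hQU hu₀)
    have h3 := V.mul_mem (hQV ((hE.2.1 _).mp h2)) hfV
    simpa [mul_assoc] using h3
  have hUC' : F.IsCentric U := by
    refine ⟨hUS, fun V hV x hx => ?_⟩
    obtain ⟨f, hf⟩ := isConj_iff.mp hV
    refine hmod V f hf ⟨x, hx.1⟩ fun y hy => ?_
    show x * y * x⁻¹ * y⁻¹ ∈ Q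
    rw [← Subgroup.mem_centralizer_iff.mp hx.2 y hy]
    simp
  obtain ⟨W, hUW, hWN⟩ := exists_fullyNormalized (F := F) hUS
  have hWC : F.IsCentric W := Fus93.isCentric_of_isConj hUC' hUW
  obtain ⟨L, hG, hL, ι, h⟩ := exists_isLocal hS hF hWC hWN
  obtain ⟨γ, hγ, hγU, hγN⟩ := exists_normalizer_map hS
    (fullyAutomized_of_fullyNormalized hS hF hWN) (receptive_of_fullyNormalized hS hF hWN) hUW
  have hWle : W ≤ normalizerIn S W := Fusion.le_normalizerIn hWC.1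
  have hUle : U ≤ normalizerIn S U := Fusion.le_normalizerIn hUS
  have hQW : Q ≤ W := fun q hq => by
    obtain ⟨u₀, hu₀, rfl⟩ := (surjOn_of_card_le (f := γ) hQ.1 (hγU.1.injOn.mono hQU)
      (fun a ha => isNormal_closed hQ hγU.1 (hQU ha) ha) le_rfl) q hq
    exact hγU.mem (hQU hu₀)
  let A : Subgroup L := (W.subgroupOf (normalizerIn S W)).map ι
  let B : Subgroup L := (Q.subgroupOf (normalizerIn S W)).map ι
  haveI hA : A.Normal := h.shape.norm
  haveI hB : B.Normal := by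
    refine ⟨?_⟩
    rintro _ ⟨q, hq, rfl⟩ g
    obtain ⟨f, hf, hfW, hfe⟩ := h.exists_map g le_rfl hWle (fun y hy => by
      obtain ⟨v, -, hv⟩ := h.shape.exists_conj g ⟨y, hWle hy⟩ hy
      exact ⟨v, hv.symm⟩)
    obtain ⟨hfq, he⟩ := hfe q (hQW hq)
    exact ⟨_, isNormal_closed hQ hf (hQW hq) hq, he⟩
  have hBA : B ≤ A := Subgroup.map_mono fun x hx => hQW hx
  have hrange : IsPGroup p ι.range :=
    (hS.to_le (Fusion.normalizerIn_le S W)).of_surjective _ ι.rangeRestrict_surjective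
  have hAr : A ≤ ι.range := Subgroup.map_le_range ι _
  let q := QuotientGroup.mk' B
  let Ab : Subgroup (L ⧸ B) := A.map q
  haveI : Ab.Normal := hA.map q (QuotientGroup.mk'_surjective B)
  let C : Subgroup (L ⧸ B) := Subgroup.centralizer (Ab : Set (L ⧸ B))
  -- elements of `p`-power order centralizing `Ab` lie in it
  have hpC : ∀ c ∈ C, (∃ k : ℕ, c ^ p ^ k = 1) → c ∈ Ab := by
    intro c hc hk
    obtain ⟨T, hT⟩ := h.sylow
    obtain ⟨k, hk'⟩ := exists_conj_mem_sylow (T.mapSurjective (QuotientGroup.mk'_surjective B)) hk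
    rw [Sylow.coe_mapSurjective, hT] at hk'
    obtain ⟨_, ⟨x, rfl⟩, hx⟩ := hk'
    have hxC : q (ι x) ∈ C := by
      rw [hx]
      exact (inferInstance : C.Normal).conj_mem c hc k
    have hxW : (x : Ω) ∈ W := by
      refine hmod W γ hγU ⟨x, x.2.1⟩ fun y hy => ?_
      have h1 := Subgroup.mem_centralizer_iff.mp hxC (q (ι ⟨y, hWle hy⟩)) ⟨_, ⟨_, hy, rfl⟩, rfl⟩
      have h2 : q (ι (x * ⟨y, hWle hy⟩ * x⁻¹ * ⟨y, hWle hy⟩⁻¹)) = 1 := by
        simp only [map_mul, map_inv]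
        rw [← h1]; group
      obtain ⟨z, hz, he⟩ := (QuotientGroup.eq_one_iff _).mp h2
      have h5 : (z : Ω) ∈ Q := hz
      rw [h.shape.inj he] at h5
      exact h5
    have h3 : k * c * k⁻¹ ∈ Ab := hx ▸ ⟨ι x, ⟨x, hxW, rfl⟩, rfl⟩
    simpa [mul_assoc] using (inferInstance : Ab.Normal).conj_mem _ h3 k⁻¹
  let Z : Subgroup C := Ab.subgroupOf C
  haveI : Z.Normal := Subgroup.normal_subgroupOf
  have hZp : IsPGroup p Z :=
    ((hrange.to_le hAr).map q).comap_of_injective C.subtype C.subtype_injective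
  have hnd : ¬ p ∣ Z.index := fun hdvd => by
    obtain ⟨c, hc⟩ := exists_prime_orderOf_dvd_card' (G := C ⧸ Z) p
      (by rwa [← Subgroup.index_eq_card])
    obtain ⟨c, rfl⟩ := QuotientGroup.mk_surjective c
    have hcp : c ^ p ∈ Z := by
      rw [← QuotientGroup.eq_one_iff, QuotientGroup.mk_pow, ← hc, pow_orderOf_eq_one]
    obtain ⟨k, hk⟩ := hZp ⟨_, hcp⟩
    have hcmem : c ∈ Z := Subgroup.mem_subgroupOf.mpr (hpC c c.2 ⟨k + 1, by
      rw [pow_succ', pow_mul]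
      exact congrArg (fun z : Z => ((z : C) : L ⧸ B)) hk⟩)
    rw [(QuotientGroup.eq_one_iff c).mpr hcmem, orderOf_one] at hc
    exact (Fact.out : p.Prime).one_lt.ne hc
  have hcop : Nat.Coprime (Nat.card Z) Z.index := by
    obtain ⟨n, hn⟩ := IsPGroup.iff_card.mp hZp
    rw [hn]
    exact ((Fact.out : p.Prime).coprime_iff_not_dvd.mpr hnd).pow_left n
  obtain ⟨D₀, hD₀⟩ := Subgroup.exists_right_complement'_of_coprime hcop
  let D : Subgroup (L ⧸ B) := (pPrimeCore p C).map C.subtype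
  haveI : D.Normal := Thompson.map_subtype_normal_of_characteristic C (pPrimeCore p C)
  have hD₀le : D₀ ≤ pPrimeCore p C := by
    have hn : D₀.Normal := by
      rw [← Subgroup.normalizer_eq_top_iff, eq_top_iff, ← hD₀.sup_eq_top]
      refine sup_le (fun z hz => ?_) Subgroup.le_normalizer
      refine Subgroup.centralizer_le_normalizer _ (Subgroup.mem_centralizer_iff.mpr fun d _ => ?_)
      exact Subtype.ext ((Subgroup.mem_centralizer_iff.mp d.2 (z : L ⧸ B)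
        (Subgroup.mem_subgroupOf.mp hz)).symm)
    refine Thompson.le_pPrimeCore hn ?_
    rw [← hD₀.symm.index_eq_card]
    exact Nat.coprime_comm.mp ((Fact.out : p.Prime).coprime_iff_not_dvd.mpr hnd)
  let K : Subgroup L := D.comap q
  have hKN : ∀ x : ↥(normalizerIn S W), ι x ∈ K → (x : Ω) ∈ Q := by
    intro x hx
    obtain ⟨d, hd, hde⟩ := hx
    have h1 : d = 1 := by
      have hdp : IsPGroup p (Subgroup.zpowers d) := by
        refine ((hrange.map q).comap_of_injective C.subtype C.subtype_injective).to_le ?_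
        rw [Subgroup.zpowers_le]
        exact ⟨_, ⟨x, rfl⟩, hde.symm⟩
      have := Thompson.inf_eq_bot_of_isPGroup_of_coprime hdp
        (Thompson.card_pPrimeCore_coprime (G := C) (p := p))
      exact Subgroup.mem_bot.mp (this ▸ ⟨Subgroup.mem_zpowers d, hd⟩)
    have h2 : q (ι x) = 1 := by rw [← hde, h1]; rfl
    obtain ⟨z, hz, he⟩ := (QuotientGroup.eq_one_iff _).mp h2
    exact h.shape.inj he ▸ hz
  -- the quotient of the local model, over the normalizer of `U'`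
  have hNmem : ∀ x : ↥(normalizerIn S U), θ ⟨x, x.2.1⟩ ∈ normalizerIn S' U' := fun x =>
    ⟨hθ ▸ ⟨_, rfl⟩, (mem_normalizer_preimage hθ hU'S ⟨x, x.2.1⟩).mp x.2.2⟩
  let π : ↥(normalizerIn S U) →* ↥(normalizerIn S' U') :=
    (θ.comp (Subgroup.inclusion (Fusion.normalizerIn_le S U))).codRestrict _ hNmem
  have hπ : Function.Surjective π := fun y => by
    obtain ⟨x, hx⟩ : (y : Ω') ∈ θ.range := hθ ▸ y.2.1
    exact ⟨⟨x, x.2, (mem_normalizer_preimage hθ hU'S x).mpr (hx ▸ y.2.2)⟩, Subtype.ext hx⟩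
  let γN : ↥(normalizerIn S U) →* ↥(normalizerIn S W) :=
    MonoidHom.mk' (fun x => ⟨γ x, hγN x x.2⟩) fun x y => Subtype.ext (hγ.map_mul x.2 y.2)
  let κ₀ : ↥(normalizerIn S U) →* L ⧸ K := ((QuotientGroup.mk' K).comp ι).comp γN
  have hker : π.ker ≤ κ₀.ker := fun x hx => by
    have h1 : (x : Ω) ∈ Q := (hE.2.1 ⟨x, x.2.1⟩).mp (congrArg Subtype.val hx)
    refine MonoidHom.mem_ker.mpr ((QuotientGroup.eq_one_iff _).mpr ?_)
    show q (ι (γN x)) ∈ D
    rw [show q (ι (γN x)) = 1 from (QuotientGroup.eq_one_iff _).mpr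
      ⟨γN x, isNormal_closed hQ hγ x.2 h1, rfl⟩]
    exact D.one_mem
  let κ : ↥(normalizerIn S' U') →* L ⧸ K := π.liftOfSurjective hπ ⟨κ₀, hker⟩
  have hκ : ∀ x, κ (π x) = QuotientGroup.mk' K (ι (γN x)) := fun x =>
    π.liftOfRightInverse_comp_apply _ _ ⟨κ₀, hker⟩ x
  have hκinj : Function.Injective κ := by
    refine (injective_iff_map_eq_one κ).mpr fun y hy => ?_
    obtain ⟨x, rfl⟩ := hπ y
    rw [hκ] at hy
    have h1 : γ (x : Ω) ∈ Q := hKN (γN x) ((QuotientGroup.eq_one_iff _).mp hy)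
    obtain ⟨u₀, hu₀, he⟩ := (surjOn_of_card_le (f := γ) hQ.1
      (hγ.injOn.mono (hQU.trans hUle))
      (fun a ha => isNormal_closed hQ hγ (hUle (hQU ha)) ha) le_rfl) _ h1
    exact Subtype.ext ((hE.2.1 ⟨x, x.2.1⟩).mpr (hγ.injOn (hUle (hQU hu₀)) x.2 he ▸ hu₀))
  have hπU : ∀ x : ↥(normalizerIn S U), ((π x : ↥(normalizerIn S' U')) : Ω') ∈ U' ↔ (x : Ω) ∈ U :=
    fun x => ⟨fun hx => Fusion91.mem_preimageAlong.mpr ⟨x.2.1, hx⟩,
      fun hx => (Fusion91.mem_preimageAlong.mp hx).2⟩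
  have hmap : (U'.subgroupOf (normalizerIn S' U')).map κ = A.map (QuotientGroup.mk' K) := by
    refine le_antisymm ?_ ?_
    · rintro _ ⟨y, hy, rfl⟩
      obtain ⟨x, rfl⟩ := hπ y
      rw [hκ]
      exact ⟨_, ⟨γN x, hγU.mem ((hπU x).mp hy), rfl⟩, rfl⟩
    · rintro _ ⟨_, ⟨y, hy, rfl⟩, rfl⟩
      obtain ⟨u, hu, he⟩ := hγU.exists_preimage hy
      refine ⟨π ⟨u, hUle hu⟩, (hπU _).mpr hu, ?_⟩
      rw [hκ, (Subtype.ext he : γN ⟨u, hUle hu⟩ = y)]
  have h₂ : IsShape U' (normalizerIn S' U') κ := by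
    refine ⟨hκinj, Fusion.le_normalizerIn hU'S, ?_, ?_⟩
    · rw [hmap]
      exact hA.map _ (QuotientGroup.mk'_surjective K)
    · rw [hmap]
      intro g hg
      obtain ⟨g, rfl⟩ := QuotientGroup.mk'_surjective K g
      have hgC : q g ∈ C := Subgroup.mem_centralizer_iff.mpr fun a ha => by
        obtain ⟨a, haA, rfl⟩ := ha
        have h1 : QuotientGroup.mk' K (g * a * g⁻¹ * a⁻¹) = 1 := by
          have := Subgroup.mem_centralizer_iff.mp hg _ (Subgroup.mem_map_of_mem _ haA)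
          simp only [map_mul, map_inv]
          rw [← this]; group
        have h2 : g * a * g⁻¹ * a⁻¹ ∈ A :=
          A.mul_mem (hA.conj_mem a haA g) (A.inv_mem haA)
        obtain ⟨x, hx, hxe⟩ := h2
        have h3 := hKN x (hxe ▸ (QuotientGroup.eq_one_iff _).mp h1)
        have h4 : q (g * a * g⁻¹ * a⁻¹) = 1 := (QuotientGroup.eq_one_iff _).mpr ⟨x, h3, hxe⟩
        simp only [map_mul, map_inv, mul_inv_eq_one] at h4
        calc q a * q g = q g * q a * (q g)⁻¹ * q g := by rw [h4]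
          _ = q g * q a := by group
      have hmem : (⟨q g, hgC⟩ : C) ∈ Z ⊔ D₀ := by rw [hD₀.sup_eq_top]; trivial
      obtain ⟨z, hz, d, hd, hzd⟩ := Subgroup.mem_sup_of_normal_left.mp hmem
      obtain ⟨a, haA, hza⟩ := Subgroup.mem_subgroupOf.mp hz
      refine ⟨a, haA, (QuotientGroup.mk'_eq_mk' K).mpr ⟨a⁻¹ * g, ?_, by group⟩⟩
      show q (a⁻¹ * g) ∈ D
      rw [map_mul, map_inv, hza]
      refine ⟨d, hD₀le hd, ?_⟩
      have := congrArg Subtype.val hzd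
      simp only [Subgroup.coe_mul] at this
      rw [← this]; group; rfl
  -- maps of the factor system stabilizing `U'` are conjugations in the quotient
  have hconj : ∀ (R : Subgroup Ω') (hR : R ≤ normalizerIn S' U') (f : Ω' → Ω'), U' ≤ R →
      IsMap E R f → f '' (U' : Set Ω') = (U' : Set Ω') →
      ∃ g : L ⧸ K, ∀ (r : Ω') (hr : r ∈ R) (hfr : f r ∈ normalizerIn S' U'),
        κ ⟨f r, hfr⟩ = g * κ ⟨r, hR hr⟩ * g⁻¹ := by
    intro R hR f hUR hf hfU
    obtain ⟨e, he, hee⟩ := exists_lift hE hf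
    have hUR' : U ≤ preimageAlong θ R := fun x hx => by
      obtain ⟨hxS, hxU⟩ := Fusion91.mem_preimageAlong.mp hx
      exact Fusion91.mem_preimageAlong.mpr ⟨hxS, hUR hxU⟩
    have hR' : preimageAlong θ R ≤ normalizerIn S U := fun x hx => by
      obtain ⟨hxS, hxR⟩ := Fusion91.mem_preimageAlong.mp hx
      exact ⟨hxS, (mem_normalizer_preimage hθ hU'S ⟨x, hxS⟩).mpr (hR hxR).2⟩
    have heUU : ∀ x ∈ U, e x ∈ U := fun x hx => by
      obtain ⟨hxS, hxU⟩ := Fusion91.mem_preimageAlong.mp hx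
      obtain ⟨hex, hex'⟩ := hee ⟨x, hxS⟩ (hUR hxU)
      exact Fusion91.mem_preimageAlong.mpr ⟨hex, hex' ▸ hfU.subset ⟨_, hxU, rfl⟩⟩
    have heU : e '' (U : Set Ω) = (U : Set Ω) :=
      Set.Subset.antisymm (fun y ⟨x, hx, hxy⟩ => hxy ▸ heUU x hx)
        (surjOn_of_card_le hUS (he.injOn.mono hUR') heUU le_rfl)
    obtain ⟨g, hg⟩ := h.exists_conj_transport hγ hγU hγN hUR' hR' he heU
    refine ⟨QuotientGroup.mk' K g, fun r hr hfr => ?_⟩
    obtain ⟨x, rfl⟩ : r ∈ θ.range := hθ ▸ (hR hr).1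
    have hxR : (x : Ω) ∈ preimageAlong θ R := Fusion91.mem_preimageAlong.mpr ⟨x.2, hr⟩
    obtain ⟨hex, hex'⟩ := hee x hr
    have hexN : e x ∈ normalizerIn S U :=
      Fusion.map_mem_normalizer he hUR' heU hxR (hR' hxR).2
    rw [show (⟨f (θ x), hfr⟩ : ↥(normalizerIn S' U')) = π ⟨e x, hexN⟩ from Subtype.ext hex'.symm,
      show (⟨θ x, hR hr⟩ : ↥(normalizerIn S' U')) = π ⟨x, hR' hxR⟩ from Subtype.ext rfl,
      hκ, hκ, ← map_inv, ← map_mul, ← map_mul]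
    exact congrArg (QuotientGroup.mk' K) (hg x hxR hexN)
  have hMnorm := isModel_norm hU'S hN hM
  have hreal := isModel_realizes hN hM
  obtain ⟨hfin, ⟨hinj, -⟩, ⟨T, hT⟩, hcore⟩ := hM
  haveI : Finite M := hfin
  have hU'N : U' ≤ normalizerIn S' U' := Fusion.le_normalizerIn hU'S
  have hmapM : ∀ (g : M) (R : Subgroup Ω') (hR : R ≤ normalizerIn S' U'), U' ≤ R →
      ∀ s : ∀ x ∈ R, ↥(normalizerIn S' U'),
      (∀ x (hx : x ∈ R), κ' (s x hx) = g * κ' ⟨x, hR hx⟩ * g⁻¹) →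
      ∃ g₂ : L ⧸ K, ∀ x (hx : x ∈ R), κ (s x hx) = g₂ * κ ⟨x, hR hx⟩ * g₂⁻¹ := by
    classical
    intro g R hR hUR s hs
    let f : Ω' → Ω' := fun x => if hx : x ∈ R then (s x hx : Ω') else 1
    have hfv : ∀ x (hx : x ∈ R), f x = s x hx := fun x hx => dif_pos hx
    have hf : ∀ x ∈ R, f x ∈ normalizerIn S' U' := fun x hx => hfv x hx ▸ (s x hx).2
    obtain ⟨hm, f', -, hfe, hfU⟩ := (hreal R hR f hf).mpr ⟨g, fun x hx => by
      rw [← hs x hx]; exact congrArg κ' (Subtype.ext (hfv x hx))⟩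
    obtain ⟨g₂, hg₂⟩ := hconj R hR f hUR hm
      ((Set.image_congr fun x hx => (hfe (hUR hx)).symm).trans hfU)
    refine ⟨g₂, fun x hx => ?_⟩
    rw [← hg₂ x hx (hf x hx)]
    exact congrArg κ (Subtype.ext (hfv x hx).symm)
  have h₁ : IsShape U' (normalizerIn S' U') κ' := by
    refine ⟨hinj, hU'N, hMnorm, fun g hg => ?_⟩
    have hOle : pCore p M ≤ κ'.range := hT ▸ Thompson.pCore_le_sylow T
    let R₀ : Subgroup ↥(normalizerIn S' U') :=
      (pCore p M).comap κ' ⊔ U'.subgroupOf (normalizerIn S' U')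
    have hR₀ : R₀ ≤ (κ'.range.comap (MulAut.conj g).toMonoidHom).comap κ' := by
      refine sup_le (fun k hk => hOle (Thompson.instPCoreNormal.conj_mem _ hk g)) fun u hu =>
        ⟨u, ?_⟩
      show κ' u = g * κ' u * g⁻¹
      rw [← hg (κ' u) ⟨u, hu, rfl⟩]
      group
    choose s hs using fun (x : Ω') (hx : x ∈ R₀.map (normalizerIn S' U').subtype) =>
      (show g * κ' ⟨x, Subgroup.map_subtype_le R₀ hx⟩ * g⁻¹ ∈ κ'.range from by
        obtain ⟨k, hk, rfl⟩ := hx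
        exact hR₀ hk)
    have hUR : U' ≤ R₀.map (normalizerIn S' U').subtype := fun u hu =>
      ⟨⟨u, hU'N hu⟩, Subgroup.mem_sup_right hu, rfl⟩
    obtain ⟨g₂, hg₂⟩ := hmapM g _ (Subgroup.map_subtype_le R₀) hUR s hs
    have hg₂C : g₂ ∈ (U'.subgroupOf (normalizerIn S' U')).map κ := by
      refine h₂.cent (Subgroup.mem_centralizer_iff.mpr ?_)
      rintro _ ⟨u, hu, rfl⟩
      have h1 := hg₂ u (hUR hu)
      have h2 : s u (hUR hu) = u := hinj (by
        rw [hs]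
        show g * κ' u * g⁻¹ = κ' u
        rw [← hg (κ' u) ⟨u, hu, rfl⟩]; group)
      rw [h2] at h1
      calc κ u * g₂ = g₂ * κ u * g₂⁻¹ * g₂ := by rw [← h1]
        _ = g₂ * κ u := by group
    obtain ⟨z, hz, rfl⟩ := hg₂C
    have hO : (κ' z)⁻¹ * g ∈ pCore p M := hcore fun y hy => by
      obtain ⟨k, rfl⟩ := hOle hy
      have hk : (k : Ω') ∈ R₀.map (normalizerIn S' U').subtype :=
        ⟨k, Subgroup.mem_sup_left hy, rfl⟩
      have h1 : s k hk = z * k * z⁻¹ := hκinj (by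
        rw [hg₂ k hk, map_mul, map_mul, map_inv])
      have h2 := hs k hk
      rw [h1, map_mul, map_mul, map_inv] at h2
      calc κ' k * ((κ' z)⁻¹ * g) = (κ' z)⁻¹ * (κ' z * κ' k * (κ' z)⁻¹) * g := by group
        _ = (κ' z)⁻¹ * (g * κ' k * g⁻¹) * g := by rw [h2]
        _ = (κ' z)⁻¹ * g * κ' k := by group
    obtain ⟨k, hk⟩ := hOle hO
    have hgk : g = κ' (z * k) := by rw [map_mul, hk, mul_inv_cancel_left]
    subst hgk
    refine ⟨_, hUC.2 U' (Fusion.isConj_refl hU'S) ⟨(z * k).2.1,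
      Subgroup.mem_centralizer_iff.mpr fun u hu => ?_⟩, rfl⟩
    have h1 : κ' ⟨u, hU'N hu⟩ * κ' (z * k) = κ' (z * k) * κ' ⟨u, hU'N hu⟩ :=
      hg _ ⟨⟨u, hU'N hu⟩, hu, rfl⟩
    rw [← map_mul, ← map_mul] at h1
    exact congrArg Subtype.val (hinj h1)
  haveI : Finite U' := Fusion.finite_of_le hU'S
  have hp' : IsPGroup p U' := by
    have : IsPGroup p θ.range := hS.of_surjective _ θ.rangeRestrict_surjective
    exact this.to_le (hθ.symm ▸ hU'S)
  obtain ⟨j, hj, -⟩ := Fusion92.exists_embedding h₁ h₂ le_rfl hp' (hT ▸ T.not_dvd_index)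
    (fun g R hUR hR f hf => by
      obtain ⟨g₂, hg₂⟩ := hmapM g R hR hUR (fun x hx => f ⟨x, hx⟩) (fun x hx => hf ⟨x, hx⟩)
      exact ⟨g₂, fun r => hg₂ r r.2⟩)
  exact ⟨W, L, hG, ι, hWN, hWC, h, K, inferInstance, j, hj⟩

end Cfsg.Agent.Fusion92
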