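import Cfsg.Agent.Fusion92.Sparse
import Cfsg.Agent.Fusion92.ZJStrong
import Cfsg.Agent.LocalEven61.ZJFunctor
import Cfsg.Agent.PLocalB.NormalPComplementZJ

set_option autoImplicit false

/-! A criterion for inner systems relative to a strongly closed subgroup. -/

namespace Cfsg.Agent.Fusion92

open Cfsg Cfsg.Agent.Fusion
open Cfsg.FusionSystem (normalizerIn centralizerIn)
open scoped commutatorElement Pointwise

universe u

variable {p : ℕ} [Fact p.Prime]

omit [Fact p.Prime] in
/-- `Z(J(·))` commutes with injective maps. -/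
theorem centerThompsonAOf_map_inj {G Q : Type*} [Group G] [Group Q] (f : G →* Q)
    (hf : Function.Injective f) (P : Subgroup G) :
    (centerThompsonAOf P).map f = centerThompsonAOf (P.map f) := by
  rw [← LocalEven61.map_subtype_zjA, ← LocalEven61.map_subtype_zjA, Subgroup.map_map,
    ← LocalEven61.map_zjA (P.equivMapOfInjective f hf), Subgroup.map_map]
  rfl

/-- A group of characteristic `p` is a `p`-group if the normalizer of `Z(J(D))` lies in the
Sylow subgroup, for a strongly closed `D`. -/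
theorem sylow_eq_top_of_strongly_closed (hp : p ≠ 2) (n : ℕ) :
    ∀ {G : Type u} [Group G] [Finite G], Nat.card G = n → ∀ (P : Sylow p G) (D : Subgroup G),
    D ≤ (P : Subgroup G) →
    (∀ g x : G, x ∈ D → g * x * g⁻¹ ∈ (P : Subgroup G) → g * x * g⁻¹ ∈ D) →
    Subgroup.centralizer ((pCore p G : Subgroup G) : Set G) ≤ pCore p G →
    Subgroup.normalizer (centerThompsonAOf D : Set G) ≤ (P : Subgroup G) →
    (P : Subgroup G) = ⊤ := by
  induction n using Nat.strong_induction_on with
  | _ n ih =>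
  intro G _ _ hn P D hDP hcl hc hN
  by_contra hP
  set O := pCore p G with hOdef
  haveI hOn : O.Normal := inferInstance
  have hOP : O ≤ (P : Subgroup G) := Thompson.pCore_le_sylow P
  have hOp : IsPGroup p O := Thompson.isPGroup_pCore
  have hmax : ∀ M : Subgroup G, (P : Subgroup G) ≤ M → M ≠ ⊤ → M = P := by
    intro M hPM hM
    have hlt : Nat.card M < n := hn ▸ lt_of_le_of_ne (Subgroup.card_le_card_group M)
      fun he => hM (Subgroup.eq_top_of_card_eq M he)
    have hOM : O.subgroupOf M ≤ pCore p M :=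
      Thompson.le_pCore inferInstance (hOp.comap_subtype)
    have h1 := ih _ hlt rfl (P.subtype hPM) (D.subgroupOf M) (Subgroup.comap_mono hDP)
      (fun g x hx hgx => hcl g x hx hgx) (fun x hx => hOM (hc (Subgroup.mem_centralizer_iff.mpr
        fun o ho => congrArg Subtype.val (Subgroup.mem_centralizer_iff.mp hx
          ⟨o, hPM (hOP ho)⟩ (hOM ho))))) ?_
    · refine le_antisymm (fun x hx => ?_) hPM
      exact (h1.ge (Subgroup.mem_top (⟨x, hx⟩ : M)) : _)
    · intro x hx
      refine hN ?_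
      have h2 := Subgroup.le_normalizer_map M.subtype ⟨x, hx, rfl⟩
      rwa [centerThompsonAOf_map_inj _ M.subtype_injective,
        Subgroup.map_subgroupOf_eq_of_le (hDP.trans hPM)] at h2
  have hDO : ¬ D ≤ O := fun hDO => by
    have hDn : D.Normal :=
      ⟨fun x hx g => hcl g x hx (hOP (hOn.conj_mem x (hDO hx) g))⟩
    refine hP (top_le_iff.mp (le_trans ?_ hN))
    rw [← Subgroup.normalizer_eq_top_iff.mpr hDn]
    exact PLocalB.normalizer_le_normalizer_ZJ D
  have hnc : ¬ HasNormalPComplement p G := fun h =>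
    hP (P.3 ((isPGroup_of_complement h hc).to_subgroup ⊤) le_top).symm
  set π := QuotientGroup.mk' O with hπdef
  have hπ : Function.Surjective π := QuotientGroup.mk'_surjective O
  set Pb := P.mapSurjective hπ with hPbdef
  have hPb : (Pb : Subgroup (G ⧸ O)) = (P : Subgroup G).map π := Sylow.coe_mapSurjective _ _
  have hPbb : (Pb : Subgroup (G ⧸ O)) ≠ ⊥ := by
    rw [hPb, Ne, Subgroup.map_eq_bot_iff, QuotientGroup.ker_mk']
    exact fun h => hDO (hDP.trans h)
  have hcore : pCore p (G ⧸ O) = ⊥ := Thompson.pCore_quotient_eq_bot O hOp le_rfl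
  have hcompl : HasNormalPComplement p (G ⧸ O) := by
    refine PLocalB.hasNormalPComplement_of_ZJ hp Pb ?_
    set N := Subgroup.normalizer (centerThompsonAOf (Pb : Subgroup (G ⧸ O)) : Set (G ⧸ O))
      with hNdef
    have hPN : (P : Subgroup G) ≤ N.comap π := fun x hx =>
      Subgroup.le_normalizer.trans (PLocalB.normalizer_le_normalizer_ZJ _)
        (hPb ▸ Subgroup.mem_map_of_mem π hx)
    by_cases htop : N.comap π = ⊤
    · exfalso
      refine PLocalB.centerThompsonAOf_ne_bot Pb.2 hPbb (le_bot_iff.mp (hcore ▸ ?_))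
      refine Thompson.le_pCore (Subgroup.normalizer_eq_top_iff.mp ?_)
        (Pb.2.to_le (PLocalB.centerThompsonAOf_le _))
      rw [← hNdef, ← Subgroup.map_comap_eq_self_of_surjective hπ N, htop,
        Subgroup.map_top_of_surjective π hπ]
    · refine hasNormalPComplement_of_le_sylow (P := Pb) ?_
      rw [hPb, ← Subgroup.map_comap_eq_self_of_surjective hπ N, hmax _ hPN htop]
  set K₀ := pResidual p (G ⧸ O) with hK₀def
  haveI hK₀n : K₀.Normal := Transfer.pResidual_normal
  have hK₀p : (Nat.card K₀).Coprime p := Nat.coprime_comm.mp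
    ((Fact.out : p.Prime).coprime_iff_not_dvd.mpr
      (Transfer.hasNormalPComplement_iff_not_dvd.mp hcompl))
  have hdis : ∀ x ∈ (Pb : Subgroup (G ⧸ O)), x ∈ K₀ → x = 1 := fun x hx hxK =>
    Transfer.eq_one_of_coprime_of_mem Pb.2 hx ((Transfer.mem_pResidual_iff_coprime hcompl).mp hxK)
  have hK₀b : K₀ ≠ ⊥ := fun hb => by
    have h1 := Transfer.sylow_sup_pResidual_eq_top Pb
    rw [← hK₀def, hb, sup_bot_eq] at h1
    have h2 : (Pb : Subgroup (G ⧸ O)) ≤ pCore p (G ⧸ O) :=
      Thompson.le_pCore (h1 ▸ inferInstance) Pb.2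
    exact hPbb (le_bot_iff.mp (hcore ▸ h2))
  -- invariant subgroups of the complement
  have hinv : ∀ X : Subgroup (G ⧸ O), X ≤ K₀ →
      (Pb : Subgroup (G ⧸ O)) ≤ Subgroup.normalizer (X : Set (G ⧸ O)) → X = ⊥ ∨ X = K₀ := by
    intro X hXK hXN
    refine or_iff_not_imp_left.mpr fun hXb => le_antisymm hXK fun k hk => ?_
    have htop : (Pb : Subgroup (G ⧸ O)) ⊔ X = ⊤ := by
      by_contra hne
      have h1 := hmax (((Pb : Subgroup (G ⧸ O)) ⊔ X).comap π)
        (fun x hx => Subgroup.mem_sup_left (hPb ▸ Subgroup.mem_map_of_mem π hx))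
        (fun h => hne (by rw [← Subgroup.map_comap_eq_self_of_surjective hπ (_ ⊔ _), h,
          Subgroup.map_top_of_surjective π hπ]))
      refine hXb ((Subgroup.eq_bot_iff_forall _).mpr fun x hx => hdis x ?_ (hXK hx))
      obtain ⟨g, rfl⟩ := hπ x
      rw [hPb]
      exact Subgroup.mem_map_of_mem π (h1.le (Subgroup.mem_sup_right (S := (Pb : Subgroup (G ⧸ O))) hx :
        g ∈ ((Pb : Subgroup (G ⧸ O)) ⊔ X).comap π))
    have hmem : k ∈ ((Pb : Subgroup (G ⧸ O)) : Set (G ⧸ O)) * (X : Set (G ⧸ O)) := by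
      rw [← Subgroup.coe_mul_of_left_le_normalizer_right _ X hXN, htop]
      exact Subgroup.mem_top k
    obtain ⟨s, hs, x, hx, rfl⟩ := Set.mem_mul.mp hmem
    rw [hdis s hs (by simpa using K₀.mul_mem hk (K₀.inv_mem (hXK hx))), one_mul]
    exact hx
  have hcomm : IsMulCommutative K₀ := by
    obtain ⟨q, hq, hqd⟩ := Nat.exists_prime_and_dvd
      (fun h => hK₀b (K₀.eq_bot_of_card_eq h) : Nat.card K₀ ≠ 1)
    haveI : Fact q.Prime := ⟨hq⟩
    have hcop : (Nat.card (Pb : Subgroup (G ⧸ O))).Coprime (Nat.card K₀) := by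
      obtain ⟨a, ha⟩ := IsPGroup.iff_card.mp Pb.2
      rw [ha]
      exact (Nat.coprime_comm.mp hK₀p).pow_left a
    obtain ⟨R, hR⟩ := Coprime.exists_invariant_sylow (Pb : Subgroup (G ⧸ O)) K₀
      (by rw [Subgroup.normalizer_eq_top_iff.mpr hK₀n]; exact le_top) hcop
      (Or.inl (Coprime.isSolvable_of_isNilpotent' Pb.2.isNilpotent)) q
    have hRK : (R : Subgroup K₀).map K₀.subtype = K₀ := by
      refine (hinv _ (Subgroup.map_subtype_le _) hR).resolve_left fun hb => ?_
      rw [Subgroup.map_eq_bot_iff_of_injective _ K₀.subtype_injective] at hb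
      have := R.dvd_card_of_dvd_card hqd
      rw [hb, Subgroup.card_bot] at this
      exact hq.one_lt.ne' (Nat.dvd_one.mp this)
    have hKq : IsPGroup q K₀ := (R.2.map K₀.subtype).to_le hRK.ge
    rcases hinv ⁅K₀, K₀⁆ (Subgroup.commutator_le_self K₀)
      (le_trans le_top (Subgroup.normalizer_eq_top_iff.mpr inferInstance).ge) with h | h
    · exact Subgroup.le_centralizer_iff_isMulCommutative.mp
        ((Subgroup.commutator_eq_bot_iff_le_centralizer).mp h)
    · exact absurd (Coprime.eq_bot_of_le_commutator K₀ hKq.isNilpotent le_rfl h.ge) hK₀b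
  set K := K₀.comap π with hKdef
  have hOK : O ≤ K := fun x hx => by
    show π x ∈ K₀
    rw [show π x = 1 from (QuotientGroup.eq_one_iff x).mpr hx]
    exact one_mem _
  have hKmap : K.map π = K₀ := Subgroup.map_comap_eq_self_of_surjective hπ K₀
  have hred : PComplement.IsReduced p (P : Subgroup G) O K := by
    refine ⟨hnc, rfl, fun hb => hDO ?_, hOP, hc, inferInstance, hOK, fun hle => hK₀b ?_,
      fun x hx y hy => ?_, ?_, ?_, hmax⟩
    · have h2 : Subgroup.centralizer (O : Set G) = ⊤ := top_le_iff.mp fun x _ =>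
        Subgroup.mem_centralizer_iff.mpr fun o ho => by
          rw [Subgroup.mem_bot.mp (hb.le ho)]; simp
      exact le_trans le_top (h2 ▸ hc)
    · rw [← hKmap, Subgroup.map_eq_bot_iff, QuotientGroup.ker_mk']
      exact hle
    · refine (QuotientGroup.eq_one_iff _).mp ?_
      show π ⁅x, y⁆ = 1
      rw [map_commutatorElement, commutatorElement_eq_one_iff_mul_comm]
      exact congrArg Subtype.val (hcomm.is_comm.comm (⟨π x, hx⟩ : K₀) ⟨π y, hy⟩)
    · rw [Thompson.relIndex_eq_card_map_mk', hKmap]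
      exact hK₀p
    · refine Subgroup.comap_injective hπ |> fun _ => top_le_iff.mp fun x _ => ?_
      have h1 : π x ∈ (Pb : Subgroup (G ⧸ O)) ⊔ K₀ := by
        rw [hK₀def, Transfer.sylow_sup_pResidual_eq_top]
        trivial
      rw [hPb, ← hKmap, ← Subgroup.map_sup] at h1
      obtain ⟨y, hy, hyx⟩ := h1
      have h2 : y⁻¹ * x ∈ O := QuotientGroup.eq.mp hyx
      simpa using mul_mem hy (Subgroup.mem_sup_right (S := (P : Subgroup G)) (hOK h2))
  have hZn : (centerThompsonAOf D).Normal := by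
    rw [PLocalB.centerThompsonAOf_eq_core]
    exact core_normal_of_stronglyClosed (PLocalB.abelianFamily G) hp hc
      (fun B _ hB => PLocalB.isPStableOn_of_isReduced hp hred B hB) P hDP hcl
  exact hP (top_le_iff.mp ((Subgroup.normalizer_eq_top_iff.mpr hZn).ge.trans hN))

/-- If the maps stabilizing `Z(J(D))` are inner for a strongly closed `D`, all maps are inner. -/
theorem inner_of_strongly_closed (hp : p ≠ 2) (n : ℕ) :
    ∀ {Ω : Type u} [Group Ω] {S : Subgroup Ω} [Finite S], IsPGroup p S →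
    ∀ F : Cfsg.FusionSystem S, F.IsSaturated p → (mapGraphs F).ncard = n →
    ∀ D : Subgroup Ω, F.StronglyClosed D →
    (∀ P f, IsMap F P f → ExtendsStab F (centerThompsonAOf D) P f →
      ∃ g ∈ S, ∀ x ∈ P, f x = g * x * g⁻¹) →
    ∀ P : Subgroup Ω, F.Hom P = (Cfsg.innerFusionSystem S).Hom P := by
  induction n using Nat.strong_induction_on with
  | _ n ih =>
  intro Ω _ S _ hS F hF hn D hD hant
  by_contra hne
  have hsp : ∀ E : Cfsg.FusionSystem S, E.IsSaturated p → E.IsSubsystemOf F →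
      (∀ P : Subgroup Ω, E.Hom P = F.Hom P) ∨
        (∀ P : Subgroup Ω, E.Hom P = (Cfsg.innerFusionSystem S).Hom P) := by
    intro E hE hEF
    refine or_iff_not_imp_left.mpr fun hne' => ?_
    have hle : ∀ P f, IsMap E P f → IsMap F P f := fun P f ⟨φ, hφ, h⟩ => ⟨φ, hEF P hφ, h⟩
    refine ih _ ?_ hS E hE rfl D ⟨hD.1, fun R hR φ hφ => hD.2 R hR φ (hEF R hφ)⟩
      fun P f hf hext => ?_
    · refine hn ▸ ncard_mapGraphs_lt hle ?_
      by_contra hall
      push Not at hall
      exact hne' fun P => Set.Subset.antisymm (hEF P) fun φ hφ =>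
        (hall P _ (isMap_extFun hφ)).mem_hom fun x => (extFun_coe φ x).symm
    · obtain ⟨f', hf', he, hY⟩ := hext
      exact hant P f (hle P f hf) ⟨f', hle _ _ hf', he, hY⟩
  obtain ⟨-, U, hUn, hUC⟩ := isConstrained_of_sparse hS hF hne hsp (Or.inl hp)
  have hUS := hUC.1
  have hN : normalizerIn S U = S := inf_eq_left.mpr (isNormal_normalizer hUn)
  obtain ⟨L, hL, hLf, ι, h⟩ := exists_isLocal hS hF hUC (isNormal_fullyNormalized hUn)
  haveI : Finite (normalizerIn S U) := Fusion.finite_of_le (Fusion.normalizerIn_le S U)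
  have hloc : LocalCond p F ⊥ ι := by
    refine ⟨h, hUC, isNormal_fullyNormalized hUn, bot_le, ?_, fun g _ => ?_⟩
    · rw [Subgroup.bot_subgroupOf, Subgroup.map_bot]; infer_instance
    · rw [Subgroup.bot_subgroupOf, Subgroup.map_bot]
      exact Subgroup.mem_centralizer_iff.mpr fun x hx => by
        rw [Subgroup.mem_bot.mp hx]; simp
  set Z := centerThompsonAOf D with hZdef
  have hZD : Z ≤ D := inf_le_left.trans (Subgroup.map_subtype_le _)
  have hDT : D ≤ normalizerIn S U := hN.symm ▸ hD.1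
  have hZT : Z ≤ normalizerIn S U := hZD.trans hDT
  set Dh := (D.subgroupOf (normalizerIn S U)).map ι with hDh
  have hZh : centerThompsonAOf Dh = (Z.subgroupOf (normalizerIn S U)).map ι := by
    rw [hDh, ← centerThompsonAOf_map_inj _ h.shape.inj]
    congr 1
    refine Subgroup.map_injective (normalizerIn S U).subtype_injective ?_
    rw [centerThompsonAOf_map_inj _ (normalizerIn S U).subtype_injective,
      Subgroup.map_subgroupOf_eq_of_le hDT, Subgroup.map_subgroupOf_eq_of_le hZT]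
  obtain ⟨P₀, hP₀⟩ := h.sylow
  have hcl : ∀ g x : L, x ∈ Dh → g * x * g⁻¹ ∈ (P₀ : Subgroup L) → g * x * g⁻¹ ∈ Dh := by
    rintro g _ ⟨a, ha, rfl⟩ hgx
    rw [hP₀] at hgx
    have hR : U ⊔ Subgroup.zpowers (a : Ω) ≤ normalizerIn S U :=
      sup_le h.shape.le (Subgroup.zpowers_le.mpr a.2)
    have hrange : ∀ (y : Ω) (hy : y ∈ U ⊔ Subgroup.zpowers (a : Ω)),
        g * ι ⟨y, hR hy⟩ * g⁻¹ ∈ ι.range := by
      intro y hy
      have : (U ⊔ Subgroup.zpowers (a : Ω)).subgroupOf (normalizerIn S U) ≤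
          (ι.range.comap (MulAut.conj g).toMonoidHom).comap ι := by
        rw [Subgroup.subgroupOf_sup h.shape.le (Subgroup.zpowers_le.mpr a.2)]
        refine sup_le (fun z hz => ?_) fun z hz => ?_
        · obtain ⟨v, -, hv⟩ := h.shape.exists_conj g z hz
          exact ⟨v, hv.symm⟩
        · obtain ⟨m, hm⟩ := Subgroup.mem_zpowers_iff.mp (Subgroup.mem_subgroupOf.mp hz)
          rw [show z = a ^ m from Subtype.ext (by rw [Subgroup.coe_zpow, hm]), Subgroup.mem_comap,
            map_zpow, Subgroup.mem_comap, map_zpow]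
          exact zpow_mem hgx m
      exact this (x := ⟨y, hR hy⟩) hy
    obtain ⟨f, hf, -, hfe⟩ := h.exists_map g le_sup_left hR hrange
    obtain ⟨hfa, he⟩ := hfe a (Subgroup.mem_sup_right (Subgroup.mem_zpowers _))
    refine ⟨⟨f a, hfa⟩, ?_, he⟩
    obtain ⟨φ, hφ, hφf⟩ := hf.mono (le_sup_right : Subgroup.zpowers (a : Ω) ≤ _)
    have := hD.2 _ (Subgroup.zpowers_le.mpr ha) φ hφ ⟨a, Subgroup.mem_zpowers _⟩
    exact (congrArg (· ∈ D) (hφf ⟨a, Subgroup.mem_zpowers _⟩)).mp this
  have hYr : ι.range ≤ Subgroup.normalizer (((Z.subgroupOf (normalizerIn S U)).map ι :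
      Subgroup L) : Set L) := by
    rw [← hZh]
    refine le_trans (fun s hs => ?_) (PLocalB.normalizer_le_normalizer_ZJ Dh)
    refine Subgroup.mem_normalizer_iff.mpr fun y => ⟨fun hy => hcl s y hy ?_, fun hy => ?_⟩
    · rw [hP₀]
      exact mul_mem (mul_mem hs (Subgroup.map_le_range ι _ hy)) (inv_mem hs)
    · have h2 := hcl s⁻¹ _ hy (by
        rw [hP₀]
        exact mul_mem (mul_mem (inv_mem hs) (Subgroup.map_le_range ι _ hy)) (inv_mem (inv_mem hs)))
      simpa [mul_assoc] using h2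
  have hNZ := hloc.normalizer_le_range hS le_rfl hYr fun g hg R hR hUR f hf hfU he => by
    obtain ⟨f', hf', hee, hfY⟩ := h.exists_extend hR hUR hf hfU he hZT hg
    exact isMap_inner_iff.mpr ⟨hf.dom_le, hant R f hf ⟨f', hf', hee, hfY⟩⟩
  have htop := sylow_eq_top_of_strongly_closed hp (Nat.card L) rfl P₀ Dh
    (hP₀ ▸ Subgroup.map_le_range ι _) hcl (h.centralizer_pCore_le hS) (by rw [hZh, hP₀]; exact hNZ)
  apply hne
  intro P
  ext φ
  constructor
  · intro hφ
    obtain ⟨f', hf', he, hfU⟩ := (Fusion.isNormal_iff.mp hUn).2 P _ (isMap_extFun hφ)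
    have hsub : P ⊔ U ≤ normalizerIn S U := hN.symm ▸ hf'.dom_le
    obtain ⟨g, hg⟩ := h.exists_conj le_sup_right hsub hf' hfU
    obtain ⟨a, rfl⟩ : g ∈ ι.range := hP₀ ▸ (htop.ge (Subgroup.mem_top g))
    have hP : P ≤ S := (F.le_of_mem hφ).1
    refine ⟨hP, a, a.2.1, fun x => ?_⟩
    have hx : (x : Ω) ∈ P ⊔ U := Subgroup.mem_sup_left x.2
    have h1 := hg x hx (hN.symm ▸ hf'.apply_mem hx)
    rw [← map_inv, ← map_mul, ← map_mul] at h1
    rw [← extFun_coe φ x, ← he x.2]
    exact congrArg Subtype.val (h.shape.inj h1)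
  · rintro ⟨hP, g, hg, hφ⟩
    exact (isMap_conj (F := F) hP hg).mem_hom fun x => hφ x

end Cfsg.Agent.Fusion92
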