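import Cfsg.Agent.Fusion92.AxiomaticFamily
import Cfsg.Agent.Fusion92.StrongInner

set_option autoImplicit false

/-! A criterion for inner systems from an axiomatic family of abelian subgroups. -/

namespace Cfsg.Agent.Fusion92

open Cfsg Cfsg.Agent.Fusion
open Cfsg.FusionSystem (normalizerIn centralizerIn)
open scoped commutatorElement Pointwise

universe u

variable {p : ℕ} [Fact p.Prime]

/-- A maximal non-normal Sylow subgroup in a group of characteristic `p` gives a reduced group. -/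
theorem exists_isReduced_of_maximal (hp : p ≠ 2) {G : Type u} [Group G] [Finite G] (P : Sylow p G)
    (hc : Subgroup.centralizer ((pCore p G : Subgroup G) : Set G) ≤ pCore p G)
    (hP : (P : Subgroup G) ≠ ⊤) (hPn : ¬ (P : Subgroup G).Normal)
    (hmax : ∀ M : Subgroup G, (P : Subgroup G) ≤ M → M ≠ ⊤ → M = P) :
    ∃ K, PComplement.IsReduced p (P : Subgroup G) (pCore p G) K := by
  set O := pCore p G with hOdef
  haveI hOn : O.Normal := inferInstance
  have hOP : O ≤ (P : Subgroup G) := Thompson.pCore_le_sylow P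
  have hOp : IsPGroup p O := Thompson.isPGroup_pCore
  have hnc : ¬ HasNormalPComplement p G := fun h =>
    hP (P.3 ((isPGroup_of_complement h hc).to_subgroup ⊤) le_top).symm
  set π := QuotientGroup.mk' O with hπdef
  have hπ : Function.Surjective π := QuotientGroup.mk'_surjective O
  set Pb := P.mapSurjective hπ with hPbdef
  have hPb : (Pb : Subgroup (G ⧸ O)) = (P : Subgroup G).map π := Sylow.coe_mapSurjective _ _
  have hPbb : (Pb : Subgroup (G ⧸ O)) ≠ ⊥ := by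
    rw [hPb, Ne, Subgroup.map_eq_bot_iff, QuotientGroup.ker_mk']
    exact fun h => hPn (le_antisymm hOP h ▸ hOn)
  have hcore : pCore p (G ⧸ O) = ⊥ := Thompson.pCore_quotient_eq_bot O hOp le_rfl
  have hcompl : HasNormalPComplement p (G ⧸ O) := by
    refine PLocalB.hasNormalPComplement_of_ZJ hp Pb ?_
    set N := Subgroup.normalizer (centerThompsonAOf (Pb : Subgroup (G ⧸ O)) : Set (G ⧸ O))
      with hNdef
    have hPN : (P : Subgroup G) ≤ N.comap π := fun x hx =>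
      Subgroup.le_normalizer.trans (PLocalB.normalizer_le_normalizer_ZJ _)
        (hPb ▸ Subgroup.mem_map_of_mem π hx)
    by_cases htop : N.comap π = ⊤
    · exfalso
      refine PLocalB.centerThompsonAOf_ne_bot Pb.2 hPbb (le_bot_iff.mp (hcore ▸ ?_))
      refine Thompson.le_pCore (Subgroup.normalizer_eq_top_iff.mp ?_)
        (Pb.2.to_le (PLocalB.centerThompsonAOf_le _))
      rw [← hNdef, ← Subgroup.map_comap_eq_self_of_surjective hπ N, htop,
        Subgroup.map_top_of_surjective π hπ]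
    · refine hasNormalPComplement_of_le_sylow (P := Pb) ?_
      rw [hPb, ← Subgroup.map_comap_eq_self_of_surjective hπ N, hmax _ hPN htop]
  set K₀ := pResidual p (G ⧸ O) with hK₀def
  haveI hK₀n : K₀.Normal := Transfer.pResidual_normal
  have hK₀p : (Nat.card K₀).Coprime p := Nat.coprime_comm.mp
    ((Fact.out : p.Prime).coprime_iff_not_dvd.mpr
      (Transfer.hasNormalPComplement_iff_not_dvd.mp hcompl))
  have hdis : ∀ x ∈ (Pb : Subgroup (G ⧸ O)), x ∈ K₀ → x = 1 := fun x hx hxK =>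
    Transfer.eq_one_of_coprime_of_mem Pb.2 hx ((Transfer.mem_pResidual_iff_coprime hcompl).mp hxK)
  have hK₀b : K₀ ≠ ⊥ := fun hb => by
    have h1 := Transfer.sylow_sup_pResidual_eq_top Pb
    rw [← hK₀def, hb, sup_bot_eq] at h1
    have h2 : (Pb : Subgroup (G ⧸ O)) ≤ pCore p (G ⧸ O) :=
      Thompson.le_pCore (h1 ▸ inferInstance) Pb.2
    exact hPbb (le_bot_iff.mp (hcore ▸ h2))
  -- invariant subgroups of the complement
  have hinv : ∀ X : Subgroup (G ⧸ O), X ≤ K₀ →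
      (Pb : Subgroup (G ⧸ O)) ≤ Subgroup.normalizer (X : Set (G ⧸ O)) → X = ⊥ ∨ X = K₀ := by
    intro X hXK hXN
    refine or_iff_not_imp_left.mpr fun hXb => le_antisymm hXK fun k hk => ?_
    have htop : (Pb : Subgroup (G ⧸ O)) ⊔ X = ⊤ := by
      by_contra hne
      have h1 := hmax (((Pb : Subgroup (G ⧸ O)) ⊔ X).comap π)
        (fun x hx => Subgroup.mem_sup_left (hPb ▸ Subgroup.mem_map_of_mem π hx))
        (fun h => hne (by rw [← Subgroup.map_comap_eq_self_of_surjective hπ (_ ⊔ _), h,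
          Subgroup.map_top_of_surjective π hπ]))
      refine hXb ((Subgroup.eq_bot_iff_forall _).mpr fun x hx => hdis x ?_ (hXK hx))
      obtain ⟨g, rfl⟩ := hπ x
      rw [hPb]
      exact Subgroup.mem_map_of_mem π (h1.le (Subgroup.mem_sup_right (S := (Pb : Subgroup (G ⧸ O))) hx :
        g ∈ ((Pb : Subgroup (G ⧸ O)) ⊔ X).comap π))
    have hmem : k ∈ ((Pb : Subgroup (G ⧸ O)) : Set (G ⧸ O)) * (X : Set (G ⧸ O)) := by
      rw [← Subgroup.coe_mul_of_left_le_normalizer_right _ X hXN, htop]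
      exact Subgroup.mem_top k
    obtain ⟨s, hs, x, hx, rfl⟩ := Set.mem_mul.mp hmem
    rw [hdis s hs (by simpa using K₀.mul_mem hk (K₀.inv_mem (hXK hx))), one_mul]
    exact hx
  have hcomm : IsMulCommutative K₀ := by
    obtain ⟨q, hq, hqd⟩ := Nat.exists_prime_and_dvd
      (fun h => hK₀b (K₀.eq_bot_of_card_eq h) : Nat.card K₀ ≠ 1)
    haveI : Fact q.Prime := ⟨hq⟩
    have hcop : (Nat.card (Pb : Subgroup (G ⧸ O))).Coprime (Nat.card K₀) := by
      obtain ⟨a, ha⟩ := IsPGroup.iff_card.mp Pb.2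
      rw [ha]
      exact (Nat.coprime_comm.mp hK₀p).pow_left a
    obtain ⟨R, hR⟩ := Coprime.exists_invariant_sylow (Pb : Subgroup (G ⧸ O)) K₀
      (by rw [Subgroup.normalizer_eq_top_iff.mpr hK₀n]; exact le_top) hcop
      (Or.inl (Coprime.isSolvable_of_isNilpotent' Pb.2.isNilpotent)) q
    have hRK : (R : Subgroup K₀).map K₀.subtype = K₀ := by
      refine (hinv _ (Subgroup.map_subtype_le _) hR).resolve_left fun hb => ?_
      rw [Subgroup.map_eq_bot_iff_of_injective _ K₀.subtype_injective] at hb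
      have := R.dvd_card_of_dvd_card hqd
      rw [hb, Subgroup.card_bot] at this
      exact hq.one_lt.ne' (Nat.dvd_one.mp this)
    have hKq : IsPGroup q K₀ := (R.2.map K₀.subtype).to_le hRK.ge
    rcases hinv ⁅K₀, K₀⁆ (Subgroup.commutator_le_self K₀)
      (le_trans le_top (Subgroup.normalizer_eq_top_iff.mpr inferInstance).ge) with h | h
    · exact Subgroup.le_centralizer_iff_isMulCommutative.mp
        ((Subgroup.commutator_eq_bot_iff_le_centralizer).mp h)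
    · exact absurd (Coprime.eq_bot_of_le_commutator K₀ hKq.isNilpotent le_rfl h.ge) hK₀b
  set K := K₀.comap π with hKdef
  have hOK : O ≤ K := fun x hx => by
    show π x ∈ K₀
    rw [show π x = 1 from (QuotientGroup.eq_one_iff x).mpr hx]
    exact one_mem _
  have hKmap : K.map π = K₀ := Subgroup.map_comap_eq_self_of_surjective hπ K₀
  refine ⟨K, hnc, rfl, fun hb => hPn (Subgroup.normalizer_eq_top_iff.mp (top_le_iff.mp ?_)), hOP, hc, inferInstance, hOK, fun hle => hK₀b ?_,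
    fun x hx y hy => ?_, ?_, ?_, hmax⟩
  · have h2 : Subgroup.centralizer (O : Set G) = ⊤ := top_le_iff.mp fun x _ =>
      Subgroup.mem_centralizer_iff.mpr fun o ho => by
        rw [Subgroup.mem_bot.mp (hb.le ho)]; simp
    have h3 : (O : Subgroup G) = ⊤ := top_le_iff.mp (h2 ▸ hc)
    exact absurd (top_le_iff.mp (h3 ▸ hOP)) hP
  · rw [← hKmap, Subgroup.map_eq_bot_iff, QuotientGroup.ker_mk']
    exact hle
  · refine (QuotientGroup.eq_one_iff _).mp ?_
    show π ⁅x, y⁆ = 1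
    rw [map_commutatorElement, commutatorElement_eq_one_iff_mul_comm]
    exact congrArg Subtype.val (hcomm.is_comm.comm (⟨π x, hx⟩ : K₀) ⟨π y, hy⟩)
  · rw [Thompson.relIndex_eq_card_map_mk', hKmap]
    exact hK₀p
  · refine Subgroup.comap_injective hπ |> fun _ => top_le_iff.mp fun x _ => ?_
    have h1 : π x ∈ (Pb : Subgroup (G ⧸ O)) ⊔ K₀ := by
      rw [hK₀def, Transfer.sylow_sup_pResidual_eq_top]
      trivial
    rw [hPb, ← hKmap, ← Subgroup.map_sup] at h1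
    obtain ⟨y, hy, hyx⟩ := h1
    have h2 : y⁻¹ * x ∈ O := QuotientGroup.eq.mp hyx
    simpa using mul_mem hy (Subgroup.mem_sup_right (S := (P : Subgroup G)) (hOK h2))

omit [Fact p.Prime] in
theorem mem_famCore {G : Type*} [Group G] {𝒜 : Set (Subgroup G)} {H : Subgroup G} {x : G} :
    x ∈ famCore 𝒜 H ↔ ∀ A ∈ 𝒜, A ≤ H → x ∈ A := by
  simp [famCore, Subgroup.mem_iInf]

omit [Fact p.Prime] in
theorem famCore_map {G Q : Type*} [Group G] [Group Q] (f : G →* Q) (hf : Function.Injective f)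
    {𝒜 : Set (Subgroup G)} {H : Subgroup G} (hne : ∃ A ∈ 𝒜, A ≤ H) :
    (famCore 𝒜 H).map f = famCore (Subgroup.map f '' 𝒜) (H.map f) := by
  obtain ⟨A₀, hA₀, hA₀H⟩ := hne
  ext y
  rw [mem_famCore]
  constructor
  · rintro ⟨x, hx, rfl⟩ _ ⟨A, hA, rfl⟩ hle
    exact ⟨x, mem_famCore.mp hx A hA ((Subgroup.map_le_map_iff_of_injective hf).mp hle), rfl⟩
  · intro h
    obtain ⟨x, hx, rfl⟩ := h _ ⟨A₀, hA₀, rfl⟩ (Subgroup.map_mono hA₀H)
    refine ⟨x, mem_famCore.mpr fun A hA hle => ?_, rfl⟩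
    obtain ⟨x', hx', he⟩ := h _ ⟨A, hA, rfl⟩ (Subgroup.map_mono hle)
    exact hf he ▸ hx'

omit [Fact p.Prime] in
theorem famCore_comap {G Q : Type*} [Group G] [Group Q] (f : G →* Q)
    {𝒜 : Set (Subgroup Q)} {H : Subgroup Q} (hr : ∀ A ∈ 𝒜, A ≤ f.range) :
    famCore (Subgroup.comap f '' 𝒜) (H.comap f) = (famCore 𝒜 H).comap f := by
  ext x
  rw [Subgroup.mem_comap, mem_famCore, mem_famCore]
  constructor
  · exact fun h A hA hle => h _ ⟨A, hA, rfl⟩ (Subgroup.comap_mono hle)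
  · rintro h _ ⟨A, hA, rfl⟩ hle
    refine h A hA fun y hy => ?_
    obtain ⟨x', rfl⟩ := hr A hA hy
    exact hle hy

/-- A group of characteristic `p` is a `p`-group if the normalizer of the intersection of an
axiomatic family lies in the Sylow subgroup. -/
theorem sylow_eq_top_of_family (hp : p ≠ 2) (n : ℕ) :
    ∀ {G : Type u} [Group G] [Finite G], Nat.card G = n → ∀ (P : Sylow p G)
    (𝒜 : Set (Subgroup G)), (∀ A ∈ 𝒜, A ≤ (P : Subgroup G) ∧ IsMulCommutative A) → 𝒜.Nonempty →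
    (∀ H : Subgroup G, pCore p G ≤ H → H ≤ (P : Subgroup G) → (∃ A ∈ 𝒜, A ≤ H) →
      ∀ g ∈ Subgroup.normalizer (H : Set G), ∀ x ∈ famCore 𝒜 H, g * x * g⁻¹ ∈ famCore 𝒜 H) →
    (∀ B : Subgroup G, B ≤ (P : Subgroup G) → ⁅⁅B, B⁆, B⁆ = ⊥ →
      (∃ A ∈ 𝒜, ⁅B, B⁆ ≤ A ∧ ¬ B ≤ A) →
      ∃ A ∈ 𝒜, ⁅B, B⁆ ≤ A ∧ ¬ B ≤ A ∧ B ≤ Subgroup.normalizer (A : Set G)) →
    Subgroup.centralizer ((pCore p G : Subgroup G) : Set G) ≤ pCore p G →
    Subgroup.normalizer (famCore 𝒜 (P : Subgroup G) : Set G) ≤ (P : Subgroup G) →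
    (P : Subgroup G) = ⊤ := by
  induction n using Nat.strong_induction_on with
  | _ n ih =>
  intro G _ _ hn P 𝒜 h𝒜 hne hinv hrep hc hN
  by_contra hP
  set O := pCore p G with hOdef
  have hOp : IsPGroup p O := Thompson.isPGroup_pCore
  have hOP : O ≤ (P : Subgroup G) := Thompson.pCore_le_sylow P
  obtain ⟨A₀, hA₀⟩ := id hne
  have hmax : ∀ M : Subgroup G, (P : Subgroup G) ≤ M → M ≠ ⊤ → M = P := by
    intro M hPM hM
    have hlt : Nat.card M < n := hn ▸ lt_of_le_of_ne (Subgroup.card_le_card_group M)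
      fun he => hM (Subgroup.eq_top_of_card_eq M he)
    have hOM : O.subgroupOf M ≤ pCore p M :=
      Thompson.le_pCore inferInstance (hOp.comap_subtype)
    have hr : ∀ A ∈ 𝒜, A ≤ M.subtype.range := fun A hA => by
      rw [Subgroup.range_subtype]; exact (h𝒜 A hA).1.trans hPM
    have hsm : ∀ A ∈ 𝒜, (A.comap M.subtype).map M.subtype = A := fun A hA =>
      Subgroup.map_comap_eq_self (hr A hA)
    have h1 := ih _ hlt rfl (P.subtype hPM) (Subgroup.comap M.subtype '' 𝒜) ?_ (hne.image _) ?_ ?_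
      (fun x hx => hOM (hc (Subgroup.mem_centralizer_iff.mpr
        fun o ho => congrArg Subtype.val (Subgroup.mem_centralizer_iff.mp hx
          ⟨o, hPM (hOP ho)⟩ (hOM ho))))) ?_
    · refine le_antisymm (fun x hx => ?_) hPM
      exact (h1.ge (Subgroup.mem_top (⟨x, hx⟩ : M)) : _)
    · rintro _ ⟨A, hA, rfl⟩
      refine ⟨Subgroup.comap_mono (h𝒜 A hA).1, ?_⟩
      haveI := (h𝒜 A hA).2
      exact ⟨⟨fun a b => Subtype.ext (Subtype.ext (congrArg Subtype.val
        ((inferInstance : IsMulCommutative A).is_comm.comm (⟨_, a.2⟩ : A) ⟨_, b.2⟩) :))⟩⟩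
    · intro H hH hHP hex g hg x hx
      have hH' : (H.map M.subtype).comap M.subtype = H :=
        Subgroup.comap_map_eq_self_of_injective M.subtype_injective H
      rw [← hH', famCore_comap _ hr] at hx ⊢
      refine hinv (H.map M.subtype) ?_ ?_ ?_ g (Subgroup.le_normalizer_map _ ⟨g, hg, rfl⟩) x hx
      · intro o ho
        exact ⟨⟨o, hPM (hOP ho)⟩, hH (hOM ho), rfl⟩
      · rintro _ ⟨y, hy, rfl⟩
        exact hHP hy
      · obtain ⟨_, ⟨A, hA, rfl⟩, hle⟩ := hex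
        exact ⟨A, hA, (hsm A hA).ge.trans (Subgroup.map_mono hle)⟩
    · intro B hB hBB hex
      obtain ⟨_, ⟨A, hA, rfl⟩, hle, hnle⟩ := hex
      have hc' : ⁅B.map M.subtype, B.map M.subtype⁆ = ⁅B, B⁆.map M.subtype :=
        (Subgroup.map_commutator B B M.subtype).symm
      have hBP : B.map M.subtype ≤ (P : Subgroup G) := by
        rintro _ ⟨y, hy, rfl⟩
        exact hB hy
      have hBB' : ⁅⁅B.map M.subtype, B.map M.subtype⁆, B.map M.subtype⁆ = ⊥ := by
        rw [hc', ← Subgroup.map_commutator, hBB, Subgroup.map_bot]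
      have hle' : ⁅B.map M.subtype, B.map M.subtype⁆ ≤ A := by
        rw [hc', Subgroup.map_le_iff_le_comap]; exact hle
      obtain ⟨A', hA', h1, h2, h3⟩ := hrep (B.map M.subtype) hBP hBB'
        ⟨A, hA, hle', fun h => hnle (Subgroup.map_le_iff_le_comap.mp h)⟩
      refine ⟨_, ⟨A', hA', rfl⟩, ?_, fun h => h2 ((Subgroup.map_mono h).trans (hsm A' hA').le),
        fun b hb => ?_⟩
      · rw [← Subgroup.map_le_iff_le_comap, ← hc']; exact h1
      · exact Subgroup.le_normalizer_comap M.subtype (h3 ⟨b, hb, rfl⟩)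
    · intro x hx
      refine hN ?_
      rw [show ((P.subtype hPM : Sylow p M) : Subgroup M) = (P : Subgroup G).comap M.subtype from rfl,
        famCore_comap _ hr] at hx
      have h2 := Subgroup.le_normalizer_map M.subtype ⟨x, hx, rfl⟩
      rwa [Subgroup.map_comap_eq_self ((famCore_le hA₀ (h𝒜 A₀ hA₀).1).trans (hr A₀ hA₀))] at h2
  by_cases hPn : (P : Subgroup G).Normal
  · refine hP (top_le_iff.mp (fun g _ => hN ?_))
    have key : ∀ g : G, ∀ x ∈ famCore 𝒜 (P : Subgroup G), g * x * g⁻¹ ∈ famCore 𝒜 P :=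
      fun g => hinv _ hOP le_rfl ⟨A₀, hA₀, (h𝒜 A₀ hA₀).1⟩ g
        (by rw [Subgroup.normalizer_eq_top_iff.mpr hPn]; trivial)
    refine Subgroup.mem_normalizer_iff.mpr fun x => ⟨key g x, fun hx => ?_⟩
    simpa [mul_assoc] using key g⁻¹ _ hx
  obtain ⟨K, hred⟩ := exists_isReduced_of_maximal hp P hc hP hPn hmax
  have hZn := famCore_normal hc (fun B _ hB => PLocalB.isPStableOn_of_isReduced hp hred B hB) P h𝒜
    hne hinv hrep
  exact hP (top_le_iff.mp ((Subgroup.normalizer_eq_top_iff.mpr hZn).ge.trans hN))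

/-- If the maps stabilizing the intersection of an axiomatic family are inner, all maps are inner. -/
theorem inner_of_family (hp : p ≠ 2) (n : ℕ) :
    ∀ {Ω : Type u} [Group Ω] {S : Subgroup Ω} [Finite S], IsPGroup p S →
    ∀ F : Cfsg.FusionSystem S, F.IsSaturated p → (mapGraphs F).ncard = n →
    ∀ 𝒜 : Set (Subgroup Ω), (∀ A ∈ 𝒜, A ≤ S ∧ IsMulCommutative A) → 𝒜.Nonempty →
    (∀ Q : Subgroup Ω, Q ≤ S → (∃ A ∈ 𝒜, A ≤ Q) → ∀ α ∈ F.autGroup Q, ∀ x : ↥Q,
      (x : Ω) ∈ famCore 𝒜 Q → (((α : MulAut ↥Q) x : ↥Q) : Ω) ∈ famCore 𝒜 Q) →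
    (∀ B : Subgroup Ω, B ≤ S → ⁅⁅B, B⁆, B⁆ = ⊥ → (∃ A ∈ 𝒜, ⁅B, B⁆ ≤ A ∧ ¬ B ≤ A) →
      ∃ A ∈ 𝒜, ⁅B, B⁆ ≤ A ∧ ¬ B ≤ A ∧ B ≤ Subgroup.normalizer (A : Set Ω)) →
    (∀ P f, IsMap F P f → ExtendsStab F (famCore 𝒜 S) P f →
      ∃ g ∈ S, ∀ x ∈ P, f x = g * x * g⁻¹) →
    ∀ P : Subgroup Ω, F.Hom P = (Cfsg.innerFusionSystem S).Hom P := by
  induction n using Nat.strong_induction_on with
  | _ n ih =>
  intro Ω _ S _ hS F hF hn 𝒜 h𝒜 hne𝒜 hinv hrep hant
  by_contra hne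
  have hsp : ∀ E : Cfsg.FusionSystem S, E.IsSaturated p → E.IsSubsystemOf F →
      (∀ P : Subgroup Ω, E.Hom P = F.Hom P) ∨
        (∀ P : Subgroup Ω, E.Hom P = (Cfsg.innerFusionSystem S).Hom P) := by
    intro E hE hEF
    refine or_iff_not_imp_left.mpr fun hne' => ?_
    have hle : ∀ P f, IsMap E P f → IsMap F P f := fun P f ⟨φ, hφ, h⟩ => ⟨φ, hEF P hφ, h⟩
    refine ih _ ?_ hS E hE rfl 𝒜 h𝒜 hne𝒜
      (fun Q hQ hex α hα => hinv Q hQ hex α (autGroup_mono (hEF Q) hα)) hrep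
      fun P f hf hext => ?_
    · refine hn ▸ ncard_mapGraphs_lt hle ?_
      by_contra hall
      push Not at hall
      exact hne' fun P => Set.Subset.antisymm (hEF P) fun φ hφ =>
        (hall P _ (isMap_extFun hφ)).mem_hom fun x => (extFun_coe φ x).symm
    · obtain ⟨f', hf', he, hY⟩ := hext
      exact hant P f (hle P f hf) ⟨f', hle _ _ hf', he, hY⟩
  obtain ⟨-, U, hUn, hUC⟩ := isConstrained_of_sparse hS hF hne hsp (Or.inl hp)
  have hUS := hUC.1
  have hN : normalizerIn S U = S := inf_eq_left.mpr (isNormal_normalizer hUn)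
  obtain ⟨L, hL, hLf, ι, h⟩ := exists_isLocal hS hF hUC (isNormal_fullyNormalized hUn)
  haveI : Finite (normalizerIn S U) := Fusion.finite_of_le (Fusion.normalizerIn_le S U)
  have hloc : LocalCond p F ⊥ ι := by
    refine ⟨h, hUC, isNormal_fullyNormalized hUn, bot_le, ?_, fun g _ => ?_⟩
    · rw [Subgroup.bot_subgroupOf, Subgroup.map_bot]; infer_instance
    · rw [Subgroup.bot_subgroupOf, Subgroup.map_bot]
      exact Subgroup.mem_centralizer_iff.mpr fun x hx => by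
        rw [Subgroup.mem_bot.mp hx]; simp
  obtain ⟨A₀, hA₀⟩ := id hne𝒜
  set Z := famCore 𝒜 S with hZdef
  have hT : ∀ A ∈ 𝒜, A ≤ normalizerIn S U := fun A hA => hN.symm ▸ (h𝒜 A hA).1
  have hT' : ∀ A ∈ 𝒜, A ≤ (normalizerIn S U).subtype.range := fun A hA => by
    rw [Subgroup.range_subtype]; exact hT A hA
  have hZT : Z ≤ normalizerIn S U := (famCore_le hA₀ (h𝒜 A₀ hA₀).1).trans (hT A₀ hA₀)
  obtain ⟨P₀, hP₀⟩ := h.sylow
  set 𝒜' : Set (Subgroup ↥(normalizerIn S U)) := Subgroup.comap (normalizerIn S U).subtype '' 𝒜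
  set 𝒜L : Set (Subgroup L) := Subgroup.map ι '' 𝒜' with h𝒜L
  have hcore : ∀ R : Subgroup Ω, R ≤ normalizerIn S U → (∃ A ∈ 𝒜, A ≤ R) →
      famCore 𝒜L ((R.subgroupOf (normalizerIn S U)).map ι) =
        ((famCore 𝒜 R).subgroupOf (normalizerIn S U)).map ι := by
    intro R hR ⟨A, hA, hAR⟩
    rw [h𝒜L, ← famCore_map (𝒜 := 𝒜') (H := R.subgroupOf (normalizerIn S U)) _ h.shape.inj
      ⟨_, ⟨A, hA, rfl⟩, Subgroup.comap_mono hAR⟩]
    exact congrArg (Subgroup.map ι) (famCore_comap _ hT')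
  have hrange : ((normalizerIn S U).subgroupOf (normalizerIn S U)).map ι = ι.range := by
    rw [Subgroup.subgroupOf_self, ← MonoidHom.range_eq_map]
  have hZh : famCore 𝒜L ι.range = (Z.subgroupOf (normalizerIn S U)).map ι := by
    rw [← hrange, hcore _ le_rfl ⟨A₀, hA₀, hT A₀ hA₀⟩,
      show famCore 𝒜 (normalizerIn S U) = Z from congrArg (famCore 𝒜) hN]
  have h𝒜L' : ∀ A ∈ 𝒜L, A ≤ (P₀ : Subgroup L) ∧ IsMulCommutative A := by
    rintro _ ⟨_, ⟨A, hA, rfl⟩, rfl⟩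
    refine ⟨hP₀ ▸ Subgroup.map_le_range ι _, ⟨⟨?_⟩⟩⟩
    rintro ⟨_, a, ha, rfl⟩ ⟨_, b, hb, rfl⟩
    refine Subtype.ext ?_
    show ι a * ι b = ι b * ι a
    rw [← map_mul, ← map_mul]
    haveI := (h𝒜 A hA).2
    exact congrArg ι (Subtype.ext (congrArg Subtype.val
      ((inferInstance : IsMulCommutative A).is_comm.comm (⟨_, ha⟩ : A) ⟨_, hb⟩) :))
  have hUO : (U.subgroupOf (normalizerIn S U)).map ι ≤ pCore p L := h.map_le_pCore hS
  have hinvL : ∀ H : Subgroup L, pCore p L ≤ H → H ≤ (P₀ : Subgroup L) → (∃ A ∈ 𝒜L, A ≤ H) →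
      ∀ g ∈ Subgroup.normalizer (H : Set L), ∀ x ∈ famCore 𝒜L H,
        g * x * g⁻¹ ∈ famCore 𝒜L H := by
    intro H hOH hHP hex g hg
    set R := (H.comap ι).map (normalizerIn S U).subtype with hRdef
    have hRT : R ≤ normalizerIn S U := Subgroup.map_subtype_le _
    have hRH : (R.subgroupOf (normalizerIn S U)).map ι = H := by
      rw [show R.subgroupOf (normalizerIn S U) = H.comap ι from
        Subgroup.comap_map_eq_self_of_injective (Subgroup.subtype_injective _) _,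
        Subgroup.map_comap_eq_self (hP₀ ▸ hHP)]
    have hUR : U ≤ R := fun v hv =>
      ⟨⟨v, h.shape.le hv⟩, hOH (hUO ⟨⟨v, h.shape.le hv⟩, hv, rfl⟩), rfl⟩
    have hexR : ∃ A ∈ 𝒜, A ≤ R := by
      obtain ⟨_, ⟨_, ⟨A, hA, rfl⟩, rfl⟩, hle⟩ := hex
      exact ⟨A, hA, fun a ha => ⟨⟨a, hT A hA ha⟩, hle ⟨_, ha, rfl⟩, rfl⟩⟩
    have hin : ∀ (y : Ω) (hy : y ∈ R), ι ⟨y, hRT hy⟩ ∈ H := fun y hy => by
      rw [← hRH]; exact ⟨⟨y, hRT hy⟩, hy, rfl⟩
    have hgR : ∀ (y : Ω) (hy : y ∈ R), g * ι ⟨y, hRT hy⟩ * g⁻¹ ∈ ι.range := fun y hy =>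
      hP₀ ▸ hHP ((Subgroup.mem_normalizer_iff.mp hg _).mp (hin y hy))
    obtain ⟨f, hf, -, hfe⟩ := h.exists_map g hUR hRT hgR
    have hfR : ∀ y ∈ R, f y ∈ R := fun y hy => by
      obtain ⟨hfy, he⟩ := hfe y hy
      have h1 : ι ⟨f y, hfy⟩ ∈ H := he ▸ (Subgroup.mem_normalizer_iff.mp hg _).mp (hin y hy)
      exact ⟨⟨f y, hfy⟩, h1, rfl⟩
    have hiso : IsIso F R R f := ⟨hf, Set.Subset.antisymm (fun z ⟨y, hy, he⟩ => he ▸ hfR y hy)
      (surjOn_of_card_le (hRT.trans (Fusion.normalizerIn_le S U)) hf.injOn hfR le_rfl)⟩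
    obtain ⟨α, hα, hαe⟩ := hiso.exists_aut
    rw [← hRH, hcore R hRT hexR]
    rintro _ ⟨a, ha, rfl⟩
    have haR : (a : Ω) ∈ R := by
      obtain ⟨A, hA, hAR⟩ := hexR
      exact hAR (famCore_le hA hAR ha)
    obtain ⟨hfa, he⟩ := hfe a haR
    refine ⟨⟨f a, hfa⟩, ?_, he⟩
    have h2 := hinv R (hRT.trans (Fusion.normalizerIn_le S U)) hexR α hα ⟨a, haR⟩ ha
    rw [← autFun_of_mem α haR, hαe haR] at h2
    exact h2
  have hrepL : ∀ B : Subgroup L, B ≤ (P₀ : Subgroup L) → ⁅⁅B, B⁆, B⁆ = ⊥ →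
      (∃ A ∈ 𝒜L, ⁅B, B⁆ ≤ A ∧ ¬ B ≤ A) →
      ∃ A ∈ 𝒜L, ⁅B, B⁆ ≤ A ∧ ¬ B ≤ A ∧ B ≤ Subgroup.normalizer (A : Set L) := by
    intro B hB hBB hex
    obtain ⟨_, ⟨_, ⟨A, hA, rfl⟩, rfl⟩, hle, hnle⟩ := hex
    set B' := B.comap ι
    have hB' : B'.map ι = B := Subgroup.map_comap_eq_self (hP₀ ▸ hB)
    have hcB : ⁅⁅B', B'⁆, B'⁆ = ⊥ := by
      refine Subgroup.map_injective h.shape.inj ?_
      rw [Subgroup.map_commutator, Subgroup.map_commutator, hB', Subgroup.map_bot, hBB]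
    set BΩ := B'.map (normalizerIn S U).subtype
    obtain ⟨A', hA', h1, h2, h3⟩ := hrep BΩ
      ((Subgroup.map_subtype_le _).trans (Fusion.normalizerIn_le S U))
      (by rw [← Subgroup.map_commutator, ← Subgroup.map_commutator, hcB, Subgroup.map_bot])
      ⟨A, hA, by
        rw [← Subgroup.map_commutator, Subgroup.map_le_iff_le_comap,
          ← Subgroup.map_le_map_iff_of_injective h.shape.inj, Subgroup.map_commutator, hB']
        exact hle, fun hBA => hnle (by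
        rw [← hB']; exact Subgroup.map_mono (Subgroup.map_le_iff_le_comap.mp hBA))⟩
    refine ⟨_, ⟨_, ⟨A', hA', rfl⟩, rfl⟩, ?_, fun hBA => h2 ?_, ?_⟩
    · rw [← hB', ← Subgroup.map_commutator]
      refine Subgroup.map_mono ?_
      rw [← Subgroup.map_le_iff_le_comap, Subgroup.map_commutator]
      exact h1
    · rw [Subgroup.map_le_iff_le_comap, ← Subgroup.map_le_map_iff_of_injective h.shape.inj, hB']
      exact hBA
    · rw [← hB']
      refine le_trans (Subgroup.map_mono ?_) (Subgroup.le_normalizer_map ι)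
      exact (Subgroup.map_le_iff_le_comap.mp h3).trans (Subgroup.le_normalizer_comap _)
  have hYr : ι.range ≤ Subgroup.normalizer (((Z.subgroupOf (normalizerIn S U)).map ι :
      Subgroup L) : Set L) := by
    rw [← hZh]
    intro s hs
    have key : ∀ t ∈ ι.range, ∀ x ∈ famCore 𝒜L ι.range, t * x * t⁻¹ ∈ famCore 𝒜L ι.range :=
      fun t ht => hinvL ι.range (hP₀ ▸ Thompson.pCore_le_sylow P₀) hP₀.ge
        ⟨_, ⟨_, ⟨A₀, hA₀, rfl⟩, rfl⟩, Subgroup.map_le_range ι _⟩ t (Subgroup.le_normalizer ht)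
    refine Subgroup.mem_normalizer_iff.mpr fun y => ⟨key s hs y, fun hy => ?_⟩
    simpa [mul_assoc] using key _ (ι.range.inv_mem hs) _ hy
  have hNZ := hloc.normalizer_le_range hS le_rfl hYr fun g hg R hR hUR f hf hfU he => by
    obtain ⟨f', hf', hee, hfY⟩ := h.exists_extend hR hUR hf hfU he hZT hg
    exact isMap_inner_iff.mpr ⟨hf.dom_le, hant R f hf ⟨f', hf', hee, hfY⟩⟩
  have htop := sylow_eq_top_of_family hp (Nat.card L) rfl P₀ 𝒜L h𝒜L'
    ((hne𝒜.image _).image _) hinvL hrepL (h.centralizer_pCore_le hS)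
    (by rw [hP₀, hZh]; exact hNZ)
  apply hne
  intro P
  ext φ
  constructor
  · intro hφ
    obtain ⟨f', hf', he, hfU⟩ := (Fusion.isNormal_iff.mp hUn).2 P _ (isMap_extFun hφ)
    have hsub : P ⊔ U ≤ normalizerIn S U := hN.symm ▸ hf'.dom_le
    obtain ⟨g, hg⟩ := h.exists_conj le_sup_right hsub hf' hfU
    obtain ⟨a, rfl⟩ : g ∈ ι.range := hP₀ ▸ (htop.ge (Subgroup.mem_top g))
    have hP : P ≤ S := (F.le_of_mem hφ).1
    refine ⟨hP, a, a.2.1, fun x => ?_⟩
    have hx : (x : Ω) ∈ P ⊔ U := Subgroup.mem_sup_left x.2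
    have h1 := hg x hx (hN.symm ▸ hf'.apply_mem hx)
    rw [← map_inv, ← map_mul, ← map_mul] at h1
    rw [← extFun_coe φ x, ← he x.2]
    exact congrArg Subtype.val (h.shape.inj h1)
  · rintro ⟨hP, g, hg, hφ⟩
    exact (isMap_conj (F := F) hP hg).mem_hom fun x => hφ x


end Cfsg.Agent.Fusion92
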