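import Cfsg.Agent.Fusion92.LocalQuotient
import Cfsg.Agent.Lib.Transfer.Focal
import Cfsg.Agent.CharDeep.Ext.LinExt

set_option autoImplicit false

/-! Focal subgroups in a local model. -/

namespace Cfsg.Agent.Fusion92

open Cfsg Cfsg.Agent.Fusion
open Cfsg.FusionSystem (normalizerIn centralizerIn)
open scoped commutatorElement

universe u

section Group

variable {G : Type u} [Group G] [Finite G] {p : ℕ} [Fact p.Prime]

/-- Focal subgroup theorem inside a subgroup containing the Sylow subgroup. -/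
theorem sylow_inf_commutator_le (P : Sylow p G) {H M : Subgroup G} (hPH : (P : Subgroup G) ≤ H)
    (h : ∀ x ∈ (P : Subgroup G), ∀ u ∈ H, u * x * u⁻¹ ∈ (P : Subgroup G) →
      x⁻¹ * (u * x * u⁻¹) ∈ M) :
    (P : Subgroup G) ⊓ ⁅H, H⁆ ≤ M := by
  intro z hz
  obtain ⟨y, hy, rfl⟩ : z ∈ (commutator H).map H.subtype := by
    rw [Subgroup.map_subtype_commutator]; exact hz.2
  have hyP : y ∈ ((P.subtype hPH : Sylow p H) : Subgroup H) := hz.1
  have h1 : y ∈ ((P.subtype hPH : Sylow p H) : Subgroup H).focalSubgroup := by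
    rw [← Subgroup.commutator_inf_eq_focalSubgroup]; exact ⟨hy, hyP⟩
  have h2 : ((P.subtype hPH : Sylow p H) : Subgroup H).focalSubgroup ≤ M.comap H.subtype := by
    rw [Subgroup.focalSubgroup_def, Subgroup.closure_le]
    rintro _ ⟨hg, x, hx, u, rfl⟩
    have hg' : ((⁅x, u⁆ : H) : G) ∈ (P : Subgroup G) := hg
    have hx' : (x : G) ∈ (P : Subgroup G) := hx
    have hu : (u : G) * (x : G)⁻¹ * (u : G)⁻¹ ∈ (P : Subgroup G) := by
      have := mul_mem (inv_mem hx') hg'
      rw [commutatorElement_def] at this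
      simpa [mul_assoc] using this
    have h3 := h _ (inv_mem hx') u u.2 hu
    show ((⁅x, u⁆ : H) : G) ∈ M
    rw [commutatorElement_def]
    simpa [mul_assoc] using h3
  exact h2 h1

/-- Transfer into the Sylow subgroup at an element whose conjugates are those under it. -/
theorem mem_commutator_of_transfer (P : Sylow p G) {b : G} (hb : b ∈ commutator G)
    (hmem : ∀ x : G, x⁻¹ * b * x ∈ (P : Subgroup G))
    (hinv : ∀ x : G, x⁻¹ * b * x * b⁻¹ ∈ ⁅(P : Subgroup G), (P : Subgroup G)⁆) :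
    b ∈ ⁅(P : Subgroup G), (P : Subgroup G)⁆ := by
  have hbP : b ∈ (P : Subgroup G) := by simpa using hmem 1
  rw [← Subgroup.map_subtype_commutator]
  refine ⟨⟨b, hbP⟩, ?_, rfl⟩
  set ν : ↥(P : Subgroup G) →* Abelianization ↥(P : Subgroup G) := Abelianization.of
  have hν : ∀ x : G, ν ⟨x⁻¹ * b * x, hmem x⟩ = ν ⟨b, hbP⟩ := fun x => by
    rw [← mul_inv_eq_one, ← map_inv, ← map_mul]
    refine (QuotientGroup.eq_one_iff _).mpr ?_
    obtain ⟨y, hy, hye⟩ := (Subgroup.map_subtype_commutator (P : Subgroup G)).ge (hinv x)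
    have : (⟨x⁻¹ * b * x, hmem x⟩ * ⟨b, hbP⟩⁻¹ : ↥(P : Subgroup G)) = y := Subtype.ext hye.symm
    rw [this]
    exact hy
  have h1 := CharDeep.Ext.transfer_eq_pow_of_conj ν b hmem hν
  have h2 : MonoidHom.transfer ν b = 1 := Abelianization.commutator_subset_ker _ hb
  rw [h2] at h1
  obtain ⟨k, hk⟩ := P.2 ⟨b, hbP⟩
  have hco : Nat.Coprime (p ^ k) (P : Subgroup G).index :=
    (((Fact.out : p.Prime).coprime_iff_not_dvd.mpr P.not_dvd_index)).pow_left k
  have h3 : ν ⟨b, hbP⟩ = 1 := by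
    refine orderOf_eq_one_iff.mp (Nat.eq_one_of_dvd_coprimes hco ?_ (orderOf_dvd_of_pow_eq_one h1.symm))
    refine orderOf_dvd_of_pow_eq_one ?_
    rw [← map_pow, hk, map_one]
  exact (QuotientGroup.eq_one_iff _).mp h3

end Group

variable {Ω : Type u} [Group Ω] {S T : Subgroup Ω} {D : Cfsg.FusionSystem T} {p : ℕ} [Fact p.Prime]
  {Q₀ U : Subgroup Ω} {L : Type u} [Group L] {ι : ↥(normalizerIn T U) →* L}

/-- The `p`-core of the local model meets the derived group inside `M`. -/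
theorem LocalCond.pCore_inf_commutator_le [Finite T] (h : LocalCond p D Q₀ ι) (hT : IsPGroup p T)
    {W : ∀ (Q : Type u) [Group Q], Subgroup Q} (hW : IsInvariantW p W)
    (hC : ∀ (G : Type u) [Group G] [Finite G] (P : Sylow p G),
      Subgroup.centralizer ((pCore p G : Subgroup G) : Set G) ≤ pCore p G →
      pCore p G ⊓ commutator G = pCore p G ⊓ (commutator ↥(Subgroup.normalizer
        (((W ↥(P : Subgroup G)).map (P : Subgroup G).subtype : Subgroup G) : Set G))).map
        (Subgroup.normalizer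
          (((W ↥(P : Subgroup G)).map (P : Subgroup G).subtype : Subgroup G) : Set G)).subtype)
    {M : Subgroup L} (hPP : ⁅ι.range, ι.range⁆ ≤ M)
    (hN : ι.range ⊓ ⁅Subgroup.normalizer ((secW W ι.range
        ((Q₀.subgroupOf (normalizerIn T U)).map ι) : Subgroup L) : Set L),
      Subgroup.normalizer ((secW W ι.range
        ((Q₀.subgroupOf (normalizerIn T U)).map ι) : Subgroup L) : Set L)⁆ ≤ M) :
    pCore p L ⊓ commutator L ≤ M := by
  have := h.isLocal.fin
  haveI := h.normal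
  set B := (Q₀.subgroupOf (normalizerIn T U)).map ι with hBdef
  set π := QuotientGroup.mk' B with hπdef
  have hπ : Function.Surjective π := QuotientGroup.mk'_surjective B
  obtain ⟨P, hP, hPY⟩ := h.exists_sylow (W := W) hW
  obtain ⟨P₀, hP₀⟩ := h.isLocal.sylow
  have hO : pCore p L ≤ ι.range := hP₀ ▸ Thompson.pCore_le_sylow P₀
  have hBP : B ≤ ι.range := Subgroup.map_le_range ι _
  rintro x ⟨hxO, hxL⟩
  have hx : π x ∈ pCore p (L ⧸ B) ⊓ commutator (L ⧸ B) := by
    refine ⟨Thompson.map_pCore_le_of_surjective π hπ ⟨x, hxO, rfl⟩, ?_⟩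
    rw [commutator_def, ← Subgroup.map_top_of_surjective π hπ, ← Subgroup.map_commutator,
      ← commutator_def]
    exact ⟨x, hxL, rfl⟩
  rw [hC _ P (h.centralizer_le hT), Subgroup.map_subtype_commutator] at hx
  set NY := Subgroup.normalizer ((secW W ι.range B : Subgroup L) : Set L) with hNY
  have hNb : Subgroup.normalizer (((W ↥(P : Subgroup (L ⧸ B))).map (P : Subgroup (L ⧸ B)).subtype :
      Subgroup _) : Set (L ⧸ B)) = NY.map π := by
    rw [← hPY]
    ext y
    obtain ⟨g, rfl⟩ := hπ y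
    rw [h.mem_normalizer_secW_iff]
    refine ⟨fun hg => ⟨g, hg, rfl⟩, fun ⟨k, hk, he⟩ => ?_⟩
    have hk' := (h.mem_normalizer_secW_iff (W := W)).mpr hk
    rw [he] at hk'
    exact h.mem_normalizer_secW_iff.mp hk'
  rw [hNb, ← Subgroup.map_commutator] at hx
  obtain ⟨n, hn, hne⟩ := hx.2
  have hb : n⁻¹ * x ∈ B := (QuotientGroup.eq).mp hne
  have hnL : n ∈ commutator L := by
    rw [commutator_def]
    exact Subgroup.commutator_mono (le_top : NY ≤ ⊤) le_top hn
  have hnP : n ∈ ι.range := by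
    have := mul_mem (hO hxO) (inv_mem (hBP hb))
    simpa using this
  have hbM : n⁻¹ * x ∈ M := by
    refine hPP ?_
    rw [← hP₀]
    refine mem_commutator_of_transfer P₀ (mul_mem (inv_mem hnL) hxL)
      (fun g => ?_) fun g => ?_
    · rw [hP₀]
      refine hBP ?_
      simpa using (inferInstance : B.Normal).conj_mem _ hb g⁻¹
    · obtain ⟨r, hr, s, hs, rfl⟩ := Subgroup.mem_sup_of_normal_left.mp
        (show g ∈ pResidual p L ⊔ (P₀ : Subgroup L) by
          rw [sup_comm, Transfer.sylow_sup_pResidual_eq_top]; trivial)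
      have hrB : r ∈ Subgroup.centralizer (B : Set L) :=
        (Subgroup.closure_le _).mpr (fun k hk => h.central k hk) hr
      have e : (r * s)⁻¹ * (n⁻¹ * x) * (r * s) * (n⁻¹ * x)⁻¹ = ⁅s⁻¹, n⁻¹ * x⁆ := by
        calc (r * s)⁻¹ * (n⁻¹ * x) * (r * s) * (n⁻¹ * x)⁻¹
            = s⁻¹ * r⁻¹ * ((n⁻¹ * x) * r) * s * (n⁻¹ * x)⁻¹ := by group
          _ = s⁻¹ * r⁻¹ * (r * (n⁻¹ * x)) * s * (n⁻¹ * x)⁻¹ := by
              rw [Subgroup.mem_centralizer_iff.mp hrB _ hb]
          _ = ⁅s⁻¹, n⁻¹ * x⁆ := by group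
      rw [e]
      exact Subgroup.commutator_mem_commutator (inv_mem hs) (hP₀ ▸ hBP hb)
  simpa using mul_mem (hN ⟨hnP, hn⟩) hbM

end Cfsg.Agent.Fusion92
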