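import Cfsg.Agent.Fusion92.FocalControl
import Cfsg.Agent.Lib.Fusion.Hyperfocal
import Cfsg.Agent.Lib.Fusion.Group
import Cfsg.Agent.Lib.Fusion.SubSat

set_option autoImplicit false

/-! Control of transfer by the normalizer of `W(S)`. -/

namespace Cfsg.Agent.Fusion92

open Cfsg Cfsg.Agent.Fusion
open Cfsg.FusionSystem (normalizerIn centralizerIn)
open scoped commutatorElement

universe u

variable {Ω : Type u} [Group Ω] {S T : Subgroup Ω} {D : Cfsg.FusionSystem T} {p : ℕ} [Fact p.Prime]
  {U : Subgroup Ω} {L : Type u} [Group L] {ι : ↥(normalizerIn T U) →* L}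

/-- The maps whose differences lie in `K`. -/
noncomputable def diffSystem (F : Cfsg.FusionSystem S) (K : Subgroup Ω) (hK : ⁅S, S⁆ ≤ K) :
    Cfsg.FusionSystem S :=
  mkSub F S (fun P f => IsMap F P f ∧ ∀ x ∈ P, x⁻¹ * f x ∈ K)
    (fun h hfg => ⟨h.1.congr hfg, fun x hx => by rw [← hfg hx]; exact h.2 x hx⟩)
    (fun h => ⟨h.1, h.1.dom_le, fun _ hy => h.1.apply_mem hy⟩)
    (fun {P g} hP hg => ⟨isMap_conj hP hg, fun x hx => by
      have := hK (Subgroup.commutator_mem_commutator (S.inv_mem (hP hx)) hg)
      simpa [commutatorElement_def, mul_assoc] using this⟩)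
    (fun hf hg h => ⟨hf.1.comp hg.1 h, fun x hx => by
      simpa [mul_assoc] using K.mul_mem (hf.2 x hx) (hg.2 _ (h x hx))⟩)
    (fun {P R f g} hf hi hg hgl => ⟨hg.1, fun y hy => by
      obtain ⟨x, hx, rfl⟩ := hi.exists_preimage hy
      rw [hgl x hx]
      simpa using K.inv_mem (hf.2 x hx)⟩)

/-- The image in the local model of a subgroup of the ambient group. -/
abbrev imageIn (ι : ↥(normalizerIn T U) →* L) (K : Subgroup Ω) : Subgroup L :=
  (K.subgroupOf (normalizerIn T U)).map ι

omit [Fact p.Prime] in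
theorem commutator_range_le_imageIn (hT : T ≤ S) {K : Subgroup Ω} (hK : ⁅S, S⁆ ≤ K) :
    ⁅ι.range, ι.range⁆ ≤ imageIn ι K := by
  rw [Subgroup.commutator_le]
  rintro _ ⟨a, rfl⟩ _ ⟨b, rfl⟩
  exact ⟨⁅a, b⁆, hK (Subgroup.commutator_mem_commutator (hT a.2.1) (hT b.2.1)),
    map_commutatorElement _ _ _⟩

omit [Fact p.Prime] in
theorem IsLocal.diff_mem_of_conjIn (h : IsLocal D p U ι) {F : Cfsg.FusionSystem S}
    {K : Subgroup Ω} {hK : ⁅S, S⁆ ≤ K} {g : L} (hg : ConjIn D (diffSystem F K hK) ι g) :
    ∀ x ∈ ι.range, g * x * g⁻¹ ∈ ι.range → x⁻¹ * (g * x * g⁻¹) ∈ imageIn ι K := by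
  rintro _ ⟨a, rfl⟩ ha
  have hR : U ⊔ Subgroup.zpowers (a : Ω) ≤ normalizerIn T U :=
    sup_le h.shape.le (Subgroup.zpowers_le.mpr a.2)
  have hrange : ∀ (y : Ω) (hy : y ∈ U ⊔ Subgroup.zpowers (a : Ω)),
      g * ι ⟨y, hR hy⟩ * g⁻¹ ∈ ι.range := by
    intro y hy
    have : (U ⊔ Subgroup.zpowers (a : Ω)).subgroupOf (normalizerIn T U) ≤
        (ι.range.comap (MulAut.conj g).toMonoidHom).comap ι := by
      rw [Subgroup.subgroupOf_sup h.shape.le (Subgroup.zpowers_le.mpr a.2)]
      refine sup_le (fun z hz => ?_) fun z hz => ?_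
      · obtain ⟨v, -, hv⟩ := h.shape.exists_conj g z hz
        exact ⟨v, hv.symm⟩
      · obtain ⟨n, hn⟩ := Subgroup.mem_zpowers_iff.mp (Subgroup.mem_subgroupOf.mp hz)
        rw [show z = a ^ n from Subtype.ext (by rw [Subgroup.coe_zpow, hn]), Subgroup.mem_comap,
          map_zpow, Subgroup.mem_comap, map_zpow]
        exact zpow_mem ha n
    exact this (x := ⟨y, hR hy⟩) hy
  obtain ⟨f, hf, hfU, hfe⟩ := h.exists_map g le_sup_left hR hrange
  have hfE := hg _ hR le_sup_left f hf hfU fun y hy hfy => by
    obtain ⟨_, he⟩ := hfe y hy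
    exact he
  have haR : (a : Ω) ∈ U ⊔ Subgroup.zpowers (a : Ω) :=
    Subgroup.mem_sup_right (Subgroup.mem_zpowers _)
  obtain ⟨hfa, he⟩ := hfe a haR
  refine ⟨a⁻¹ * ⟨f a, hfa⟩, (isMap_mkSub.mp hfE).2 a haR, ?_⟩
  rw [map_mul, map_inv, he]

omit [Fact p.Prime] in
theorem IsLocal.mem_of_diff_mem (h : IsLocal D p U ι) {K : Subgroup Ω} {g : L} {x y : Ω}
    (hx : x ∈ normalizerIn T U) (hy : y ∈ normalizerIn T U)
    (he : ι ⟨y, hy⟩ = g * ι ⟨x, hx⟩ * g⁻¹)
    (hmem : (ι ⟨x, hx⟩)⁻¹ * (g * ι ⟨x, hx⟩ * g⁻¹) ∈ imageIn ι K) : x⁻¹ * y ∈ K := by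
  obtain ⟨k, hk, hke⟩ := hmem
  rw [← he, ← map_inv, ← map_mul] at hke
  have := congrArg Subtype.val (h.shape.inj hke)
  rw [← show ((⟨x, hx⟩⁻¹ * ⟨y, hy⟩ : ↥(normalizerIn T U)) : Ω) = x⁻¹ * y from rfl, ← this]
  exact hk

omit [Fact p.Prime] in
theorem diff_mem_commutator {G : Type u} [Group G] (g x : G) :
    x⁻¹ * (g * x * g⁻¹) ∈ commutator G := by
  have := Subgroup.commutator_mem_commutator (Subgroup.mem_top x⁻¹) (Subgroup.mem_top g)
  rw [commutator_def]
  simpa [commutatorElement_def, mul_assoc] using this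

/-- The theorem for a group, given it for its fusion system. -/
theorem sylow_inf_commutator_le_of_focal {G : Type u} [Group G] [Finite G] (P : Sylow p G)
    {V : Subgroup G} (hV : V ≤ (P : Subgroup G))
    (hPV : (P : Subgroup G) ≤ Subgroup.normalizer (V : Set G))
    (h : (groupFusionSystem (P : Subgroup G)).focalSubgroup ≤
      (normalizerSystem (groupFusionSystem (P : Subgroup G)) V hV).focalSubgroup) :
    (P : Subgroup G) ⊓ commutator G ≤
      ⁅Subgroup.normalizer (V : Set G), Subgroup.normalizer (V : Set G)⁆ := by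
  rw [commutator_def]
  refine (sylow_inf_commutator_le P le_top fun x hx u _ hu => ?_).trans (h.trans ?_)
  · refine focal_gen_mem (f := fun y => u * y * u⁻¹) (P := Subgroup.zpowers x) ?_
      (Subgroup.mem_zpowers x)
    refine isMap_group_iff.mpr ⟨Subgroup.zpowers_le.mpr hx, fun y hy => ?_, u, fun y _ => rfl⟩
    obtain ⟨n, rfl⟩ := Subgroup.mem_zpowers_iff.mp hy
    rw [← conj_zpow]
    exact zpow_mem hu n
  · refine (Subgroup.closure_le _).mpr ?_
    rintro _ ⟨Q, φ, x, hφ, rfl⟩
    obtain ⟨-, hQ, -, f', hf', he, hfV⟩ :=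
      (IsNormalizerSystem.isMap_iff (isNormalizerSystem_normalizerSystem V hV)).mp (isMap_extFun hφ)
    obtain ⟨-, -, g, hg⟩ := isMap_group_iff.mp hf'
    haveI := Fusion.finite_of_le hV
    have hgV : g ∈ Subgroup.normalizer (V : Set G) := by
      refine Subgroup.mem_normalizer_iff_map_conj_eq.mpr (SetLike.coe_injective ?_)
      rw [Subgroup.coe_map]
      conv_rhs => rw [← hfV]
      exact Set.image_congr fun v hv => (hg v (Subgroup.mem_sup_right hv)).symm
    have hφx : φ x = g * x * g⁻¹ := by
      rw [← extFun_coe φ x, ← he x.2, hg x (Subgroup.mem_sup_left x.2)]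
    have := Subgroup.commutator_mem_commutator
      ((Subgroup.normalizer (V : Set G)).inv_mem (hPV (hQ x.2).1)) hgV
    simpa [commutatorElement_def, mul_assoc, hφx] using this

/-- If `W` controls the derived group on cores in groups of characteristic `p`, the normalizer of
`W(S)` controls the focal subgroup. -/
theorem focal_le_normalizer_focal {W : ∀ (Q : Type u) [Group Q], Subgroup Q}
    (hW1 : ∀ (Q : Type u) [Group Q] [Finite Q], IsPGroup p Q → Nontrivial Q → W Q ≠ ⊥)
    (hW : IsInvariantW p W)
    (hC : ∀ (G : Type u) [Group G] [Finite G] (P : Sylow p G),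
      Subgroup.centralizer ((pCore p G : Subgroup G) : Set G) ≤ pCore p G →
      pCore p G ⊓ commutator G = pCore p G ⊓ (commutator ↥(Subgroup.normalizer
        (((W ↥(P : Subgroup G)).map (P : Subgroup G).subtype : Subgroup G) : Set G))).map
        (Subgroup.normalizer
          (((W ↥(P : Subgroup G)).map (P : Subgroup G).subtype : Subgroup G) : Set G)).subtype)
    (n : ℕ) : ∀ {Ω : Type u} [Group Ω] {S : Subgroup Ω} [Finite S], Nat.card S = n →
      IsPGroup p S → ∀ (F : Cfsg.FusionSystem S), F.IsSaturated p →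
      ∀ (N : Cfsg.FusionSystem (normalizerIn S ((W ↥S).map S.subtype))),
        F.IsNormalizerSystem ((W ↥S).map S.subtype) N → F.focalSubgroup ≤ N.focalSubgroup := by
  induction n using Nat.strong_induction_on with
  | _ n ih =>
  intro Ω _ S _ hn hS F hF N hN
  have hNS : normalizerIn S ((W ↥S).map S.subtype) = S :=
    inf_eq_left.mpr (le_normalizer_map_W hW hS)
  have hK : ⁅S, S⁆ ≤ N.focalSubgroup := by
    have h : ⁅normalizerIn S ((W ↥S).map S.subtype), normalizerIn S ((W ↥S).map S.subtype)⁆ ≤
        N.focalSubgroup := Fusion.commutator_le_focal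
    exact (Subgroup.commutator_mono hNS.ge hNS.ge).trans h
  have core : ∀ {T : Subgroup Ω} {D : Cfsg.FusionSystem T}, T ≤ S →
      ∀ (Q₀ U : Subgroup Ω) (L : Type u) [Group L] (ι : ↥(normalizerIn T U) →* L),
      LocalCond p D Q₀ ι →
      (∀ g ∈ Subgroup.normalizer ((secW W ι.range
        ((Q₀.subgroupOf (normalizerIn T U)).map ι) : Subgroup L) : Set L),
          ConjIn D (diffSystem F N.focalSubgroup hK) ι g) →
      pCore p L ⊓ commutator L ≤ imageIn ι N.focalSubgroup := by
    intro T D hTS Q₀ U L _ ι h hant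
    haveI : Finite T := Fusion.finite_of_le hTS
    have := h.isLocal.fin
    refine h.pCore_inf_commutator_le (hS.to_le hTS) hW hC (commutator_range_le_imageIn hTS hK) ?_
    obtain ⟨P₀, hP₀⟩ := h.isLocal.sylow
    refine le_trans (inf_le_inf_right _ hP₀.ge) (sylow_inf_commutator_le P₀ ?_ fun x hx g hg hgx => ?_)
    · rw [hP₀]
      refine le_normalizer_secW _ _ ?_
      exact normal_W hW _ ((hP₀ ▸ P₀.2 : IsPGroup p ι.range).to_quotient _)
    · exact h.isLocal.diff_mem_of_conjIn (hant g hg) x (hP₀ ▸ hx) (hP₀ ▸ hgx)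
  have hd : ControlData p (diffSystem F N.focalSubgroup hK) W fun T D =>
      T ≤ S ∧ D.IsSaturated p ∧ ∀ P f, IsMap D P f → IsMap F P f :=
    { nontriv := hW1
      invariant := hW
      le := fun h => h.1
      saturated := fun h => h.2.1
      normalizer := fun h V hV => by
        haveI := Fusion.finite_of_le h.1
        exact ⟨(Fusion.normalizerIn_le _ V).trans h.1,
          normalizerSystem_isSaturated (hS.to_le h.1) h.2.1 hV,
          fun P f hf => h.2.2 P f (isMap_le_of_normalizerSystem hf)⟩
      centralType := fun h Q hQ hn => by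
        haveI := Fusion.finite_of_le h.1
        exact ⟨h.1, centralType_isSaturated (hS.to_le h.1) h.2.1 hQ,
          fun P f hf => h.2.2 P f (isMap_centralType.mp hf).1⟩
      loc := fun {T D} hG Q₀ U L _ ι h hant g f hf hfU he => by
        haveI := Fusion.finite_of_le hG.1
        refine isMap_mkSub.mpr ⟨hG.2.2 U f hf, fun x hx => ?_⟩
        have hxN := h.isLocal.shape.le hx
        have hfx : f x ∈ normalizerIn T U := h.isLocal.shape.le (hfU.subset ⟨x, hx, rfl⟩)
        refine h.isLocal.mem_of_diff_mem hxN hfx (he x hxN hx hfx)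
          (core hG.1 Q₀ U L ι h hant ⟨?_, diff_mem_commutator g _⟩)
        have hxO : ι ⟨x, hxN⟩ ∈ pCore p L :=
          h.isLocal.map_le_pCore (hS.to_le hG.1) ⟨⟨x, hxN⟩, hx, rfl⟩
        exact (pCore p L).mul_mem ((pCore p L).inv_mem hxO)
          ((inferInstance : (pCore p L).Normal).conj_mem _ hxO g)
      constrained := fun {T D} hG Q₀ U L _ ι h _ hant hprop g => by
        haveI := Fusion.finite_of_le hG.1
        have hTp := hS.to_le hG.1
        have := h.isLocal.fin
        obtain ⟨P₀, hP₀⟩ := h.isLocal.sylow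
        have hrp : IsPGroup p ι.range := hP₀ ▸ P₀.2
        set O := pCore p L with hOdef
        haveI : O.Normal := hOdef ▸ inferInstance
        have hO : O ≤ ι.range := hP₀ ▸ Thompson.pCore_le_sylow P₀
        have hcore := core hG.1 Q₀ U L ι h hant
        have key : ι.range ⊓ commutator L ≤ imageIn ι N.focalSubgroup := by
          rintro x ⟨hx, hxL⟩
          by_cases hrO : ι.range ≤ O
          · exact hcore ⟨hrO hx, hxL⟩
          set π := QuotientGroup.mk' O with hπdef
          have hπ : Function.Surjective π := QuotientGroup.mk'_surjective O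
          have hP1 : ((P₀.mapSurjective hπ : Sylow p (L ⧸ O)) : Subgroup (L ⧸ O)) =
              ι.range.map π := by rw [Sylow.coe_mapSurjective, hP₀]
          have hlt : Nat.card ↥(P₀.mapSurjective hπ : Subgroup (L ⧸ O)) < n := by
            rw [hP1, ← hn]
            refine lt_of_lt_of_le ?_ ((Nat.card_congr (MonoidHom.ofInjective
              h.isLocal.shape.inj).toEquiv).symm.le.trans (Subgroup.card_le_of_le
                ((Fusion.normalizerIn_le T U).trans hG.1)))
            by_contra! hle
            have hbij := (π.subgroupMap_surjective ι.range).bijective_of_nat_card_le hle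
            refine hrO (le_of_eq_of_le ?_ bot_le)
            have hO1 : O = ⊥ := (Subgroup.eq_bot_iff_forall _).mpr fun o ho => by
              have h2 : (π.subgroupMap ι.range) ⟨o, hO ho⟩ = (π.subgroupMap ι.range) 1 :=
                Subtype.ext (by
                  rw [map_one]
                  exact (QuotientGroup.eq_one_iff o).mpr ho)
              exact congrArg Subtype.val (hbij.1 h2)
            have hU : U = ⊥ := (Subgroup.eq_bot_iff_forall _).mpr fun v hv => by
              have h2 := h.isLocal.map_le_pCore hTp ⟨⟨v, h.isLocal.shape.le hv⟩, hv, rfl⟩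
              rw [← hOdef, hO1, Subgroup.mem_bot] at h2
              exact congrArg Subtype.val (h.isLocal.shape.inj (h2.trans (map_one ι).symm))
            refine (Subgroup.eq_bot_iff_forall _).mpr ?_
            rintro _ ⟨a, rfl⟩
            have h2 : (a : Ω) ∈ U := h.centric.2 U (Fusion.isConj_refl h.centric.1)
              ⟨a.2.1, Subgroup.mem_centralizer_iff.mpr fun v hv => by
                rw [Subgroup.mem_bot.mp (hU ▸ hv : v ∈ (⊥ : Subgroup Ω))]; simp⟩
            rw [show a = 1 from Subtype.ext (Subgroup.mem_bot.mp (hU.le h2)), map_one]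
          set Y := secW W ι.range O with hYdef
          have hOn : (O.subgroupOf ι.range).Normal := inferInstance
          have hOY : O ≤ Y := le_secW hO hOn
          have hYlt : O < Y := lt_secW hW1 hrp hO (fun h => hrO h.ge) hOn
          have hYN : ι.range ≤ Subgroup.normalizer (Y : Set L) :=
            le_normalizer_secW _ _ (normal_W hW _ (hrp.to_quotient _))
          set P₁ := P₀.mapSurjective hπ with hP₁
          have hV : (W ↥(P₁ : Subgroup (L ⧸ O))).map (P₁ : Subgroup (L ⧸ O)).subtype = Y.map π := by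
            rw [hYdef, map_secW_quotient hW _ _ hrp]
            have aux : ∀ X Z : Subgroup (L ⧸ O), X = Z →
                (W ↥X).map X.subtype = (W ↥Z).map Z.subtype := by rintro _ _ rfl; rfl
            exact aux _ _ hP1
          have hNb : Subgroup.normalizer ((Y.map π : Subgroup _) : Set (L ⧸ O)) =
              (Subgroup.normalizer (Y : Set L)).map π := by
            conv_rhs => rw [show Y = (Y.map π).comap π by
              rw [Subgroup.comap_map_eq, QuotientGroup.ker_mk', sup_eq_left.mpr hOY],
              ← Subgroup.comap_normalizer_eq_of_surjective _ hπ,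
              Subgroup.map_comap_eq_self_of_surjective hπ]
          have hsat1 : (groupFusionSystem (P₁ : Subgroup (L ⧸ O))).IsSaturated p :=
            Fusion.groupFusionSystem_isSaturated P₁
          have h1 := ih _ hlt rfl P₁.2 (groupFusionSystem (P₁ : Subgroup (L ⧸ O))) hsat1
            (normalizerSystem _ _ (Subgroup.map_subtype_le _))
            (isNormalizerSystem_normalizerSystem _ (Subgroup.map_subtype_le _))
          have h2 := sylow_inf_commutator_le_of_focal P₁ (Subgroup.map_subtype_le _)
            (le_normalizer_map_W hW P₁.2) h1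
          have hx1 : π x ∈ (P₁ : Subgroup (L ⧸ O)) ⊓ commutator (L ⧸ O) := by
            refine ⟨?_, ?_⟩
            · rw [SetLike.mem_coe, hP1]; exact ⟨x, hx, rfl⟩
            · rw [commutator_def, ← Subgroup.map_top_of_surjective π hπ,
                ← Subgroup.map_commutator, ← commutator_def]
              exact ⟨x, hxL, rfl⟩
          have h3 := h2 hx1
          rw [hV, hNb, ← Subgroup.map_commutator] at h3
          obtain ⟨m, hm, hme⟩ := h3
          have ho : m⁻¹ * x ∈ O := QuotientGroup.eq.mp hme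
          have hmL : m ∈ commutator L := by
            rw [commutator_def]
            exact Subgroup.commutator_mono (le_top : Subgroup.normalizer (Y : Set L) ≤ ⊤) le_top hm
          have hmP : m ∈ (P₀ : Subgroup L) := by
            rw [hP₀]
            simpa using ι.range.mul_mem hx (ι.range.inv_mem (hO ho))
          have hmM : m ∈ imageIn ι N.focalSubgroup := by
            refine sylow_inf_commutator_le P₀ (hP₀ ▸ hYN) (fun y hy k hk hky => ?_) ⟨hmP, hm⟩
            let VΩ := (Y.comap ι).map (normalizerIn T U).subtype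
            have hVim : (VΩ.subgroupOf (normalizerIn T U)).map ι = Y := by
              rw [show VΩ.subgroupOf (normalizerIn T U) = Y.comap ι from
                Subgroup.comap_map_eq_self_of_injective (Subgroup.subtype_injective _) _,
                Subgroup.map_comap_eq, inf_eq_right.mpr (secW_le _ _)]
            have hVn : ¬ ((VΩ.subgroupOf (normalizerIn T U)).map ι).Normal := by
              rw [hVim]
              exact fun hn' => hYlt.not_ge (Thompson.le_pCore hn' (hrp.to_le (secW_le _ _)))
            have hVN : normalizerIn T U ≤ Subgroup.normalizer (VΩ : Set Ω) := fun a ha =>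
              Subgroup.le_normalizer_map _ ⟨⟨a, ha⟩, Subgroup.mem_normalizer_iff.mpr fun b => by
                simpa [Subgroup.mem_comap] using
                  Subgroup.mem_normalizer_iff.mp (hYN ⟨⟨a, ha⟩, rfl⟩) (ι b), rfl⟩
            exact h.isLocal.diff_mem_of_conjIn
              (hprop VΩ (Subgroup.map_subtype_le _) hVN hVn k (hVim.symm ▸ hk)) y (hP₀ ▸ hy)
              (hP₀ ▸ hky)
          simpa using (imageIn ι N.focalSubgroup).mul_mem hmM
            (hcore ⟨ho, (commutator L).mul_mem ((commutator L).inv_mem hmL) hxL⟩)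
        intro R hR hUR f hf hfU he
        refine isMap_mkSub.mpr ⟨hG.2.2 R f hf, fun y hy => ?_⟩
        have hfy : f y ∈ normalizerIn T U :=
          Fusion.map_mem_normalizer hf hUR hfU hy (hR hy).2
        refine h.isLocal.mem_of_diff_mem (hR hy) hfy (he y hy hfy)
          (key ⟨?_, diff_mem_commutator g _⟩)
        rw [← he y hy hfy]
        exact ι.range.mul_mem (ι.range.inv_mem ⟨_, rfl⟩) ⟨_, rfl⟩ }
  have hall := hd.control_top hS ⟨le_rfl, hF, fun _ _ h => h⟩ fun P f hf hext => by
    have hfN : IsMap N P f := (IsNormalizerSystem.isMap_iff hN).mpr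
      ⟨hf, hNS.symm ▸ hf.dom_le, fun y hy => hNS.symm ▸ hf.apply_mem hy, hext⟩
    exact isMap_mkSub.mpr ⟨hf, fun y hy => focal_gen_mem hfN hy⟩
  refine (Subgroup.closure_le _).mpr ?_
  rintro _ ⟨P, φ, x, hφ, rfl⟩
  have := (isMap_mkSub.mp (hall P _ (isMap_extFun hφ))).2 x x.2
  rwa [extFun_coe] at this

end Cfsg.Agent.Fusion92
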