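import Cfsg.Agent.Fusion92.LocalModel
import Cfsg.Agent.Lib.Fusion.Group
import Cfsg.Agent.S2011

set_option autoImplicit false

/-! Local models in the fusion system of a finite group. -/

namespace Cfsg.Agent.Fusion92

open Cfsg Cfsg.Agent.Fusion
open Cfsg.FusionSystem (normalizerIn)

universe u v

variable {G : Type u} [Group G] [Finite G] {p : ℕ} [Fact p.Prime] (S : Sylow p G) {Q : Subgroup G}

theorem eq_one_of_mem_pPrimeCore {H : Type*} [Group H] [Finite H] {x : H} {R : Subgroup H}
    (hR : IsPGroup p R) (h1 : x ∈ R) (h2 : x ∈ pPrimeCore p H) : x = 1 :=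
  Subgroup.mem_bot.mp (Thompson.inf_eq_bot_of_isPGroup_of_coprime hR
    Thompson.card_pPrimeCore_coprime ▸ ⟨h1, h2⟩)

/-- The centralizer of a centric subgroup is the product of its centre and the `p'`-core of the
normalizer. -/
theorem centralizer_le_center_mul_core (hC : (groupFusionSystem (S : Subgroup G)).IsCentric Q)
    {c : ↥(Subgroup.normalizer (Q : Set G))} (hc : (c : G) ∈ Subgroup.centralizer (Q : Set G)) :
    c ∈ Q.subgroupOf (Subgroup.normalizer (Q : Set G)) ⊔
      pPrimeCore p ↥(Subgroup.normalizer (Q : Set G)) := by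
  obtain ⟨-, -, -, -, hsup⟩ := (S2011.result p S Q hC.1).mp hC
  revert c
  set N := Subgroup.normalizer (Q : Set G) with hN
  set C := Subgroup.centralizer (Q : Set G) with hCdef
  intro c hc
  have hCN : C ≤ N := Subgroup.centralizer_le_normalizer _
  have hn : (C.subgroupOf N).Normal := by
    refine ⟨fun x hx n => ?_⟩
    rw [Subgroup.mem_subgroupOf] at hx ⊢
    refine Subgroup.mem_centralizer_iff.mpr fun q hq => ?_
    have hq' : (n : G)⁻¹ * q * n ∈ Q := (Subgroup.mem_normalizer_iff''.mp n.2 q).mp hq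
    have := Subgroup.mem_centralizer_iff.mp hx _ hq'
    simp only [Subgroup.coe_mul, InvMemClass.coe_inv]
    calc q * ((n : G) * x * (n : G)⁻¹) = n * (((n : G)⁻¹ * q * n) * x) * (n : G)⁻¹ := by group
      _ = n * (x * ((n : G)⁻¹ * q * n)) * (n : G)⁻¹ := by rw [this]
      _ = _ := by group
  set O := (pPrimeCore p ↥C).map C.subtype with hO
  have hOeq : O.subgroupOf N =
      (pPrimeCore p ↥(C.subgroupOf N)).map (C.subgroupOf N).subtype := by
    rw [hO, ← Thompson.map_pPrimeCore_equiv (Subgroup.subgroupOfEquivOfLe hCN)]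
    apply Subgroup.map_injective N.subtype_injective
    rw [Subgroup.map_subgroupOf_eq_of_le ((Subgroup.map_subtype_le _).trans hCN), Subgroup.map_map,
      Subgroup.map_map]
    rfl
  have hOK : O.subgroupOf N ≤ pPrimeCore p ↥N := by
    refine Thompson.le_pPrimeCore ?_ ?_
    · rw [hOeq]
      exact Thompson.map_subtype_normal_of_characteristic _ _
    · rw [hOeq, Subgroup.card_map_of_injective (C.subgroupOf N).subtype_injective]
      exact Thompson.card_pPrimeCore_coprime
  have hcC : (c : G) ∈ (Q ⊓ C) ⊔ O := hsup.symm ▸ hc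
  have hle : Q ⊓ C ⊔ O ≤
      (Q.subgroupOf N ⊔ pPrimeCore p ↥N).map N.subtype := by
    rw [Subgroup.map_sup]
    refine sup_le_sup (fun q hq => ⟨⟨q, hCN hq.2⟩, hq.1, rfl⟩) ?_
    intro o ho
    have hoN : o ∈ N := hCN (Subgroup.map_subtype_le _ ho)
    exact ⟨⟨o, hoN⟩, hOK ho, rfl⟩
  obtain ⟨d, hd, hdc⟩ := hle hcC
  exact Subtype.ext hdc ▸ hd

/-- A local model of the fusion system of a group is the normalizer modulo its `p'`-core. -/
theorem group_localModel_equiv (hC : (groupFusionSystem (S : Subgroup G)).IsCentric Q)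
    {L : Type v} [Group L] {ι : ↥(normalizerIn (S : Subgroup G) Q) →* L}
    (h : IsLocal (groupFusionSystem (S : Subgroup G)) p Q ι) :
    Nonempty (L ≃* ↥(Subgroup.normalizer (Q : Set G)) ⧸
      pPrimeCore p ↥(Subgroup.normalizer (Q : Set G))) := by
  classical
  have := h.fin
  set N := Subgroup.normalizer (Q : Set G) with hN
  set K := pPrimeCore p ↥N with hK
  have hQp : IsPGroup p Q := S.2.to_le hC.1
  have hNp : IsPGroup p ↥(normalizerIn (S : Subgroup G) Q) :=
    S.2.to_le (Fusion.normalizerIn_le _ Q)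
  let inc : ↥(normalizerIn (S : Subgroup G) Q) →* ↥N := Subgroup.inclusion inf_le_right
  let ι' : ↥(normalizerIn (S : Subgroup G) Q) →* ↥N ⧸ K := (QuotientGroup.mk' K).comp inc
  have hinj : Function.Injective ι' := by
    rw [injective_iff_map_eq_one]
    intro s hs
    have h1 : inc s ∈ K := (QuotientGroup.eq_one_iff _).mp hs
    have h2 := eq_one_of_mem_pPrimeCore (R := inc.range)
      (hNp.of_surjective inc.rangeRestrict inc.rangeRestrict_surjective) ⟨s, rfl⟩ h1
    exact Subgroup.inclusion_injective _ (h2.trans (map_one inc).symm)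
  have hUN : Q ≤ normalizerIn (S : Subgroup G) Q := le_normalizerIn hC.1
  have himg : (Q.subgroupOf (normalizerIn (S : Subgroup G) Q)).map ι' =
      (Q.subgroupOf N).map (QuotientGroup.mk' K) := by
    rw [← Subgroup.map_map]
    congr 1
    refine le_antisymm ?_ fun x hx => ?_
    · rintro _ ⟨x, hx, rfl⟩
      exact hx
    · exact ⟨⟨x, hUN hx⟩, hx, Subtype.ext rfl⟩
  have hshape : IsShape Q (normalizerIn (S : Subgroup G) Q) ι' := by
    refine ⟨hinj, hUN, ?_, ?_⟩
    · rw [himg]
      exact (Subgroup.normal_in_normalizer (H := Q)).map _ (QuotientGroup.mk'_surjective K)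
    · intro g hg
      obtain ⟨n, rfl⟩ := QuotientGroup.mk'_surjective K g
      have hn : (n : G) ∈ Subgroup.centralizer (Q : Set G) := by
        refine Subgroup.mem_centralizer_iff.mpr fun q hq => ?_
        let qN : ↥N := ⟨q, Subgroup.le_normalizer hq⟩
        have h1 : QuotientGroup.mk' K (qN * n * qN⁻¹ * n⁻¹) = 1 := by
          have := Subgroup.mem_centralizer_iff.mp hg _ (show QuotientGroup.mk' K qN ∈ _ by rw [himg]; exact ⟨qN, hq, rfl⟩)
          simp only [map_mul, map_inv]
          rw [this]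
          group
        have h2 : qN * n * qN⁻¹ * n⁻¹ ∈ Q.subgroupOf N := by
          rw [mul_assoc qN n, mul_assoc qN]
          exact mul_mem hq
            ((Subgroup.normal_in_normalizer (H := Q)).conj_mem _ (inv_mem hq) n)
        have h3 := congrArg Subtype.val (eq_one_of_mem_pPrimeCore
          ((hQp.of_equiv (Subgroup.subgroupOfEquivOfLe Subgroup.le_normalizer).symm)) h2
          ((QuotientGroup.eq_one_iff _).mp h1))
        simp only [Subgroup.coe_mul, InvMemClass.coe_inv, OneMemClass.coe_one] at h3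
        exact mul_inv_eq_iff_eq_mul.mp (mul_inv_eq_one.mp h3)
      have h4 := centralizer_le_center_mul_core S hC hn
      obtain ⟨z, hz, k, hk, rfl⟩ := Subgroup.mem_sup_of_normal_right.mp h4
      rw [himg]
      refine ⟨z, hz, ?_⟩
      rw [map_mul, show QuotientGroup.mk' K k = 1 from (QuotientGroup.eq_one_iff _).mpr hk, mul_one]
  have : Finite Q := Subtype.finite
  obtain ⟨j, hj, hje⟩ := Fusion92.exists_embedding h.shape hshape le_rfl hQp h.not_dvd_index
    (fun g R hUR hR f hf => by
      obtain ⟨f', hf', hfU, hfe⟩ := h.exists_map g hUR hR (fun x hx => ⟨f ⟨x, hx⟩, hf ⟨x, hx⟩⟩)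
      obtain ⟨-, -, a, ha⟩ := isMap_group_iff.mp hf'
      have haN : a ∈ N := by
        refine Subgroup.mem_normalizer_fintype fun q hq => ?_
        rw [← ha q (hUR hq)]
        exact hfU.subset ⟨q, hq, rfl⟩
      refine ⟨QuotientGroup.mk' K ⟨a, haN⟩, fun r => ?_⟩
      obtain ⟨hfx, he⟩ := hfe r r.2
      rw [show f r = ⟨f' r, hfx⟩ from h.shape.inj ((hf r).trans he.symm)]
      show QuotientGroup.mk' K _ = _ * QuotientGroup.mk' K _ * _
      rw [← map_inv, ← map_mul, ← map_mul]
      exact congrArg _ (Subtype.ext (ha r r.2)))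
  refine ⟨MulEquiv.ofBijective j ⟨hj, fun y => ?_⟩⟩
  obtain ⟨n, rfl⟩ := QuotientGroup.mk'_surjective K y
  have hm : IsMap (groupFusionSystem (S : Subgroup G)) Q (fun x => (n : G) * x * (n : G)⁻¹) :=
    isMap_group_iff.mpr ⟨hC.1,
      fun x hx => hC.1 ((Subgroup.mem_normalizer_iff.mp n.2 x).mp hx), n, fun _ _ => rfl⟩
  have himQ : (fun x => (n : G) * x * (n : G)⁻¹) '' (Q : Set G) = (Q : Set G) := by
    refine Set.Subset.antisymm ?_ fun y hy => ?_
    · rintro _ ⟨x, hx, rfl⟩
      exact (Subgroup.mem_normalizer_iff.mp n.2 x).mp hx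
    · exact ⟨_, (Subgroup.mem_normalizer_iff''.mp n.2 y).mp hy, by group⟩
  obtain ⟨g, hg⟩ := h.exists_conj le_rfl hUN hm himQ
  have hcen : (j g)⁻¹ * QuotientGroup.mk' K n ∈
      (Q.subgroupOf (normalizerIn (S : Subgroup G) Q)).map ι' := by
    refine hshape.cent (Subgroup.mem_centralizer_iff.mpr ?_)
    rintro _ ⟨u, hu, rfl⟩
    have hu' : (n : G) * u * (n : G)⁻¹ ∈ normalizerIn (S : Subgroup G) Q :=
      hUN ((Subgroup.mem_normalizer_iff.mp n.2 _).mp hu)
    have h1 := congrArg j (hg u hu hu')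
    rw [map_mul, map_mul, map_inv, hje, hje] at h1
    have h2 : ι' ⟨(n : G) * u * (n : G)⁻¹, hu'⟩ =
        QuotientGroup.mk' K n * ι' u * (QuotientGroup.mk' K n)⁻¹ := by
      show QuotientGroup.mk' K _ = _ * QuotientGroup.mk' K _ * _
      rw [← map_inv, ← map_mul, ← map_mul]
      rfl
    have h3 : QuotientGroup.mk' K n * ι' u * (QuotientGroup.mk' K n)⁻¹ =
        j g * ι' u * (j g)⁻¹ := h2.symm.trans h1
    calc ι' u * ((j g)⁻¹ * QuotientGroup.mk' K n)
        = (j g)⁻¹ * (j g * ι' u * (j g)⁻¹) * QuotientGroup.mk' K n := by group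
      _ = _ := by rw [← h3]; group
  obtain ⟨u, -, hu⟩ := hcen
  refine ⟨g * ι u, ?_⟩
  rw [map_mul, hje u]
  show j g * ι' u = _
  rw [hu, mul_inv_cancel_left]

end Cfsg.Agent.Fusion92
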