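import Cfsg.Agent.Fusion92.OffenderTwo
import Cfsg.Agent.Lib.PComplement.Thompson
import Cfsg.Agent.LocalEven61.Involves

set_option autoImplicit false

/-! Thompson's normal complement criterion at the prime two, without sections `S₄`. -/

namespace Cfsg.Agent.Fusion92

open Cfsg Cfsg.Agent.PComplement Subgroup
open scoped commutatorElement

universe u

open scoped IsMulCommutative in
/-- The final contradiction: an offender in a reduced group. -/
theorem false_of_isReduced_two {G : Type u} [Group G] [Finite G] (P : Sylow 2 G)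
    (V K : Subgroup G) (hT : ThompsonHyp 2 G (P : Subgroup G))
    (hS4 : ¬ Cfsg.Involves (Equiv.Perm (Fin 4)) G)
    (h : IsReduced 2 (P : Subgroup G) V K) : False := by
  obtain ⟨hT1, hT2⟩ := hT
  haveI : Fact (Nat.Prime 2) := ⟨Nat.prime_two⟩
  have hVp : IsPGroup 2 V := P.2.to_le h.le_sylow
  have hVn : V.Normal := h.eq_pCore ▸ inferInstance
  have hKn := h.normal
  set W : Subgroup G := V ⊓ centralizer (V : Set G) with hWdef
  have hWc : IsMulCommutative W := isMulCommutative_inf_centralizer V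
  have hWn : W.Normal := inferInstance
  have hWp : IsPGroup 2 W := hVp.to_le inf_le_left
  have hZW : (P : Subgroup G) ⊓ centralizer ((P : Subgroup G) : Set G) ≤ W := by
    intro z hz
    have hzV : z ∈ centralizer (V : Set G) := centralizer_le h.le_sylow hz.2
    exact ⟨h.centralizer_le hzV, hzV⟩
  have hcW : ∀ a ∈ W, ∀ b ∈ W, Commute a b := fun a ha b hb =>
    congrArg Subtype.val (hWc.is_comm.comm (⟨a, ha⟩ : W) ⟨b, hb⟩)
  let U : Subgroup G :=
    { carrier := {x | x ∈ W ∧ x ^ 2 = 1}
      one_mem' := ⟨one_mem _, one_pow _⟩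
      mul_mem' := fun {a b} ha hb =>
        ⟨mul_mem ha.1 hb.1, by rw [(hcW a ha.1 b hb.1).mul_pow, ha.2, hb.2, one_mul]⟩
      inv_mem' := fun {a} ha => ⟨inv_mem ha.1, by rw [inv_pow, ha.2, inv_one]⟩ }
  have hUn : U.Normal := ⟨fun a ha g => ⟨hWn.conj_mem a ha.1 g, by
    rw [conj_pow, ha.2, mul_one, mul_inv_cancel]⟩⟩
  have hUc : IsMulCommutative U :=
    ⟨⟨fun a b => Subtype.ext (hcW a a.2.1 b b.2.1)⟩⟩
  have hUV : U ≤ V := fun a ha => ha.1.1
  -- `C(U) = V`
  have hVU : V ≤ centralizer (U : Set G) := fun v hv =>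
    mem_centralizer_iff.mpr fun u hu => (mem_centralizer_iff.mp hu.1.2 v hv).symm
  have hCU : centralizer (U : Set G) ≤ V := by
    by_cases hPC : (P : Subgroup G) ⊔ centralizer (U : Set G) = ⊤
    · exfalso
      have hall : ∀ g : G, (orderOf g).Coprime 2 → g ∈ centralizer (U : Set G) := by
        intro g hg
        have h1 : IsPGroup 2 (G ⧸ centralizer (U : Set G)) := by
          refine (P.2.map (QuotientGroup.mk' (centralizer (U : Set G)))).of_equiv ?_
          refine (MulEquiv.subgroupCongr ?_).trans topEquiv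
          refine comap_injective (QuotientGroup.mk'_surjective (centralizer (U : Set G))) ?_
          rw [comap_map_eq, QuotientGroup.ker_mk', comap_top, hPC]
        exact Transfer.pResidual_le_of_isPGroup_quotient h1 (Transfer.mem_pResidual_of_coprime hg)
      have hall' : ∀ g : G, (orderOf g).Coprime 2 →
          g ∈ centralizer (((P : Subgroup G) ⊓ centralizer ((P : Subgroup G) : Set G) :
            Subgroup G) : Set G) := by
        intro g hg
        rw [mem_centralizer_iff]
        intro z hz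
        refine (commute_of_fixes_order_p hWc hWp (fun w hw => hWn.conj_mem w hw g) hg
          (fun w hw hwp => ?_) z (hZW hz)).eq.symm
        exact (mem_centralizer_iff.mp (hall g hg) w ⟨hw, hwp⟩).symm
      apply h.not_complement
      have htop : centralizer (((P : Subgroup G) ⊓ centralizer ((P : Subgroup G) : Set G) :
          Subgroup G) : Set G) = ⊤ := by
        rw [← top_le_iff, ← Transfer.sylow_sup_eq_top_of_coprime_mem P hall']
        refine sup_le (fun x hx => mem_centralizer_iff.mpr fun z hz => ?_) le_rfl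
        exact (mem_centralizer_iff.mp hz.2 x hx).symm
      exact (Transfer.hasNormalPComplement_congr
        ((MulEquiv.subgroupCongr htop).trans topEquiv)).mp hT2
    · have h1 := h.maximal _ le_sup_left hPC
      have hle : centralizer (U : Set G) ≤ (P : Subgroup G) := sup_eq_left.mp h1
      rw [h.eq_pCore]
      exact Thompson.le_pCore inferInstance (P.2.to_le hle)
  -- an offender
  obtain ⟨A, hA, hAV⟩ : ∃ A : Subgroup G, Thompson.IsMaxEAIn 2 A (P : Subgroup G) ∧ ¬ A ≤ V := by
    by_contra hall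
    push Not at hall
    have hJ : thompsonSubgroupOf 2 (P : Subgroup G) ≤ V := by
      rw [Thompson.thompsonSubgroupOf_eq]
      exact sSup_le fun A hA => hall A hA
    have hN : (thompsonSubgroupOf 2 (P : Subgroup G)).Normal := by
      rw [← normalizer_eq_top_iff, ← Thompson.thompsonSubgroupOf_eq_of_le h.le_sylow hJ,
        ← top_le_iff, ← normalizer_eq_top_iff.mpr hVn]
      exact Thompson.normalizer_le_normalizer_thompsonSubgroupOf V
    exact h.not_complement ((Transfer.hasNormalPComplement_congr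
      ((MulEquiv.subgroupCongr (normalizer_eq_top_iff.mpr hN)).trans topEquiv)).mp hT1)
  obtain ⟨hAP, hAE, hAmax⟩ := hA
  set f := QuotientGroup.mk' V with hf
  have hker : V ≤ (conjEnd U).ker := fun v hv => (conjEnd_eq_one_iff U).mpr (hVU hv)
  let ρ : G ⧸ V →* AddMonoid.End (Additive U) := QuotientGroup.lift V (conjEnd U) hker
  have hρ : Function.Injective ρ := by
    refine (injective_iff_map_eq_one ρ).mpr fun x hx => ?_
    obtain ⟨g, rfl⟩ := QuotientGroup.mk'_surjective V x
    exact (QuotientGroup.eq_one_iff g).mpr (hCU ((conjEnd_eq_one_iff U).mp hx))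
  have hKc : IsMulCommutative ↥(K.map f) := by
    refine ⟨⟨fun a b => Subtype.ext ?_⟩⟩
    obtain ⟨x, hx, hxa⟩ := a.2
    obtain ⟨y, hy, hyb⟩ := b.2
    show (a : G ⧸ V) * b = b * a
    rw [← hxa, ← hyb, ← commutatorElement_eq_one_iff_mul_comm, ← map_commutatorElement]
    exact (QuotientGroup.eq_one_iff _).mpr (h.comm_mem x hx y hy)
  have hKp : (Nat.card (K.map f)).Coprime 2 := by
    rw [hf, ← Thompson.relIndex_eq_card_map_mk']; exact h.coprime
  have hKbn : (K.map f).Normal := hKn.map f (QuotientGroup.mk'_surjective V)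
  have hAb : IsElementaryAbelian 2 (A.map f) := Thompson.isElementaryAbelian_map f hAE
  -- faithfulness
  have hfaith : ∀ a ∈ A.map f, (∀ k ∈ K.map f, Commute a k) → a = 1 := by
    intro a ha hak
    set X : Subgroup (G ⧸ V) := (P : Subgroup G).map f ⊓ centralizer (K.map f : Set (G ⧸ V))
    have hXp : IsPGroup 2 X := (P.2.map f).to_le inf_le_left
    have hXn : X.Normal := by
      rw [← normalizer_eq_top_iff, ← top_le_iff]
      have htop : (P : Subgroup G).map f ⊔ K.map f = ⊤ := by
        rw [← Subgroup.map_sup, h.sup_eq_top, map_top_of_surjective f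
          (QuotientGroup.mk'_surjective V)]
      rw [← htop]
      refine sup_le (Coprime.le_normalizer_inf le_normalizer (Coprime.le_normalizer_centralizer ?_)) ?_
      · rw [normalizer_eq_top_iff.mpr hKbn]; exact le_top
      · refine le_trans ?_ (centralizer_le_normalizer _)
        rw [le_centralizer_iff]
        exact inf_le_right
    have : a ∈ pCore 2 (G ⧸ V) := Thompson.le_pCore hXn hXp
      ⟨map_mono hAP ha, mem_centralizer_iff.mpr fun k hk => (hak k hk).eq.symm⟩
    have hb : pCore 2 (G ⧸ V) = ⊥ :=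
      Thompson.pCore_quotient_eq_bot V hVp h.eq_pCore.ge
    rwa [hb, mem_bot] at this
  have hpU : ∀ u : Additive U, 2 • u = 0 := fun u =>
    Additive.toMul.injective (Subtype.ext (Additive.toMul u).2.2)
  -- compare with `(A ∩ V) U`
  have hcompare : Nat.card U ≤ Nat.card (A.map f) * Nat.card ↥(A ⊓ U : Subgroup G) := by
    have hB : IsElementaryAbelian 2 (((A ⊓ V) ⊔ U : Subgroup G)) := by
      refine Thompson.isElementaryAbelian_sup (Thompson.isElementaryAbelian_of_le hAE inf_le_left)
        ⟨hUc, fun a ha => ha.2⟩ ?_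
      exact inf_le_right.trans hVU
    have h1 := hAmax _ (sup_le (inf_le_left.trans hAP) (hUV.trans h.le_sylow)) hB
    have h2 := Solvable.card_sup_mul_card_inf (A ⊓ V) U
    have h3 : (A ⊓ V) ⊓ U = A ⊓ U := by
      rw [inf_assoc, inf_eq_right.mpr hUV]
    rw [h3] at h2
    have h4 : Nat.card A = Nat.card (A.map f) * Nat.card ↥(A ⊓ V) := by
      have h5 := relIndex_mul_index (inf_le_left : A ⊓ V ≤ A)
      have h6 := card_mul_index (A ⊓ V)
      have h7 := card_mul_index A
      rw [hf, ← Thompson.relIndex_eq_card_map_mk']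
      have h8 : V.relIndex A = (A ⊓ V).relIndex A := by rw [inf_comm, inf_relIndex_right]
      rw [h8]
      refine Nat.eq_of_mul_eq_mul_right (Nat.pos_of_ne_zero (FiniteIndex.index_ne_zero (H := A))) ?_
      rw [h7, mul_right_comm, h5, mul_comm, h6]
    refine Nat.le_of_mul_le_mul_left ?_ (Nat.card_pos (α := ↥(A ⊓ V)))
    calc Nat.card ↥(A ⊓ V) * Nat.card U
        = Nat.card ↥((A ⊓ V) ⊔ U) * Nat.card ↥(A ⊓ U) := h2.symm
      _ ≤ Nat.card A * Nat.card ↥(A ⊓ U) := Nat.mul_le_mul_right _ h1
      _ = Nat.card ↥(A ⊓ V) * (Nat.card (A.map f) * Nat.card ↥(A ⊓ U)) := by rw [h4]; ring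
  have hfix : Nat.card ↥(A ⊓ U) ≤ Nat.card (fixedSub ρ (A.map f)) := by
    refine Nat.card_le_card_of_injective
      (fun u => ⟨Additive.ofMul (⟨u.1, u.2.2⟩ : U), ?_⟩) fun u v huv => ?_
    · rintro _ ⟨a, ha, rfl⟩
      apply Additive.toMul.injective
      apply Subtype.ext
      show a * (u.1 : G) * a⁻¹ = u.1
      rw [show a * (u.1 : G) = u.1 * a from congrArg Subtype.val
        (hAE.1.is_comm.comm (⟨a, ha⟩ : A) ⟨u.1, u.2.1⟩), mul_inv_cancel_right]
    · have h1 : (⟨u.1, u.2.2⟩ : U) = ⟨v.1, v.2.2⟩ :=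
        Additive.ofMul.injective (congrArg Subtype.val huv)
      exact Subtype.ext (Subtype.mk.inj h1)
  have hcardU : Nat.card (Additive U) = Nat.card U := Nat.card_congr Additive.toMul
  have hAne : A.map f ≠ ⊥ := fun hb => hAV (by
    rwa [Subgroup.map_eq_bot_iff, QuotientGroup.ker_mk'] at hb)
  obtain ⟨W, a, c, hW4, ha2, hcn, hinv, haW, hcW, ⟨wa, hwa, hwa'⟩, wc, hwc, hwc'⟩ :=
    (offender_two hpU ρ hρ hKc hKp _ (A.map f) rfl hAb.1 hAb.2
      (fun a _ k hk => hKbn.conj_mem k hk a) hfaith).2 hAne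
      (hcardU.trans_le (hcompare.trans (Nat.mul_le_mul_left _ hfix)))
  let T : Subgroup G := (AddSubgroup.toSubgroup' W).map U.subtype
  have hTmem : ∀ {t : G}, t ∈ T ↔ ∃ h : t ∈ U, Additive.ofMul (⟨t, h⟩ : U) ∈ W := fun {t} =>
    ⟨fun ⟨u, hu, he⟩ => by subst he; exact ⟨u.2, hu⟩, fun ⟨h, hm⟩ => ⟨⟨t, h⟩, hm, rfl⟩⟩
  have hT4 : Nat.card T = 4 := by
    rw [card_map_of_injective U.subtype_injective]
    exact hW4
  obtain ⟨a', rfl⟩ := QuotientGroup.mk'_surjective V a
  obtain ⟨c', rfl⟩ := QuotientGroup.mk'_surjective V c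
  have hcu : ∀ (g : G) (t : U), ((Additive.toMul (ρ (f g) (Additive.ofMul t)) : U) : G) =
      g * t * g⁻¹ := fun g t => conjEnd_apply U g t
  have hnormT : ∀ g : G, (∀ w ∈ W, ρ (f g) w ∈ W) → g ∈ normalizer (T : Set G) := by
    intro g hg
    haveI : Finite T := inferInstance
    refine mem_normalizer_iff_map_conj_eq.mpr (eq_of_le_of_card_ge ?_ ?_)
    · rintro _ ⟨t, ht, rfl⟩
      obtain ⟨h, hm⟩ := hTmem.mp ht
      refine hTmem.mpr ⟨hUn.conj_mem t h g, ?_⟩
      have h1 := hg _ hm
      rwa [show ρ (f g) (Additive.ofMul (⟨t, h⟩ : U)) =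
        Additive.ofMul (⟨g * t * g⁻¹, hUn.conj_mem t h g⟩ : U) from
          Additive.toMul.injective (Subtype.ext (hcu g ⟨t, h⟩))] at h1
    · exact (card_map_of_injective (MulAut.conj g).injective).ge
  have hcent : ∀ g : G, f g = 1 → g ∈ centralizer (T : Set G) := fun g hg =>
    centralizer_le (fun t ht => (hTmem.mp ht).1) (hVU ((QuotientGroup.eq_one_iff g).mp hg))
  have hmove : ∀ g : G, (∃ w ∈ W, ρ (f g) w ≠ w) → g ∉ centralizer (T : Set G) := by
    rintro g ⟨w, hw, hw'⟩ hgc
    refine hw' (Additive.toMul.injective (Subtype.ext ?_))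
    rw [show w = Additive.ofMul (Additive.toMul w) from rfl, hcu]
    have := mem_centralizer_iff.mp hgc ((Additive.toMul w : U) : G)
      (hTmem.mpr ⟨(Additive.toMul w).2, hw⟩)
    show g * ((Additive.toMul w : U) : G) * g⁻¹ = _
    rw [← this]
    simp
  refine hS4 (involves_perm4_of_inverted T hT4 (hnormT a' haW) (hnormT c' hcW) (hcent _ ?_)
    (hcent _ ?_) (hmove a' ⟨wa, hwa, hwa'⟩) (hmove c' ⟨wc, hwc, hwc'⟩)
    (Nat.coprime_two_right.mp hKp) (hcent _ ?_))
  · rw [map_mul]; exact ha2
  · rw [map_mul, map_mul, map_mul, map_inv]; exact hinv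
  · rw [map_pow]; exact hcn

/-- Thompson's normal `2`-complement criterion for groups without a section `S₄`. -/
theorem thompson_two_complement {G : Type u} [Group G] [Finite G] (P : Sylow 2 G)
    (hS4 : ¬ Cfsg.Involves (Equiv.Perm (Fin 4)) G)
    (h1 : HasNormalPComplement 2 (normalizer (thompsonSubgroupOf 2 (P : Subgroup G) : Set G)))
    (h2 : HasNormalPComplement 2 (centralizer
      (((P : Subgroup G) ⊓ centralizer ((P : Subgroup G) : Set G) : Subgroup G) : Set G))) :
    HasNormalPComplement 2 G := by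
  haveI : Fact (Nat.Prime 2) := ⟨Nat.prime_two⟩
  refine hasNormalPComplement_of_criterion (p := 2)
    (fun G _ _ P => ThompsonHyp 2 G P ∧ ¬ Cfsg.Involves (Equiv.Perm (Fin 4)) G) ?_ ?_ ?_ ?_
    (fun G _ _ P V K hT h => false_of_isReduced_two P V K hT.1 hT.2 h) G P ⟨⟨h1, h2⟩, hS4⟩
  · -- subgroups
    intro G _ _ P M hPM hT₀
    obtain ⟨hT, hS4⟩ := hT₀
    refine ⟨?_, fun h => hS4 (LocalEven61.involves_of_subgroup M h)⟩
    refine ⟨hasNormalPComplement_of_map_le M.subtype M.subtype_injective ?_ hT.1,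
      hasNormalPComplement_of_map_le M.subtype M.subtype_injective ?_ hT.2⟩
    · exact (le_normalizer_map _).trans (by rw [thompsonSubgroupOf_subgroupOf hPM])
    · rintro _ ⟨g, hg, rfl⟩
      refine mem_centralizer_iff.mpr fun z hz => congrArg Subtype.val
        (mem_centralizer_iff.mp hg ⟨z, hPM hz.1⟩ ⟨hz.1, mem_centralizer_iff.mpr fun y hy =>
          Subtype.ext (mem_centralizer_iff.mp hz.2 _ hy)⟩)
  · -- local subgroups
    intro G _ _ P H hHb hHP hyp hT₀
    obtain ⟨hT, hS4⟩ := hT₀
    refine ⟨?_, fun h => hS4 (LocalEven61.involves_of_subgroup _ h)⟩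
    set S : Subgroup G := (P : Subgroup G) ⊓ normalizer (H : Set G) with hS
    have hSM : S ≤ normalizer (H : Set G) := inf_le_right
    have hSp : IsPGroup 2 S := P.2.to_le inf_le_left
    have hSb : S ≠ ⊥ := fun hb => hHb (le_bot_iff.mp (hb ▸ le_inf hHP le_normalizer))
    refine ⟨hasNormalPComplement_of_map_le _ (normalizer (H : Set G)).subtype_injective ?_
      (hyp _ ((Thompson.thompsonSubgroupOf_le S).trans inf_le_left)
        (thompsonSubgroupOf_ne_bot hSp hSb)
        (Thompson.normalizer_le_normalizer_thompsonSubgroupOf S)),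
      hasNormalPComplement_of_map_le _ (normalizer (H : Set G)).subtype_injective ?_ hT.2⟩
    · exact (le_normalizer_map _).trans (by rw [thompsonSubgroupOf_subgroupOf hSM])
    · rintro _ ⟨g, hg, rfl⟩
      refine mem_centralizer_iff.mpr fun z hz => ?_
      have hzH : z ∈ normalizer (H : Set G) :=
        centralizer_le_normalizer _ (centralizer_le hHP hz.2)
      exact congrArg Subtype.val (mem_centralizer_iff.mp hg ⟨z, hzH⟩
        ⟨⟨hz.1, hzH⟩, mem_centralizer_iff.mpr fun y hy =>
          Subtype.ext (mem_centralizer_iff.mp hz.2 _ hy.1)⟩)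
  · -- quotients by normal `p`-subgroups
    intro G _ _ P V _ hVb hVP hyp hT₀
    obtain ⟨hT, hS4⟩ := hT₀
    refine ⟨?_, fun h => hS4 (LocalEven61.involves_of_quotient V h)⟩
    set f := QuotientGroup.mk' V with hf
    have hfs := QuotientGroup.mk'_surjective V
    set Pb : Subgroup (G ⧸ V) := (P : Subgroup G).map f with hPb
    have hPc : Pb.comap f = (P : Subgroup G) := by
      rw [hPb, comap_map_eq, QuotientGroup.ker_mk', sup_eq_left.mpr hVP.le]
    have hPbp : IsPGroup 2 Pb := P.2.map f
    have hPbb : Pb ≠ ⊥ := by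
      rw [hPb, Ne, Subgroup.map_eq_bot_iff, QuotientGroup.ker_mk']
      exact hVP.not_ge
    have hlift : ∀ X : Subgroup (G ⧸ V), X ≠ ⊥ → X ≤ Pb → Pb ≤ normalizer (X : Set (G ⧸ V)) →
        HasNormalPComplement 2 (normalizer (X : Set (G ⧸ V))) := by
      intro X hXb hXP hXN
      refine hasNormalPComplement_of_le_map f (B := normalizer (X.comap f : Set G)) ?_
        (hyp (X.comap f) ?_ (hPc ▸ comap_mono hXP)
          (hPc ▸ (comap_mono hXN).trans (le_normalizer_comap f)))
      · rw [← map_comap_eq_self_of_surjective hfs (normalizer (X : Set (G ⧸ V)))]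
        exact map_mono (le_normalizer_comap f)
      · refine lt_of_le_of_ne (fun v hv => ?_) fun he => hXb ?_
        · rw [mem_comap, hf, QuotientGroup.mk'_apply, (QuotientGroup.eq_one_iff v).mpr hv]
          exact one_mem _
        · rw [← map_comap_eq_self_of_surjective hfs X, ← he,
            (Subgroup.map_eq_bot_iff _).mpr (by rw [QuotientGroup.ker_mk'])]
    refine ⟨hlift _ (thompsonSubgroupOf_ne_bot hPbp hPbb) (Thompson.thompsonSubgroupOf_le _)
      (le_normalizer.trans (Thompson.normalizer_le_normalizer_thompsonSubgroupOf _)),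
      Transfer.hasNormalPComplement_mono (centralizer_le_normalizer _) (hlift _ ?_ inf_le_left ?_)⟩
    · have : Nontrivial Pb := (nontrivial_iff_ne_bot Pb).mpr hPbb
      intro hb
      have hc := hPbp.bot_lt_center
      apply hc.ne'
      rw [Subgroup.eq_bot_iff_forall]
      intro x hx
      apply Subtype.ext
      rw [OneMemClass.coe_one, ← mem_bot, ← hb]
      exact ⟨x.2, mem_centralizer_iff.mpr fun y hy =>
        congrArg Subtype.val (mem_center_iff.mp hx ⟨y, hy⟩)⟩
    · refine le_trans ?_ (centralizer_le_normalizer _)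
      intro x hx
      exact mem_centralizer_iff.mpr fun z hz => (mem_centralizer_iff.mp hz.2 x hx).symm
  · -- quotients by normal `p'`-subgroups
    intro G _ _ P N _ hN hT₀
    obtain ⟨hT, hS4⟩ := hT₀
    refine ⟨?_, fun h => hS4 (LocalEven61.involves_of_quotient N h)⟩
    set f := QuotientGroup.mk' N with hf
    have hinj : Set.InjOn f ((P : Subgroup G) : Set G) := by
      intro x hx y hy hxy
      have h0 : x⁻¹ * y ∈ (P : Subgroup G) ⊓ N :=
        ⟨(P : Subgroup G).mul_mem ((P : Subgroup G).inv_mem hx) hy, QuotientGroup.eq.mp hxy⟩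
      rw [Thompson.inf_eq_bot_of_isPGroup_of_coprime P.2 hN, mem_bot, inv_mul_eq_one] at h0
      exact h0
    have hnorm : ∀ X : Subgroup G, X ≤ (P : Subgroup G) → ∀ g : G,
        f g ∈ normalizer (X.map f : Set (G ⧸ N)) →
        ∃ k ∈ N, k * g ∈ normalizer (X : Set G) := by
      intro X hX g hg
      have hnN : ∀ Y : Subgroup G, Y ≤ normalizer (N : Set G) := fun Y => by
        rw [normalizer_eq_top_iff.mpr (inferInstance : N.Normal)]; exact le_top
      set A : Subgroup G := X.map (MulAut.conj g).toMonoidHom with hA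
      have hAp : IsPGroup 2 A := (P.2.to_le hX).map _
      have hcop : (Nat.card A).Coprime (Nat.card N) := by
        obtain ⟨a, ha⟩ := IsPGroup.iff_card.mp hAp
        rw [ha]; exact (hN.pow_right a).symm
      have hle : A ≤ N ⊔ X := by
        have h1 : f g * (f g)⁻¹ = 1 := mul_inv_cancel _
        rw [sup_comm, ← QuotientGroup.ker_mk' N, ← hf, ← comap_map_eq]
        rintro _ ⟨x, hx, rfl⟩
        rw [mem_comap]
        show f (g * x * g⁻¹) ∈ X.map f
        rw [map_mul, map_mul, map_inv]
        exact (mem_normalizer_iff.mp hg _).mp (mem_map_of_mem f hx)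
      obtain ⟨k, hk, hkA⟩ := Coprime.exists_conj_le_of_le_sup A N X (hnN A) (hnN X) hcop
        (Or.inl (Coprime.isSolvable_of_isNilpotent' hAp.isNilpotent)) hle
      refine ⟨k, hk, mem_normalizer_iff_map_conj_eq.mpr ?_⟩
      refine eq_of_le_of_card_ge ?_ (card_map_of_injective (MulAut.conj (k * g)).injective).ge
      rintro _ ⟨x, hx, rfl⟩
      have := hkA _ (mem_map_of_mem _ hx)
      show k * g * x * (k * g)⁻¹ ∈ X
      simpa [mul_assoc] using this
    refine ⟨hasNormalPComplement_of_le_map f ?_ hT.1, hasNormalPComplement_of_le_map f ?_ hT.2⟩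
    · intro x hx
      obtain ⟨g, rfl⟩ := QuotientGroup.mk'_surjective N x
      rw [← Thompson.thompsonSubgroupOf_map f _ hinj] at hx
      obtain ⟨k, hk, hkg⟩ := hnorm _ (Thompson.thompsonSubgroupOf_le _) g hx
      exact ⟨k * g, hkg, by
        rw [map_mul, hf, QuotientGroup.mk'_apply N k, (QuotientGroup.eq_one_iff k).mpr hk, one_mul]⟩
    · set Z : Subgroup G := (P : Subgroup G) ⊓ centralizer ((P : Subgroup G) : Set G) with hZ
      intro x hx
      obtain ⟨g, rfl⟩ := QuotientGroup.mk'_surjective N x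
      have hZle : Z.map f ≤
          (P : Subgroup G).map f ⊓ centralizer ((P : Subgroup G).map f : Set (G ⧸ N)) := by
        rintro _ ⟨z, hz, rfl⟩
        refine ⟨mem_map_of_mem f hz.1, mem_centralizer_iff.mpr ?_⟩
        rintro _ ⟨y, hy, rfl⟩
        rw [← map_mul, ← map_mul, mem_centralizer_iff.mp hz.2 y hy]
      have hx' : f g ∈ centralizer (Z.map f : Set (G ⧸ N)) := centralizer_le hZle hx
      obtain ⟨k, hk, hkg⟩ := hnorm Z inf_le_left g (centralizer_le_normalizer _ hx')
      refine ⟨k * g, mem_centralizer_iff.mpr fun z hz => ?_, by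
        rw [map_mul, hf, QuotientGroup.mk'_apply N k, (QuotientGroup.eq_one_iff k).mpr hk, one_mul]⟩
      have h1 : k * g * z * (k * g)⁻¹ ∈ Z := (mem_normalizer_iff.mp hkg z).mp hz
      have h2 : f (k * g * z * (k * g)⁻¹) = f z := by
        have hk1 : f k = 1 := (QuotientGroup.eq_one_iff k).mpr hk
        rw [map_mul, map_mul, map_inv, map_mul, hk1, one_mul, ← mem_centralizer_iff.mp hx' _
          (mem_map_of_mem f hz), mul_inv_cancel_right]
      exact (mul_inv_eq_iff_eq_mul.mp (hinj h1.1 hz.1 h2)).symm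


end Cfsg.Agent.Fusion92
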