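import Cfsg.Agent.Fusion92.InnerControl
import Cfsg.Agent.Fusion92.CharP
import Cfsg.Agent.Fusion92.SectionFree
import Cfsg.Agent.Fusion92.ThompsonTwo
import Cfsg.Agent.Lib.PComplement.Thompson

set_option autoImplicit false

/-! Systems in which characteristic subgroups have `p`-groups of automorphisms. -/

namespace Cfsg.Agent.Fusion92

open Cfsg Cfsg.Agent.Fusion
open Cfsg.FusionSystem (normalizerIn centralizerIn)

universe u

variable {p : ℕ} [Fact p.Prime]

/-- The two functors of Thompson's criterion. -/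
def zjFamily (p : ℕ) : Bool → ∀ (Q : Type u) [Group Q], Subgroup Q
  | true, Q, _ => thompsonSubgroup p Q
  | false, Q, _ => Subgroup.center Q

omit [Fact p.Prime] in
theorem isInvariantW_zjFamily : ∀ i, IsInvariantW p (zjFamily.{u} p i)
  | true => fun _ _ _ _ _ _ φ => Thompson.map_thompsonSubgroup_equiv φ
  | false => fun Q R _ _ _ _ φ => by
      show (Subgroup.center Q).map φ.toMonoidHom = Subgroup.center R
      ext x
      rw [Subgroup.mem_map_equiv, Subgroup.mem_center_iff, Subgroup.mem_center_iff]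
      exact ⟨fun h g => by simpa using congrArg φ (h (φ.symm g)),
        fun h g => φ.injective (by simpa using h (φ g))⟩

theorem zjFamily_ne_bot : ∀ (i : Bool) (Q : Type u) [Group Q] [Finite Q], IsPGroup p Q →
    Nontrivial Q → zjFamily p i Q ≠ ⊥
  | true, Q, _, _, hQ, _ => Thompson.thompsonSubgroup_ne_bot
      ((IsPGroup.iff_card.mp hQ).elim fun n hn => by
        rw [hn]; refine dvd_pow_self p fun h0 => ?_
        rw [h0, pow_zero] at hn
        exact (Finite.one_lt_card (α := Q)).ne' hn)
  | false, Q, _, _, hQ, _ => hQ.bot_lt_center.ne'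

/-- A group of characteristic `p` satisfying Thompson's conditions is a `p`-group. -/
theorem isPGroup_of_zjFamily {G : Type u} [Group G] [Finite G] (P : Sylow p G)
    (hp : p ≠ 2 ∨ ¬ Cfsg.Involves (Equiv.Perm (Fin 4)) G)
    (hc : Subgroup.centralizer ((pCore p G : Subgroup G) : Set G) ≤ pCore p G)
    (h : ∀ i, Subgroup.normalizer (((zjFamily p i ↥(P : Subgroup G)).map
      (P : Subgroup G).subtype : Subgroup G) : Set G) ≤ P) : IsPGroup p G := by
  refine isPGroup_of_complement ?_ hc
  have h1 : HasNormalPComplement p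
      (Subgroup.normalizer (thompsonSubgroupOf p (P : Subgroup G) : Set G)) :=
    hasNormalPComplement_of_le_sylow (P := P) (h true)
  have h2 : HasNormalPComplement p (Subgroup.centralizer
      (((P : Subgroup G) ⊓ Subgroup.centralizer ((P : Subgroup G) : Set G) : Subgroup G) : Set G)) := by
    refine hasNormalPComplement_of_le_sylow (P := P) ((Subgroup.centralizer_le_normalizer _).trans ?_)
    refine le_trans (le_of_eq ?_) (h false)
    congr 2
    ext x
    exact ⟨fun hx => ⟨⟨x, hx.1⟩, Subgroup.mem_center_iff.mpr fun y => Subtype.ext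
      (Subgroup.mem_centralizer_iff.mp hx.2 y y.2), rfl⟩, fun ⟨y, hy, he⟩ => he ▸ ⟨y.2,
        Subgroup.mem_centralizer_iff.mpr fun z hz =>
          congrArg Subtype.val (Subgroup.mem_center_iff.mp hy ⟨z, hz⟩)⟩⟩
  by_cases hp2 : p = 2
  · subst hp2
    exact thompson_two_complement P (hp.resolve_left (by simp)) h1 h2
  · exact PComplement.thompson_normal_p_complement hp2 P h1 h2

omit [Fact p.Prime] in
/-- The section over a characteristic subgroup is characteristic. -/
theorem secW_characteristic {W : ∀ (Q : Type u) [Group Q], Subgroup Q} (hW : IsInvariantW p W)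
    {Ω : Type u} [Group Ω] {A B : Subgroup Ω} [Finite A] (hA : IsPGroup p A) (hBA : B ≤ A)
    (hB : (B.subgroupOf A).Characteristic) : ((secW W A B).subgroupOf A).Characteristic := by
  refine Subgroup.characteristic_iff_map_eq.mpr fun φ =>
    Subgroup.map_injective A.subtype_injective ?_
  have hr : (A.subtype.comp φ.toMonoidHom).range = A := by
    rw [MonoidHom.range_comp, MonoidHom.range_eq_top.mpr φ.surjective, ← MonoidHom.range_eq_map,
      Subgroup.range_subtype]
  rw [Subgroup.map_subgroupOf_eq_of_le (secW_le A B), Subgroup.map_map,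
    secW_map hW hA (A.subtype.comp φ.toMonoidHom) (A.subtype_injective.comp φ.injective), hr,
    ← Subgroup.map_map, Subgroup.characteristic_iff_map_eq.mp hB φ,
    Subgroup.map_subgroupOf_eq_of_le hBA]

/-- A system over a normal subgroup `S` with a `p`-group of automorphisms of `S` is inner. -/
theorem inner_of_isNormal_top {Ω : Type u} [Group Ω] {S : Subgroup Ω} [Finite S]
    (hS : IsPGroup p S) {F : Cfsg.FusionSystem S} (hF : F.IsSaturated p) (hSn : F.IsNormal S)
    (hc : IsPGroup p (F.autGroup S)) :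
    ∀ P : Subgroup Ω, F.Hom P = (Cfsg.innerFusionSystem S).Hom P := by
  obtain ⟨-, R, hR⟩ := fullyAutomized_of_fullyNormalized hS hF (fullyNormalized_self (F := F))
  have hall : ∀ α : F.autGroup S, (α : MulAut S) ∈ autInducedBy S S := fun α => by
    have h1 : (R : Subgroup (F.autGroup S)) = ⊤ := (R.3 (hc.to_subgroup ⊤) le_top).symm
    rw [hR] at h1
    exact Subgroup.mem_subgroupOf.mp (h1.ge (Subgroup.mem_top α))
  intro P
  ext φ
  constructor
  · intro hφ
    obtain ⟨f, hf, he, hfS⟩ := (Fusion.isNormal_iff.mp hSn).2 P _ (isMap_extFun hφ)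
    have hP : P ≤ S := (F.le_of_mem hφ).1
    have hiso : IsIso F S S f := ⟨hf.mono le_sup_right, hfS⟩
    obtain ⟨α, hα, hαe⟩ := hiso.exists_aut
    obtain ⟨g, hg, hge⟩ := mem_autInducedBy.mp (hall ⟨α, hα⟩)
    refine ⟨hP, g, hg, fun x => ?_⟩
    rw [← extFun_coe φ x, ← he x.2, ← hαe (hP x.2), autFun_of_mem _ (hP x.2)]
    exact hge ⟨x, hP x.2⟩
  · rintro ⟨hP, g, hg, hφ⟩
    exact (isMap_conj (F := F) hP hg).mem_hom fun x => hφ x

/-- If the characteristic subgroups have `p`-groups of automorphisms the system is inner. -/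
theorem inner_of_char_aut (n : ℕ) : ∀ {Ω : Type u} [Group Ω] {S : Subgroup Ω} [Finite S],
    IsPGroup p S → ∀ F : Cfsg.FusionSystem S, F.IsSaturated p →
    (p ≠ 2 ∨ F.IsSectionFree p (Equiv.Perm (Fin 4))) →
    (∀ Q : Subgroup Ω, Q ≤ S → Q ≠ ⊥ → (Q.subgroupOf S).Characteristic →
      IsPGroup p (F.autGroup Q)) →
    ∀ Q₀ : Subgroup Ω, F.IsNormal Q₀ → (Q₀.subgroupOf S).Characteristic →
      Nat.card S - Nat.card Q₀ = n →
    ∀ P : Subgroup Ω, F.Hom P = (Cfsg.innerFusionSystem S).Hom P := by
  induction n using Nat.strong_induction_on with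
  | _ n ih =>
  intro Ω _ S _ hS F hF hp h Q₀ hQ₀ hchar hn
  haveI := Fusion.finite_of_le hQ₀.1
  have hbot : ∀ {T : Subgroup Ω} (E : Cfsg.FusionSystem T), IsPGroup p (E.autGroup ⊥) := fun E =>
    haveI : Subsingleton (MulAut (⊥ : Subgroup Ω)) :=
      ⟨fun a b => MulEquiv.ext fun x => Subsingleton.elim _ _⟩
    fun a => ⟨0, Subsingleton.elim _ _⟩
  have hc : IsPGroup p (F.autGroup Q₀) := by
    by_cases hb : Q₀ = ⊥
    · subst hb; exact hbot F
    · exact h Q₀ hQ₀.1 hb hchar
  by_cases hQS : Q₀ = S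
  · subst hQS
    exact inner_of_isNormal_top hS hF hQ₀ hc
  refine inner_of_normalizer_family (W := zjFamily p) hS zjFamily_ne_bot isInvariantW_zjFamily
    (fun T D => p ≠ 2 ∨ D.IsSectionFree p (Equiv.Perm (Fin 4))) ?_ ?_ ?_ hF hp hQ₀ hc ?_
  · intro T D hT hD hX V hV
    haveI := Fusion.finite_of_le hT
    exact hX.imp_right fun hfree => isSectionFree_normalizer (hS.to_le hT) hD hfree hV
  · intro T D hT hD hX Q hQ hn
    haveI := Fusion.finite_of_le hT
    exact hX.imp_right fun hfree => isSectionFree_centralType (hS.to_le hT) hD hfree hQ hn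
  · intro T D hT hD hX Q₁ U L _ ι hl hn P hcc hle
    haveI := Fusion.finite_of_le hT
    have := hl.isLocal.fin
    refine isPGroup_of_zjFamily P (hX.imp_right fun hfree => ?_) hcc hle
    exact fun hi => not_involves_of_isSectionFree (hS.to_le hT) hfree hl.fullyNormalized hl.centric
      hl.isLocal (LocalEven61.involves_of_quotient _ hi)
  intro i
  set Y := secW (zjFamily p i) S Q₀ with hY
  have hYS : Y ≤ S := secW_le _ _
  have hYchar : (Y.subgroupOf S).Characteristic :=
    secW_characteristic (isInvariantW_zjFamily i) hS hQ₀.1 hchar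
  have hlt : Q₀ < Y := lt_secW (zjFamily_ne_bot i) hS hQ₀.1 hQS
    (Subgroup.normal_subgroupOf_of_le_normalizer (isNormal_normalizer hQ₀))
  have hSY : S ≤ Subgroup.normalizer (Y : Set Ω) := by
    haveI : (Y.subgroupOf S).Normal := inferInstance
    exact Subgroup.normal_subgroupOf_iff_le_normalizer hYS |>.mp inferInstance
  refine inner_of_normalizerSystem hYS hSY fun N hN => ?_
  have hNS : normalizerIn S Y = S := inf_eq_left.mpr hSY
  haveI : Finite (normalizerIn S Y) := Fusion.finite_of_le (Fusion.normalizerIn_le S Y)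
  haveI := Fusion.finite_of_le hYS
  have hYn : F.IsFullyNormalized Y :=
    ⟨hYS, fun R _ => hNS.symm ▸ Subgroup.card_le_of_le (Fusion.normalizerIn_le S R)⟩
  have hsat : N.IsSaturated p := isNormalizerSystem_isSaturated hS hF hYn N hN
  have hNn : N.IsNormal Y := by
    refine Fusion.isNormal_iff.mpr ⟨hNS.symm ▸ hYS, fun P f hf => ?_⟩
    obtain ⟨-, hPN, -, f', hf', he, hfY⟩ := (IsNormalizerSystem.isMap_iff hN).mp hf
    have hsub : P ⊔ Y ≤ normalizerIn S Y := hNS.symm ▸ hf'.dom_le
    exact ⟨f', (IsNormalizerSystem.isMap_iff hN).mpr ⟨hf', hsub,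
      fun x hx => hNS.symm ▸ hf'.apply_mem hx, f', hf'.mono (sup_le le_rfl le_sup_right),
      fun _ _ => rfl, hfY⟩, he, hfY⟩
  refine ih (Nat.card ↥(normalizerIn S Y) - Nat.card Y) ?_ (hS.to_le (Fusion.normalizerIn_le S Y))
    N hsat (hp.imp_right fun hfree => ?_) ?_ Y hNn (hNS.symm ▸ hYchar) rfl
  · rw [← hn, hNS]
    have h1 : Nat.card Q₀ < Nat.card Y := lt_of_le_of_ne (Subgroup.card_le_of_le hlt.le)
      fun he => hlt.ne (Subgroup.eq_of_le_of_card_ge hlt.le he.ge)
    have h2 := Subgroup.card_le_of_le hYS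
    omega
  · intro U hUN hUC M hM L _ ι hL
    have hfree' := isSectionFree_normalizer hS hF hfree hYn
    have hEN : N = normalizerSystem F Y hYS :=
      IsNormalizerSystem.unique hN (isNormalizerSystem_normalizerSystem Y hYS)
    subst hEN
    exact hfree' U hUN hUC M hM L ι hL
  · intro Q hQ hQb hQc
    refine (h Q (hQ.trans (Fusion.normalizerIn_le S Y)) hQb (hNS ▸ hQc)).to_le
      (autGroup_mono fun φ hφ => mem_hom_iff_isMap.mpr
        ((IsNormalizerSystem.isMap_iff hN).mp (isMap_extFun hφ)).1)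

end Cfsg.Agent.Fusion92
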