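import Cfsg.Agent.Fusion92.LocalQuotient
import Cfsg.Agent.Lib.Fusion.SubSat

set_option autoImplicit false

/-! Criteria for a system to be inner. -/

namespace Cfsg.Agent.Fusion92

open Cfsg Cfsg.Agent.Fusion
open Cfsg.FusionSystem (normalizerIn centralizerIn)

universe u

variable {Ω : Type u} [Group Ω] {S T : Subgroup Ω} {D : Cfsg.FusionSystem T} {p : ℕ} [Fact p.Prime]
  {Q₀ U : Subgroup Ω} {L : Type u} [Group L] {ι : ↥(normalizerIn T U) →* L}

omit [Fact p.Prime] in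
theorem isMap_inner_iff {P : Subgroup Ω} {f : Ω → Ω} :
    IsMap (Cfsg.innerFusionSystem S) P f ↔ P ≤ S ∧ ∃ g ∈ S, ∀ x ∈ P, f x = g * x * g⁻¹ := by
  constructor
  · rintro ⟨φ, ⟨hP, g, hg, hφ⟩, hf⟩
    exact ⟨hP, g, hg, fun x hx => ((hf ⟨x, hx⟩).symm.trans (hφ ⟨x, hx⟩))⟩
  · rintro ⟨hP, g, hg, h⟩
    exact ⟨(MulAut.conj g).toMonoidHom.comp P.subtype, ⟨hP, g, hg, fun _ => rfl⟩,
      fun x => (h x x.2).symm⟩

/-- Inner action of the normalizer of the section makes it the Sylow subgroup. -/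
theorem LocalCond.normalizer_le_range [Finite T] (h : LocalCond p D Q₀ ι) (hS : IsPGroup p S)
    (hTS : T ≤ S) {Y : Subgroup L} (hY : ι.range ≤ Subgroup.normalizer (Y : Set L))
    (hant : ∀ g ∈ Subgroup.normalizer (Y : Set L), ConjIn D (Cfsg.innerFusionSystem S) ι g) :
    Subgroup.normalizer (Y : Set L) ≤ ι.range := by
  have := h.isLocal.fin
  set N := Subgroup.normalizer (Y : Set L) with hN
  have hUle := h.isLocal.shape.le
  have hone : ∀ g ∈ N, (orderOf g).Coprime p → g = 1 := by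
    intro g hg hgp
    obtain ⟨f, hf, hfU, hfe⟩ := h.isLocal.exists_map g le_rfl hUle (fun y hy => by
      obtain ⟨v, -, hv⟩ := h.isLocal.shape.exists_conj g ⟨y, hUle hy⟩ hy
      exact ⟨v, hv.symm⟩)
    obtain ⟨-, s, hs, hfs⟩ := isMap_inner_iff.mp
      (hant g hg U hUle le_rfl f hf hfU fun y hy hfy => by
        obtain ⟨_, he⟩ := hfe y hy; exact he)
    have key : ∀ (n : ℕ) (x : Ω) (hx : x ∈ U), ∃ hy : s ^ n * x * (s ^ n)⁻¹ ∈ U,
        ι ⟨s ^ n * x * (s ^ n)⁻¹, hUle hy⟩ = g ^ n * ι ⟨x, hUle hx⟩ * (g ^ n)⁻¹ := by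
      intro n
      induction n with
      | zero => intro x hx; exact ⟨by simpa using hx, by simp⟩
      | succ n ih =>
        intro x hx
        obtain ⟨hy, he⟩ := ih x hx
        obtain ⟨hfy, he'⟩ := hfe _ hy
        have e1 : f (s ^ n * x * (s ^ n)⁻¹) = s ^ (n + 1) * x * (s ^ (n + 1))⁻¹ := by
          rw [hfs _ hy, pow_succ']; group
        have hmem : f (s ^ n * x * (s ^ n)⁻¹) ∈ U := hfU.subset ⟨_, hy, rfl⟩
        refine ⟨e1 ▸ hmem, ?_⟩
        calc ι ⟨s ^ (n + 1) * x * (s ^ (n + 1))⁻¹, _⟩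
            = ι ⟨f (s ^ n * x * (s ^ n)⁻¹), hfy⟩ := congrArg ι (Subtype.ext e1.symm)
          _ = g ^ (n + 1) * ι ⟨x, hUle hx⟩ * (g ^ (n + 1))⁻¹ := by
            rw [he', he, pow_succ']; group
    obtain ⟨k, hk⟩ := hS ⟨s, hs⟩
    have hk' : s ^ p ^ k = 1 := congrArg Subtype.val hk
    have hcent : g ^ p ^ k ∈ Subgroup.centralizer
        (((U.subgroupOf (normalizerIn T U)).map ι : Subgroup L) : Set L) := by
      refine Subgroup.mem_centralizer_iff.mpr ?_
      rintro _ ⟨x, hx, rfl⟩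
      obtain ⟨_, he⟩ := key (p ^ k) x hx
      rw [show (⟨s ^ p ^ k * (x : Ω) * (s ^ p ^ k)⁻¹, _⟩ : ↥(normalizerIn T U)) = x from
        Subtype.ext (by show s ^ p ^ k * (x : Ω) * (s ^ p ^ k)⁻¹ = x; rw [hk']; simp)] at he
      calc ι x * g ^ p ^ k = g ^ p ^ k * ι x * (g ^ p ^ k)⁻¹ * g ^ p ^ k := by rw [← he]
        _ = g ^ p ^ k * ι x := by group
    obtain ⟨a, ha, hae⟩ := h.isLocal.shape.cent hcent
    obtain ⟨m, hm⟩ := hS ⟨a, hTS a.2.1⟩
    have ha' : a ^ p ^ m = 1 := Subtype.ext (by simpa using congrArg Subtype.val hm)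
    have hg1 : g ^ p ^ (k + m) = 1 := by rw [pow_add, pow_mul, ← hae, ← map_pow, ha', map_one]
    exact orderOf_eq_one_iff.mp (Nat.eq_one_of_dvd_coprimes (hgp.pow_right (k + m))
      dvd_rfl (orderOf_dvd_of_pow_eq_one hg1))
  have hNp : IsPGroup p N := IsPGroup.iff_orderOf.mpr fun k => by
    obtain ⟨a, m, hm, he⟩ := Nat.exists_eq_pow_mul_and_not_dvd (orderOf_pos k).ne' p
      (Fact.out : p.Prime).ne_one
    have h1 : orderOf ((k : L) ^ p ^ a) ∣ m := orderOf_dvd_of_pow_eq_one (by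
      rw [← pow_mul, ← he, ← Subgroup.orderOf_coe, pow_orderOf_eq_one])
    have h2 := hone _ (N.pow_mem k.2 _) (Nat.Coprime.coprime_dvd_left h1
      (Nat.coprime_comm.mp ((Fact.out : p.Prime).coprime_iff_not_dvd.mpr hm)))
    obtain ⟨j, -, hj⟩ := (Nat.dvd_prime_pow Fact.out).mp
      (orderOf_dvd_of_pow_eq_one (show k ^ p ^ a = 1 from Subtype.ext h2))
    exact ⟨j, hj⟩
  obtain ⟨P₀, hP₀⟩ := h.isLocal.sylow
  exact hP₀ ▸ (P₀.3 hNp (hP₀ ▸ hY)).le

/-- If the criterion holds in the local quotients and the maps stabilizing the sections over a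
normal subgroup with a `p`-group of automorphisms are inner, all maps are inner. -/
theorem inner_of_normalizer_family [Finite S] (hS : IsPGroup p S)
    {κ : Type*} [Nonempty κ] {W : κ → ∀ (Q : Type u) [Group Q], Subgroup Q}
    (hW1 : ∀ (i : κ) (Q : Type u) [Group Q] [Finite Q], IsPGroup p Q → Nontrivial Q → W i Q ≠ ⊥)
    (hW : ∀ i, IsInvariantW p (W i)) (X : ∀ T : Subgroup Ω, Cfsg.FusionSystem T → Prop)
    (hXN : ∀ {T : Subgroup Ω} {D : Cfsg.FusionSystem T}, T ≤ S → D.IsSaturated p → X T D →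
      ∀ (V : Subgroup Ω) (hV : D.IsFullyNormalized V),
        X (normalizerIn T V) (normalizerSystem D V hV.1))
    (hXC : ∀ {T : Subgroup Ω} {D : Cfsg.FusionSystem T}, T ≤ S → D.IsSaturated p → X T D →
      ∀ (Q : Subgroup Ω) (hQ : D.IsNormal Q) (hn : T ≤ Subgroup.normalizer (Q : Set Ω)),
        X T (centralTypeSystem D Q hQ.1 hn))
    (hcrit : ∀ {T : Subgroup Ω} {D : Cfsg.FusionSystem T}, T ≤ S → D.IsSaturated p → X T D →
      ∀ (Q₀ U : Subgroup Ω) (L : Type u) [Group L] (ι : ↥(normalizerIn T U) →* L),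
      LocalCond p D Q₀ ι → ∀ [((Q₀.subgroupOf (normalizerIn T U)).map ι).Normal],
      ∀ P : Sylow p (L ⧸ (Q₀.subgroupOf (normalizerIn T U)).map ι),
        Subgroup.centralizer ((pCore p (L ⧸ (Q₀.subgroupOf (normalizerIn T U)).map ι) :
          Subgroup _) : Set (L ⧸ (Q₀.subgroupOf (normalizerIn T U)).map ι)) ≤ pCore p _ →
        (∀ i, Subgroup.normalizer (((W i ↥(P : Subgroup (L ⧸ (Q₀.subgroupOf (normalizerIn T U)).map ι))).map
          (P : Subgroup (L ⧸ (Q₀.subgroupOf (normalizerIn T U)).map ι)).subtype : Subgroup _) :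
          Set (L ⧸ (Q₀.subgroupOf (normalizerIn T U)).map ι)) ≤ P) →
        IsPGroup p (L ⧸ (Q₀.subgroupOf (normalizerIn T U)).map ι))
    {F : Cfsg.FusionSystem S} (hF : F.IsSaturated p) (hX : X S F) {Q₀ : Subgroup Ω}
    (hQ₀ : F.IsNormal Q₀) (hc : IsPGroup p (F.autGroup Q₀))
    (hant : ∀ i P f, IsMap F P f → ExtendsStab F (secW (W i) S Q₀) P f →
      ∃ g ∈ S, ∀ x ∈ P, f x = g * x * g⁻¹) :
    ∀ P : Subgroup Ω, F.Hom P = (Cfsg.innerFusionSystem S).Hom P := by
  have key : ∀ {T : Subgroup Ω} {D : Cfsg.FusionSystem T}, T ≤ S → D.IsSaturated p → X T D →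
      ∀ (Q₁ U : Subgroup Ω) (L : Type u) [Group L] (ι : ↥(normalizerIn T U) →* L),
      LocalCond p D Q₁ ι →
      (∀ i, ∀ g ∈ Subgroup.normalizer ((secW (W i) ι.range
        ((Q₁.subgroupOf (normalizerIn T U)).map ι) : Subgroup L) : Set L),
          ConjIn D (Cfsg.innerFusionSystem S) ι g) →
      ∀ g : L, g ∈ ι.range := by
    intro T D hTS hD hXD Q₁ U L _ ι h hg' g
    haveI : Finite T := Fusion.finite_of_le hTS
    have := h.isLocal.fin
    haveI := h.normal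
    obtain ⟨P₀, hP₀⟩ := h.isLocal.sylow
    have hrp : IsPGroup p ι.range := hP₀ ▸ P₀.2
    have hYr : ∀ i, ι.range ≤ Subgroup.normalizer ((secW (W i) ι.range
        ((Q₁.subgroupOf (normalizerIn T U)).map ι) : Subgroup L) : Set L) := fun i =>
      le_normalizer_secW _ _ (normal_W (hW i) _ (hrp.to_quotient _))
    have hNY := fun i => h.normalizer_le_range hS hTS (hYr i) (hg' i)
    obtain ⟨i₀⟩ := ‹Nonempty κ›
    obtain ⟨P, hP, -⟩ := h.exists_sylow (W := W i₀) (hW i₀)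
    have hp := hcrit hTS hD hXD Q₁ U L ι h P (h.centralizer_le (hS.to_le hTS)) (fun i y hy => by
      obtain ⟨P', hP', hPY⟩ := h.exists_sylow (W := W i) (hW i)
      obtain rfl : P = P' := Sylow.ext (hP.trans hP'.symm)
      obtain ⟨k, rfl⟩ := QuotientGroup.mk'_surjective _ y
      rw [← hPY, h.mem_normalizer_secW_iff] at hy
      rw [hP]
      exact ⟨k, hNY i hy, rfl⟩)
    have hL : IsPGroup p L := by
      intro x
      obtain ⟨m, hm⟩ := hp (QuotientGroup.mk' _ x)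
      rw [← map_pow] at hm
      obtain ⟨j, hj⟩ := h.isPGroup_map (hS.to_le hTS) ⟨_, (QuotientGroup.eq_one_iff _).mp hm⟩
      exact ⟨m + j, by rw [pow_add, pow_mul]; exact congrArg Subtype.val hj⟩
    rw [← hP₀, ← P₀.3 (hL.to_subgroup ⊤) le_top]
    exact Subgroup.mem_top g
  have hd : ControlFamily p (Cfsg.innerFusionSystem S) W fun T D =>
      T ≤ S ∧ D.IsSaturated p ∧ X T D :=
    { nontriv := hW1
      invariant := hW
      le := fun h => h.1
      saturated := fun h => h.2.1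
      normalizer := fun h V hV => by
        haveI := Fusion.finite_of_le h.1
        exact ⟨(Fusion.normalizerIn_le _ V).trans h.1,
          normalizerSystem_isSaturated (hS.to_le h.1) h.2.1 hV, hXN h.1 h.2.1 h.2.2 V hV⟩
      centralType := fun h Q hQ hn => by
        haveI := Fusion.finite_of_le h.1
        exact ⟨h.1, centralType_isSaturated (hS.to_le h.1) h.2.1 hQ, hXC h.1 h.2.1 h.2.2 Q hQ hn⟩
      loc := fun {T D} hG Q₁ U L _ ι h hant g f hf hfU he => by
        obtain ⟨a, rfl⟩ := key hG.1 hG.2.1 hG.2.2 Q₁ U L ι h hant g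
        have hUle := h.isLocal.shape.le
        refine isMap_inner_iff.mpr ⟨hf.dom_le.trans hG.1, a, hG.1 a.2.1, fun x hx => ?_⟩
        have hfx : f x ∈ normalizerIn T U := hUle (hfU.subset ⟨x, hx, rfl⟩)
        have h1 := he x (hUle hx) hx hfx
        rw [← map_inv, ← map_mul, ← map_mul] at h1
        exact congrArg Subtype.val (h.isLocal.shape.inj h1)
      constrained := fun {T D} hG Q₁ U L _ ι h _ hant _ g => by
        obtain ⟨a, rfl⟩ := key hG.1 hG.2.1 hG.2.2 Q₁ U L ι h hant g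
        intro R hR hUR f hf hfU he
        refine isMap_inner_iff.mpr ⟨hf.dom_le.trans hG.1, a, hG.1 a.2.1, fun x hx => ?_⟩
        have hfx : f x ∈ normalizerIn T U :=
          Fusion.map_mem_normalizer hf hUR hfU hx (hR hx).2
        have h1 := he x hx hfx
        rw [← map_inv, ← map_mul, ← map_mul] at h1
        exact congrArg Subtype.val (h.isLocal.shape.inj h1) }
  have hall := hd.control hS F Q₀ ⟨le_rfl, hF, hX⟩ hQ₀ hc fun i P f hf hext =>
    isMap_inner_iff.mpr ⟨hf.dom_le, hant i P f hf hext⟩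
  intro P
  ext φ
  refine ⟨fun hφ => (hall P _ (isMap_extFun hφ)).mem_hom fun x => (extFun_coe φ x).symm, ?_⟩
  rintro ⟨hP, g, hg, hφ⟩
  exact (isMap_conj (F := F) hP hg).mem_hom fun x => hφ x

/-- If the criterion holds in the local quotients and the maps stabilizing `W(S)` are inner, all
maps are inner. -/
theorem inner_of_normalizer [Finite S] (hS : IsPGroup p S)
    {W : ∀ (Q : Type u) [Group Q], Subgroup Q}
    (hW1 : ∀ (Q : Type u) [Group Q] [Finite Q], IsPGroup p Q → Nontrivial Q → W Q ≠ ⊥)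
    (hW : IsInvariantW p W) (X : ∀ T : Subgroup Ω, Cfsg.FusionSystem T → Prop)
    (hXN : ∀ {T : Subgroup Ω} {D : Cfsg.FusionSystem T}, T ≤ S → D.IsSaturated p → X T D →
      ∀ (V : Subgroup Ω) (hV : D.IsFullyNormalized V),
        X (normalizerIn T V) (normalizerSystem D V hV.1))
    (hXC : ∀ {T : Subgroup Ω} {D : Cfsg.FusionSystem T}, T ≤ S → D.IsSaturated p → X T D →
      ∀ (Q : Subgroup Ω) (hQ : D.IsNormal Q) (hn : T ≤ Subgroup.normalizer (Q : Set Ω)),
        X T (centralTypeSystem D Q hQ.1 hn))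
    (hcrit : ∀ {T : Subgroup Ω} {D : Cfsg.FusionSystem T}, T ≤ S → D.IsSaturated p → X T D →
      ∀ (Q₀ U : Subgroup Ω) (L : Type u) [Group L] (ι : ↥(normalizerIn T U) →* L),
      LocalCond p D Q₀ ι → ∀ [((Q₀.subgroupOf (normalizerIn T U)).map ι).Normal],
      ∀ P : Sylow p (L ⧸ (Q₀.subgroupOf (normalizerIn T U)).map ι),
        Subgroup.centralizer ((pCore p (L ⧸ (Q₀.subgroupOf (normalizerIn T U)).map ι) :
          Subgroup _) : Set (L ⧸ (Q₀.subgroupOf (normalizerIn T U)).map ι)) ≤ pCore p _ →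
        Subgroup.normalizer (((W ↥(P : Subgroup (L ⧸ (Q₀.subgroupOf (normalizerIn T U)).map ι))).map
          (P : Subgroup (L ⧸ (Q₀.subgroupOf (normalizerIn T U)).map ι)).subtype : Subgroup _) :
          Set (L ⧸ (Q₀.subgroupOf (normalizerIn T U)).map ι)) ≤ P →
        IsPGroup p (L ⧸ (Q₀.subgroupOf (normalizerIn T U)).map ι))
    {F : Cfsg.FusionSystem S} (hF : F.IsSaturated p) (hX : X S F)
    (hant : ∀ P f, IsMap F P f → ExtendsStab F ((W ↥S).map S.subtype) P f →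
      ∃ g ∈ S, ∀ x ∈ P, f x = g * x * g⁻¹) :
    ∀ P : Subgroup Ω, F.Hom P = (Cfsg.innerFusionSystem S).Hom P :=
  inner_of_normalizer_family (W := fun _ : Unit => W) hS (fun _ => hW1) (fun _ => hW) X hXN hXC
    (fun hT hD hXD Q₁ U L _ ι h _ P hc' hle => hcrit hT hD hXD Q₁ U L ι h P hc' (hle ()))
    hF hX (Fusion91.isNormal_bot F)
    (haveI : Subsingleton (MulAut (⊥ : Subgroup Ω)) :=
      ⟨fun a b => MulEquiv.ext fun x => Subsingleton.elim _ _⟩
    fun a => ⟨0, Subsingleton.elim _ _⟩)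
    fun _ P f hf hext => hant P f hf (secW_bot hW S hS ▸ hext)

/-- An inner normalizer system gives the antecedent. -/
theorem inner_of_normalizerSystem [Finite S] {F : Cfsg.FusionSystem S} {V : Subgroup Ω}
    (hV : V ≤ S) (hSV : S ≤ Subgroup.normalizer (V : Set Ω))
    (h : ∀ N : Cfsg.FusionSystem (normalizerIn S V), F.IsNormalizerSystem V N →
      ∀ P : Subgroup Ω, N.Hom P = (Cfsg.innerFusionSystem (normalizerIn S V)).Hom P)
    (P : Subgroup Ω) (f : Ω → Ω) (hf : IsMap F P f) (hext : ExtendsStab F V P f) :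
    ∃ g ∈ S, ∀ x ∈ P, f x = g * x * g⁻¹ := by
  have hNS : normalizerIn S V = S := inf_eq_left.mpr hSV
  obtain ⟨φ, hφ, hφf⟩ : IsMap (normalizerSystem F V hV) P f :=
    (IsNormalizerSystem.isMap_iff (isNormalizerSystem_normalizerSystem V hV)).mpr
      ⟨hf, hNS.symm ▸ hf.dom_le, fun y hy => hNS.symm ▸ hf.apply_mem hy, hext⟩
  rw [h _ (isNormalizerSystem_normalizerSystem V hV) P] at hφ
  obtain ⟨-, g, hg, hge⟩ := hφ
  exact ⟨g, hg.1, fun x hx => (hφf ⟨x, hx⟩).symm.trans (hge ⟨x, hx⟩)⟩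

omit [Fact p.Prime] in
/-- An inner system has inner normalizer systems. -/
theorem normalizerSystem_inner [Finite S] {F : Cfsg.FusionSystem S} {V : Subgroup Ω}
    (hSV : S ≤ Subgroup.normalizer (V : Set Ω))
    (h : ∀ P : Subgroup Ω, F.Hom P = (Cfsg.innerFusionSystem S).Hom P)
    {N : Cfsg.FusionSystem (normalizerIn S V)} (hN : F.IsNormalizerSystem V N) (P : Subgroup Ω) :
    N.Hom P = (Cfsg.innerFusionSystem (normalizerIn S V)).Hom P := by
  ext φ
  refine ⟨fun hφ => ?_, ?_⟩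
  · obtain ⟨⟨ψ, hψ, hψf⟩, -⟩ := (IsNormalizerSystem.isMap_iff hN).mp (isMap_extFun hφ)
    rw [h P] at hψ
    obtain ⟨hP, g, hg, hge⟩ := hψ
    exact ⟨(N.le_of_mem hφ).1, g, ⟨hg, hSV hg⟩, fun x => by
      rw [← extFun_coe φ x, ← hψf x, hge x]⟩
  · rintro ⟨hP, g, hg, hφ⟩
    exact (isMap_conj (F := N) hP hg).mem_hom fun x => hφ x

end Cfsg.Agent.Fusion92
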