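import Cfsg.Agent.Fusion92.Control

set_option autoImplicit false

/-! The quotient of a local model by a centralized normal subgroup. -/

namespace Cfsg.Agent.Fusion92

open Cfsg Cfsg.Agent.Fusion
open Cfsg.FusionSystem (normalizerIn centralizerIn)

universe u

variable {Ω : Type u} [Group Ω] {S T : Subgroup Ω} {D : Cfsg.FusionSystem T} {p : ℕ} [Fact p.Prime]
  {Q₀ U : Subgroup Ω} {L : Type u} [Group L] {ι : ↥(normalizerIn T U) →* L}

omit [Fact p.Prime] in
theorem LocalCond.isPGroup_map (h : LocalCond p D Q₀ ι) (hT : IsPGroup p T) :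
    IsPGroup p ((Q₀.subgroupOf (normalizerIn T U)).map ι : Subgroup L) :=
  ((hT.to_le (Fusion.normalizerIn_le T U)).to_subgroup _).map ι

omit [Fact p.Prime] in
theorem LocalCond.map_le_pCore (h : LocalCond p D Q₀ ι) (hT : IsPGroup p T) :
    (Q₀.subgroupOf (normalizerIn T U)).map ι ≤ pCore p L :=
  Thompson.le_pCore h.normal (h.isPGroup_map hT)

/-- A group element of coprime order centralizing a series is trivial. -/
theorem eq_one_of_commutator_mem {G : Type u} [Group G] {B : Subgroup G} (hB : IsPGroup p B)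
    {g o : G} (hg : (orderOf g).Coprime p) (hc : g ∈ Subgroup.centralizer (B : Set G))
    (ho : g * o * g⁻¹ * o⁻¹ ∈ B) : g * o * g⁻¹ = o := by
  set b := g * o * g⁻¹ * o⁻¹ with hb
  have hgb : g * b * g⁻¹ = b := by
    rw [← Subgroup.mem_centralizer_iff.mp hc b ho]; group
  have key : ∀ n : ℕ, g ^ n * o * (g ^ n)⁻¹ = b ^ n * o := by
    intro n
    induction n with
    | zero => simp
    | succ n ih =>
      calc g ^ (n + 1) * o * (g ^ (n + 1))⁻¹ = g * (g ^ n * o * (g ^ n)⁻¹) * g⁻¹ := by
            rw [pow_succ']; group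
        _ = g * (b ^ n * o) * g⁻¹ := by rw [ih]
        _ = (g * b * g⁻¹) ^ n * (g * o * g⁻¹) := by rw [conj_pow]; group
        _ = b ^ n * (b * o) := by rw [hgb, hb]; group
        _ = b ^ (n + 1) * o := by rw [pow_succ]; group
  have h1 : b ^ orderOf g = 1 := by
    have := key (orderOf g)
    rw [pow_orderOf_eq_one] at this
    simpa using this.symm
  obtain ⟨m, hm⟩ := hB ⟨b, ho⟩
  have h2 : b = 1 := orderOf_eq_one_iff.mp (Nat.eq_one_of_dvd_coprimes
    ((Nat.coprime_comm.mp hg).pow_left m)
    (orderOf_dvd_of_pow_eq_one (congrArg Subtype.val hm)) (orderOf_dvd_of_pow_eq_one h1))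
  exact (mul_inv_eq_one.mp (hb.symm.trans h2))

/-- The quotient of a local model by a centralized normal subgroup has characteristic `p`. -/
theorem LocalCond.centralizer_le [Finite T] (h : LocalCond p D Q₀ ι) (hT : IsPGroup p T)
    [hn : ((Q₀.subgroupOf (normalizerIn T U)).map ι).Normal] :
    Subgroup.centralizer
      ((pCore p (L ⧸ (Q₀.subgroupOf (normalizerIn T U)).map ι) : Subgroup _) : Set _) ≤
        pCore p (L ⧸ (Q₀.subgroupOf (normalizerIn T U)).map ι) := by
  have := h.isLocal.fin
  set B := (Q₀.subgroupOf (normalizerIn T U)).map ι with hBdef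
  have hBp : IsPGroup p B := h.isPGroup_map hT
  let π := QuotientGroup.mk' B
  have hπ : Function.Surjective π := QuotientGroup.mk'_surjective B
  let K : Subgroup L := (Subgroup.centralizer ((pCore p (L ⧸ B) : Subgroup _) : Set _)).comap π
  have hKn : K.Normal := inferInstance
  have hKp : IsPGroup p K := by
    refine IsPGroup.iff_orderOf.mpr fun k => ?_
    obtain ⟨a, m, hm, he⟩ := Nat.exists_eq_pow_mul_and_not_dvd (orderOf_pos k).ne' p
      (Fact.out : p.Prime).ne_one
    set g : L := (k : L) ^ p ^ a with hgdef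
    have hgm : orderOf g ∣ m := orderOf_dvd_of_pow_eq_one (by
      rw [hgdef, ← pow_mul, ← he, ← Subgroup.orderOf_coe, pow_orderOf_eq_one])
    have hgp : (orderOf g).Coprime p := Nat.Coprime.coprime_dvd_left hgm
      (Nat.coprime_comm.mp ((Fact.out : p.Prime).coprime_iff_not_dvd.mpr hm))
    have hgK : g ∈ K := K.pow_mem k.2 _
    have hgO : g ∈ Subgroup.centralizer ((pCore p L : Subgroup L) : Set L) := by
      refine Subgroup.mem_centralizer_iff.mpr fun o ho => ?_
      have h1 := Subgroup.mem_centralizer_iff.mp (show π g ∈ _ from hgK) (π o)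
        (Thompson.map_pCore_le_of_surjective π hπ ⟨o, ho, rfl⟩)
      have h2 : g * o * g⁻¹ * o⁻¹ ∈ B := (QuotientGroup.eq_one_iff _).mp (by
        show π (g * o * g⁻¹ * o⁻¹) = 1
        simp only [map_mul, map_inv]
        rw [← h1]; group)
      calc o * g = (g * o * g⁻¹) * g := by
            rw [eq_one_of_commutator_mem hBp hgp (h.central g hgp) h2]
        _ = g * o := by group
    have hgp' := h.isLocal.centralizer_pCore_le hT hgO
    obtain ⟨j, hj⟩ := IsPGroup.iff_orderOf.mp Thompson.isPGroup_pCore (⟨g, hgp'⟩ : pCore p L)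
    rw [Subgroup.orderOf_mk] at hj
    have hg1 : g = 1 := by
      rw [hj] at hgp
      rcases Nat.eq_zero_or_pos j with rfl | hj0
      · rwa [pow_zero, orderOf_eq_one_iff] at hj
      · exact absurd ((Nat.coprime_pow_left_iff hj0 _ _).mp hgp)
          fun hh => (Fact.out : p.Prime).one_lt.ne' ((Nat.coprime_self p).mp hh)
    have hkk : orderOf k ∣ p ^ a := orderOf_dvd_of_pow_eq_one (Subtype.ext hg1)
    obtain ⟨j', -, hj'⟩ := (Nat.dvd_prime_pow Fact.out).mp hkk
    exact ⟨j', hj'⟩
  intro x hx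
  obtain ⟨g, rfl⟩ := hπ x
  exact Thompson.map_pCore_le_of_surjective π hπ ⟨g, Thompson.le_pCore hKn hKp hx, rfl⟩

/-- The Sylow subgroup of the quotient and its image of the section. -/
theorem LocalCond.exists_sylow [Finite T] (h : LocalCond p D Q₀ ι)
    [hn : ((Q₀.subgroupOf (normalizerIn T U)).map ι).Normal]
    {W : ∀ (Q : Type u) [Group Q], Subgroup Q} (hW : IsInvariantW p W) :
    ∃ P : Sylow p (L ⧸ (Q₀.subgroupOf (normalizerIn T U)).map ι),
      (P : Subgroup (L ⧸ (Q₀.subgroupOf (normalizerIn T U)).map ι)) = ι.range.map (QuotientGroup.mk' _) ∧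
      (secW W ι.range ((Q₀.subgroupOf (normalizerIn T U)).map ι)).map (QuotientGroup.mk' _) =
        (W ↥(P : Subgroup (L ⧸ (Q₀.subgroupOf (normalizerIn T U)).map ι))).map (P : Subgroup (L ⧸ (Q₀.subgroupOf (normalizerIn T U)).map ι)).subtype := by
  have := h.isLocal.fin
  obtain ⟨P₀, hP₀⟩ := h.isLocal.sylow
  have hrange : IsPGroup p ι.range := hP₀ ▸ P₀.isPGroup'
  obtain ⟨P, hP⟩ : ∃ P : Sylow p (L ⧸ (Q₀.subgroupOf (normalizerIn T U)).map ι),
      (P : Subgroup (L ⧸ (Q₀.subgroupOf (normalizerIn T U)).map ι)) =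
        ι.range.map (QuotientGroup.mk' _) :=
    ⟨P₀.mapSurjective (QuotientGroup.mk'_surjective _), by rw [Sylow.coe_mapSurjective, hP₀]⟩
  refine ⟨P, hP, ?_⟩
  rw [map_secW_quotient hW _ _ hrange]
  have aux : ∀ X Y : Subgroup (L ⧸ (Q₀.subgroupOf (normalizerIn T U)).map ι), X = Y →
      (W ↥X).map X.subtype = (W ↥Y).map Y.subtype := by rintro _ _ rfl; rfl
  exact aux _ _ hP.symm

omit [Fact p.Prime] in
/-- The section contains the subgroup it is taken over. -/
theorem LocalCond.le_secW' (h : LocalCond p D Q₀ ι)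
    {W : ∀ (Q : Type u) [Group Q], Subgroup Q} :
    (Q₀.subgroupOf (normalizerIn T U)).map ι ≤
      secW W ι.range ((Q₀.subgroupOf (normalizerIn T U)).map ι) :=
  le_secW (Subgroup.map_le_range ι _) (haveI := h.normal; inferInstance)

omit [Fact p.Prime] in
/-- The normalizer of the section is the preimage of the normalizer in the quotient. -/
theorem LocalCond.mem_normalizer_secW_iff [Finite T] (h : LocalCond p D Q₀ ι)
    [hn : ((Q₀.subgroupOf (normalizerIn T U)).map ι).Normal]
    {W : ∀ (Q : Type u) [Group Q], Subgroup Q} {g : L} :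
    QuotientGroup.mk' ((Q₀.subgroupOf (normalizerIn T U)).map ι) g ∈
      Subgroup.normalizer (((secW W ι.range ((Q₀.subgroupOf (normalizerIn T U)).map ι)).map
        (QuotientGroup.mk' ((Q₀.subgroupOf (normalizerIn T U)).map ι)) : Subgroup _) :
          Set (L ⧸ (Q₀.subgroupOf (normalizerIn T U)).map ι)) ↔
      g ∈ Subgroup.normalizer
        ((secW W ι.range ((Q₀.subgroupOf (normalizerIn T U)).map ι) : Subgroup L) : Set L) := by
  rw [← Subgroup.mem_comap, Subgroup.comap_normalizer_eq_of_surjective _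
    (QuotientGroup.mk'_surjective _), Subgroup.comap_map_eq, QuotientGroup.ker_mk',
    sup_eq_left.mpr h.le_secW']

end Cfsg.Agent.Fusion92
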