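import Cfsg.Agent.Fusion92.Biset

set_option autoImplicit false

/-! Models of the normalizer systems of centric subgroups. -/

namespace Cfsg.Agent.Fusion92

open Cfsg Cfsg.FusionSystem Cfsg.Agent.Fusion91
open scoped IsMulCommutative

universe u

variable {Ω : Type u} [Group Ω] {S : Subgroup Ω} [Finite S] {p : ℕ} [Fact p.Prime]
  {F : Cfsg.FusionSystem S} {U : Subgroup Ω}

namespace ModelSetup

variable (h : ModelSetup p F U)
include h

/-- Right equivariant permutations of the biset lying over elements of `Aut_F(U)`. -/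
def lifts : Subgroup (F.autGroup U × Equiv.Perm h.X) where
  carrier := {e | (∀ (b : ↥(normalizerIn S U)) (x : h.X),
      e.2 (((1, b) : ↥(normalizerIn S U) × ↥(normalizerIn S U)) • x) =
        ((1, b) : ↥(normalizerIn S U) × ↥(normalizerIn S U)) • e.2 x) ∧
      ∀ x : h.X, h.mu (e.2 x) = e.1 * h.mu x}
  one_mem' := ⟨fun _ _ => rfl, fun x => by simp⟩
  mul_mem' := by
    rintro e f ⟨he₁, he₂⟩ ⟨hf₁, hf₂⟩
    refine ⟨fun b x => ?_, fun x => ?_⟩
    · show e.2 (f.2 _) = _
      rw [hf₁, he₁]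
      rfl
    · show h.mu (e.2 (f.2 x)) = e.1 * f.1 * _
      rw [he₂, hf₂, mul_assoc]
  inv_mem' := by
    rintro e ⟨he₁, he₂⟩
    refine ⟨fun b x => e.2.injective ?_, fun x => ?_⟩
    · show e.2 (e.2⁻¹ _) = e.2 _
      rw [he₁]
      simp
    · have h1 := he₂ (e.2⁻¹ x)
      rw [show e.2 (e.2⁻¹ x) = x by simp] at h1
      show h.mu (e.2⁻¹ x) = e.1⁻¹ * _
      rw [h1, inv_mul_cancel_left]

/-- The projection to `Aut_F(U)`. -/
def piE : h.lifts →* F.autGroup U := (MonoidHom.fst _ _).comp h.lifts.subtype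

/-- Left multiplication. -/
noncomputable def iotaE : ↥(normalizerIn S U) →* h.lifts :=
  (h.piA.prod ((MulAction.toPermHom (↥(normalizerIn S U) × ↥(normalizerIn S U)) h.X).comp
      (MonoidHom.inl _ _))).codRestrict h.lifts fun s => by
    refine ⟨fun b x => ?_, fun x => ?_⟩
    · show ((s, 1) : ↥(normalizerIn S U) × ↥(normalizerIn S U)) •
          (((1, b) : ↥(normalizerIn S U) × ↥(normalizerIn S U)) • x) =
        ((1, b) : ↥(normalizerIn S U) × ↥(normalizerIn S U)) •
          (((s, 1) : ↥(normalizerIn S U) × ↥(normalizerIn S U)) • x)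
      rw [← mul_smul, ← mul_smul]
      simp
    · show h.mu (((s, 1) : ↥(normalizerIn S U) × ↥(normalizerIn S U)) • x) = _
      rw [mu_smul]
      simp

theorem piE_iotaE (s : ↥(normalizerIn S U)) : h.piE (h.iotaE s) = h.piA s := rfl

theorem iotaE_apply (s : ↥(normalizerIn S U)) (x : h.X) :
    (h.iotaE s).1.2 x = ((s, 1) : ↥(normalizerIn S U) × ↥(normalizerIn S U)) • x := rfl

theorem lifts_ext {e f : h.lifts} (h₁ : h.piE e = h.piE f) (h₂ : ∀ x, e.1.2 x = f.1.2 x) :
    e = f :=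
  Subtype.ext (Prod.ext h₁ (Equiv.ext h₂))

theorem exists_lift (a : F.autGroup U) {R : Subgroup Ω} (hUR : U ≤ R)
    (hRN : R ≤ normalizerIn S U) {φ : R →* Ω} (hφ : φ ∈ F.Hom R)
    (hφa : ∀ (u : Ω) (hu : u ∈ U), φ ⟨u, hUR hu⟩ = (((a : MulAut U) ⟨u, hu⟩ : U) : Ω)) :
    ∃ e : h.lifts, h.piE e = a ∧ ∀ r : R,
      e * h.iotaE (Subgroup.inclusion hRN r) =
        h.iotaE ⟨φ r, h.mapsTo_normalizer a hUR hRN hφ hφa r⟩ * e := by
  have := h.finiteX
  let φN : R →* ↥(normalizerIn S U) :=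
    φ.codRestrict _ (h.mapsTo_normalizer a hUR hRN hφ hφa)
  have hπ : ∀ r : R, h.piA (φN r) = a * h.piA (Subgroup.inclusion hRN r) * a⁻¹ :=
    h.piA_of_map a hUR hRN hφ hφa
  let σ : R × ↥(normalizerIn S U) →* ↥(normalizerIn S U) × ↥(normalizerIn S U) :=
    (Subgroup.inclusion hRN).prodMap (MonoidHom.id _)
  let τ : R × ↥(normalizerIn S U) →* ↥(normalizerIn S U) × ↥(normalizerIn S U) :=
    φN.prodMap (MonoidHom.id _)
  let _ : MulAction (R × ↥(normalizerIn S U)) h.X := MulAction.compHom h.X σ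
  have hμ : ∀ g x y, h.mu y = a * h.mu x → h.mu (τ g • y) = a * h.mu (σ g • x) := by
    intro g x y hxy
    rw [mu_smul, mu_smul, hxy]
    show h.piA (φN g.1) * (a * h.mu x) * (h.piA g.2)⁻¹ =
      a * (h.piA (Subgroup.inclusion hRN g.1) * h.mu x * (h.piA g.2)⁻¹)
    rw [hπ]
    group
  -- at every point an image compatible with the stabilizer
  have hpt : ∀ x : h.X, ∃ y : h.X, h.mu y = a * h.mu x ∧ ∀ g, σ g • x = x → τ g • y = y := by
    intro x
    obtain ⟨θ, hθ, hθu, hθf⟩ := h.point_map x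
    obtain ⟨y₀, hy₀⟩ := h.mu_surjective (a * h.mu x)
    obtain ⟨θ', hθ', hθ'u, hθ'f⟩ := h.point_map y₀
    have hdom : ∀ r : R, Subgroup.inclusion hRN r ∈ h.dom (h.mu x) →
        φN r ∈ h.dom (h.mu y₀) := by
      intro r hr
      rw [mem_dom, hy₀, hπ]
      rw [mem_dom] at hr
      convert hr using 1
      group
    let R₁ : Subgroup Ω := R ⊓ h.domΩ (h.mu x)
    have hU₁ : U ≤ R₁ := le_inf hUR (h.le_domΩ _)
    have hmem : ∀ r : R₁, Subgroup.inclusion hRN ⟨r, r.2.1⟩ ∈ h.dom (h.mu x) :=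
      fun r => h.mem_domΩ.mp r.2.2
    obtain ⟨c, hc, hce⟩ := exists_comp F
      (restrict_mem F hφ (inf_le_left : R₁ ≤ R)) hθ'
      (fun r => h.mem_domΩ.mpr (hdom ⟨r, r.2.1⟩ (hmem r)))
    have hθ₁ := restrict_mem F hθ (inf_le_right : R₁ ≤ h.domΩ (h.mu x))
    obtain ⟨z, hzU, hzc, hz⟩ := agree_on_centric h.isP F h.sat h.centric hU₁ hθ₁ hc (by
      intro r hr
      rw [hce]
      show θ' ⟨φ ⟨r, r.2.1⟩, _⟩ = θ ⟨r, _⟩
      have h1 := hφa r hr
      have hru : φ ⟨r, r.2.1⟩ ∈ U := h1 ▸ SetLike.coe_mem _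
      rw [hθ'u _ hru, hθu _ hr]
      have h2 : (⟨φ ⟨r, r.2.1⟩, hru⟩ : U) = (a : MulAut U) ⟨r, hr⟩ := Subtype.ext h1
      rw [h2, hy₀]
      simp only [Subgroup.coe_mul, mul_inv_rev, MulAut.mul_apply, MulAut.inv_apply_self])
    have hwU : θ ⟨z, z.2.2⟩ ∈ U := hθu z hzU ▸ SetLike.coe_mem _
    let w : ↥(normalizerIn S U) := Subgroup.inclusion (le_normalizerIn h.le) ⟨_, hwU⟩
    have hπw : h.piA w = 1 := by
      refine Subtype.ext (MulEquiv.ext fun u => Subtype.ext ?_)
      obtain ⟨v, hv⟩ : ∃ v : U, (h.mu x : MulAut U)⁻¹ v = u := ⟨(h.mu x : MulAut U) u, by simp⟩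
      rw [piA_apply]
      show θ ⟨z, z.2.2⟩ * (u : Ω) * (θ ⟨z, z.2.2⟩)⁻¹ = u
      have hu : (u : Ω) = θ ⟨v, h.le_domΩ _ v.2⟩ := by rw [hθu v v.2, ← hv]
      rw [hu, mul_inv_eq_iff_eq_mul, ← map_mul, ← map_mul]
      exact congrArg θ (Subtype.ext (hzc v v.2))
    refine ⟨((1, w⁻¹) : ↥(normalizerIn S U) × ↥(normalizerIn S U)) • y₀, ?_, ?_⟩
    · rw [mu_smul, hy₀]
      simp [hπw]
    · rintro ⟨r, b⟩ hfix
      have hfix' : ((Subgroup.inclusion hRN r, b) :
          ↥(normalizerIn S U) × ↥(normalizerIn S U)) • x = x := hfix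
      have hr : Subgroup.inclusion hRN r ∈ h.dom (h.mu x) := by
        have h1 := congrArg h.mu hfix'
        rw [mu_smul, mul_inv_eq_iff_eq_mul] at h1
        exact h.mem_dom.mpr ⟨b, by rw [mul_assoc, h1, inv_mul_cancel_left]⟩
      obtain ⟨b₁, hb₁, hf₁⟩ := hθf ⟨_, hr⟩
      obtain ⟨b₂, hb₂, hf₂⟩ := hθ'f ⟨_, hdom r hr⟩
      have hbb : b = b₁ := by
        have h1 : (((1, b * b₁⁻¹)) : ↥(normalizerIn S U) × ↥(normalizerIn S U)) • x = x := by
          conv_lhs => rw [← hf₁, ← mul_smul]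
          conv_rhs => rw [← hfix']
          simp
        exact mul_inv_eq_one.mp (h.free_right h1)
      subst hbb
      have h1 := hz ⟨r, r.2, h.mem_domΩ.mpr hr⟩
      rw [hce] at h1
      have hb₂' : (b₂ : Ω) = θ ⟨z, z.2.2⟩ * b * (θ ⟨z, z.2.2⟩)⁻¹ := by
        rw [hb₂, hb₁]
        refine Eq.trans ?_ (h1.trans ?_)
        · rfl
        · show θ (Subgroup.inclusion _ _) = _
          rw [map_mul, map_mul, map_inv, map_mul, map_mul, map_inv]
          rfl
      have hb₂'' : b₂ = w * b * w⁻¹ := Subtype.ext hb₂'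
      show ((φN r, b) : ↥(normalizerIn S U) × ↥(normalizerIn S U)) • _ = _
      rw [← mul_smul]
      conv_rhs => rw [← hf₂, ← mul_smul]
      rw [hb₂'']
      simp [φN]
      group
  choose y hy hyfix using hpt
  let rep : h.X → h.X :=
    fun x => (Quotient.mk'' x : MulAction.orbitRel.Quotient (R × ↥(normalizerIn S U)) h.X).out
  have hrep : ∀ x, ∃ g, σ g • rep x = x := fun x =>
    MulAction.orbitRel_apply.mp (Quotient.exact'
      (Quotient.out_eq' (Quotient.mk'' x : MulAction.orbitRel.Quotient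
        (R × ↥(normalizerIn S U)) h.X)).symm)
  choose gx hgx using hrep
  let g : h.X → h.X := fun x => τ (gx x) • y (rep x)
  have hrepeq : ∀ k x, rep (σ k • x) = rep x := fun k x =>
    congrArg Quotient.out (Quotient.sound' (MulAction.orbitRel_apply.mpr ⟨k, rfl⟩))
  have hequiv : ∀ k x, g (σ k • x) = τ k • g x := by
    intro k x
    show τ (gx (σ k • x)) • y (rep (σ k • x)) = τ k • τ (gx x) • y (rep x)
    rw [← mul_smul, ← map_mul, hrepeq]
    have hst : σ ((k * gx x)⁻¹ * gx (σ k • x)) • rep x = rep x := by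
      have h1 := hgx (σ k • x)
      rw [hrepeq] at h1
      rw [map_mul, mul_smul, h1, map_inv, inv_smul_eq_iff, map_mul, mul_smul, hgx x]
    have h2 := hyfix _ _ hst
    rwa [map_mul, map_inv, mul_smul, inv_smul_eq_iff] at h2
  have hgμ : ∀ x, h.mu (g x) = a * h.mu x := fun x =>
    (hμ (gx x) (rep x) (y (rep x)) (hy _)).trans (by rw [hgx x])
  have hright : ∀ b x, g (((1, b) : ↥(normalizerIn S U) × ↥(normalizerIn S U)) • x) =
      ((1, b) : ↥(normalizerIn S U) × ↥(normalizerIn S U)) • g x := by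
    intro b x
    have h1 := hequiv (1, b) x
    simpa [σ, τ] using h1
  have hinj : Function.Injective g := by
    intro x x' hxx
    have h1 : h.mu x = h.mu x' := mul_left_cancel ((hgμ x).symm.trans (by rw [hxx, hgμ x']))
    obtain ⟨v, rfl⟩ := h.exists_fiber h1
    rw [hright] at hxx
    rw [h.free_right hxx.symm]
    exact (one_smul _ x).symm
  refine ⟨⟨(a, Equiv.ofBijective g (Finite.injective_iff_bijective.mp hinj)), hright, hgμ⟩,
    rfl, fun r => ?_⟩
  refine h.lifts_ext ?_ fun x => ?_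
  · rw [map_mul, map_mul, piE_iotaE, piE_iotaE]
    show a * _ = h.piA (φN r) * a
    rw [hπ]
    group
  · show g (((Subgroup.inclusion hRN r, 1) : ↥(normalizerIn S U) × ↥(normalizerIn S U)) • x) =
      ((φN r, 1) : ↥(normalizerIn S U) × ↥(normalizerIn S U)) • g x
    simpa [σ, τ] using hequiv (r, 1) x

/-- The action of `Aut_F(U)` on the centre of `U`. -/
def actZ (a : F.autGroup U) : Subgroup.center U →* Subgroup.center U :=
  (((a : MulAut U).toMonoidHom).comp (Subgroup.center U).subtype).codRestrict _ fun w =>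
    Subgroup.mem_center_iff.mpr fun u => by
      obtain ⟨v, rfl⟩ := (a : MulAut U).surjective u
      show (a : MulAut U) v * (a : MulAut U) w = (a : MulAut U) w * (a : MulAut U) v
      rw [← map_mul, ← map_mul, Subgroup.mem_center_iff.mp w.2 v]

theorem actZ_mul (a b : F.autGroup U) (w : Subgroup.center U) :
    actZ (a * b) w = actZ a (actZ b w) := rfl

theorem actZ_one (w : Subgroup.center U) : actZ (1 : F.autGroup U) w = w := rfl

theorem conj_zin (n : ↥(normalizerIn S U)) (w : Subgroup.center U) :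
    n * h.zin w * n⁻¹ = h.zin (actZ (h.piA n) w) := Subtype.ext rfl

theorem exists_val (k : h.piE.ker) (x : h.X) :
    ∃ w, k.1.1.2 x = ((1, h.zin w) : ↥(normalizerIn S U) × ↥(normalizerIn S U)) • x := by
  refine h.exists_fiber ?_
  rw [k.1.2.2, show k.1.1.1 = (1 : F.autGroup U) from k.2, one_mul]

theorem val_unique {w w' : Subgroup.center U} {x : h.X}
    (he : ((1, h.zin w) : ↥(normalizerIn S U) × ↥(normalizerIn S U)) • x =
      ((1, h.zin w') : ↥(normalizerIn S U) × ↥(normalizerIn S U)) • x) : w = w' := by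
  have h1 : ((1, h.zin (w'⁻¹ * w)) : ↥(normalizerIn S U) × ↥(normalizerIn S U)) • x = x := by
    rw [map_mul, map_inv, show ((1, (h.zin w')⁻¹ * h.zin w) :
        ↥(normalizerIn S U) × ↥(normalizerIn S U)) = (1, h.zin w')⁻¹ * (1, h.zin w) by simp,
      mul_smul, he, inv_smul_smul]
  have h2 := h.zin_injective ((h.free_right h1).trans (map_one h.zin).symm)
  exact (inv_mul_eq_one.mp h2).symm

/-- The central twist of a kernel element at a point, transported to `1`. -/
noncomputable def fval (k : h.piE.ker) (x : h.X) : Subgroup.center U :=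
  actZ (h.mu x) (h.exists_val k x).choose

theorem fval_eq {k : h.piE.ker} {x : h.X} {w : Subgroup.center U}
    (he : k.1.1.2 x = ((1, h.zin w) : ↥(normalizerIn S U) × ↥(normalizerIn S U)) • x) :
    h.fval k x = actZ (h.mu x) w :=
  congrArg _ (h.val_unique ((h.exists_val k x).choose_spec.symm.trans he))

theorem fval_congr (k : h.piE.ker) {x x' : h.X}
    (hc : (QuotientGroup.mk (h.mu x) : F.autGroup U ⧸ h.autS) = QuotientGroup.mk (h.mu x')) :
    h.fval k x = h.fval k x' := by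
  obtain ⟨n, hn⟩ := QuotientGroup.eq.mp hc
  have hμ : h.mu (((1, n⁻¹) : ↥(normalizerIn S U) × ↥(normalizerIn S U)) • x) = h.mu x' := by
    rw [mu_smul, map_one, one_mul, map_inv, inv_inv, hn, mul_inv_cancel_left]
  obtain ⟨w₀, rfl⟩ := h.exists_fiber hμ
  obtain ⟨w, hw⟩ := h.exists_val k x
  rw [← mul_smul, Prod.mk_mul_mk, one_mul]
  set b := h.zin w₀ * n⁻¹
  rw [h.fval_eq hw, h.fval_eq (x := ((1, b) : ↥(normalizerIn S U) × ↥(normalizerIn S U)) • x)
    (w := actZ (h.piA b) w), mu_smul, map_one, one_mul, ← h.actZ_mul, inv_mul_cancel_right]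
  rw [k.1.2.1, hw, ← mul_smul, ← mul_smul, ← h.conj_zin]
  simp

/-- A chosen point over the representative of a right coset. -/
noncomputable def pt (c : F.autGroup U ⧸ h.autS) : h.X :=
  (h.mu_surjective c.out).choose

theorem mk_mu_pt (c : F.autGroup U ⧸ h.autS) :
    (QuotientGroup.mk (h.mu (h.pt c)) : F.autGroup U ⧸ h.autS) = c := by
  rw [pt, (h.mu_surjective c.out).choose_spec, QuotientGroup.out_eq']

theorem fval_mul (k k' : h.piE.ker) (x : h.X) :
    h.fval (k * k') x = h.fval k x * h.fval k' x := by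
  obtain ⟨w, hw⟩ := h.exists_val k x
  obtain ⟨w', hw'⟩ := h.exists_val k' x
  rw [h.fval_eq hw, h.fval_eq hw', ← map_mul]
  refine h.fval_eq ?_
  show k.1.1.2 (k'.1.1.2 x) = _
  rw [hw', k.1.2.1, hw, ← mul_smul, mul_comm w w']
  simp

theorem fval_one (x : h.X) : h.fval 1 x = 1 := by
  rw [h.fval_eq (k := 1) (x := x) (w := 1), map_one]
  rw [map_one]
  exact (one_smul _ x).symm

/-- The norm of a kernel element. -/
noncomputable def norm : h.piE.ker →* Subgroup.center U :=
  have := h.finiteA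
  MonoidHom.mk' (fun k => ∏ᶠ c, h.fval k (h.pt c)) fun k k' => by
    rw [← finprod_mul_distrib (Set.toFinite _) (Set.toFinite _)]
    exact finprod_congr fun c => h.fval_mul k k' _

theorem norm_apply (k : h.piE.ker) : h.norm k = ∏ᶠ c, h.fval k (h.pt c) := rfl

/-- The subgroup to be factored out. -/
noncomputable def normKer : Subgroup h.lifts := h.norm.ker.map h.piE.ker.subtype

theorem mem_normKer {e : h.lifts} : e ∈ h.normKer ↔ ∃ he : h.piE e = 1, h.norm ⟨e, he⟩ = 1 := by
  constructor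
  · rintro ⟨k, hk, rfl⟩; exact ⟨k.2, hk⟩
  · rintro ⟨he, hn⟩; exact ⟨⟨e, he⟩, hn, rfl⟩

theorem normKer_normal : h.normKer.Normal where
  conj_mem := by
    have := h.finiteA
    intro k hk e
    obtain ⟨hk1, hk⟩ := h.mem_normKer.mp hk
    refine h.mem_normKer.mpr ⟨by rw [map_mul, map_mul, hk1, map_inv, mul_one, mul_inv_cancel], ?_⟩
    have key : ∀ x, h.fval ⟨e * k * e⁻¹, by
        show h.piE _ = 1; rw [map_mul, map_mul, hk1, map_inv, mul_one, mul_inv_cancel]⟩
        (e.1.2 x) = actZ (h.piE e) (h.fval ⟨k, hk1⟩ x) := by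
      intro x
      obtain ⟨w, hw⟩ := h.exists_val ⟨k, hk1⟩ x
      rw [h.fval_eq hw, ← h.actZ_mul, h.fval_eq (x := e.1.2 x) (w := w), e.2.2]
      · rfl
      · show e.1.2 (k.1.2 (e.1.2⁻¹ (e.1.2 x))) = _
        rw [show e.1.2⁻¹ (e.1.2 x) = x by simp, hw, e.2.1]
    rw [norm_apply, ← finprod_eq_of_bijective (f := fun c => actZ (h.piE e)
        (h.fval ⟨k, hk1⟩ (h.pt c))) (fun c => h.piE e • c) (MulAction.bijective _)]
    · rw [← map_finprod _ (Set.toFinite _)]
      rw [norm_apply] at hk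
      rw [hk, map_one]
    · intro c
      rw [← key]
      refine h.fval_congr _ ?_
      rw [e.2.2, mk_mu_pt]
      conv_rhs => rw [← h.mk_mu_pt c]
      rfl

theorem iotaE_inclusion_comm (e : h.lifts) (u : U) :
    e * h.iotaE (Subgroup.inclusion (le_normalizerIn h.le) u) =
      h.iotaE (Subgroup.inclusion (le_normalizerIn h.le) ((h.piE e : MulAut U) u)) * e := by
  refine h.lifts_ext ?_ fun x => ?_
  · rw [map_mul, map_mul, piE_iotaE, piE_iotaE]
    have h1 := h.piA_inclusion_conj (h.piE e) ((h.piE e : MulAut U) u)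
    rw [MulAut.inv_apply_self] at h1
    rw [← h1]
    group
  · show e.1.2 (((Subgroup.inclusion (le_normalizerIn h.le) u, 1) :
        ↥(normalizerIn S U) × ↥(normalizerIn S U)) • x) =
      ((Subgroup.inclusion (le_normalizerIn h.le) ((h.piE e : MulAut U) u), 1) :
        ↥(normalizerIn S U) × ↥(normalizerIn S U)) • e.1.2 x
    rw [h.inclusion_smul, e.2.1, h.inclusion_smul, e.2.2]
    congr 4
    show (h.mu x : MulAut U)⁻¹ u =
      ((e.1.1 * h.mu x : F.autGroup U) : MulAut U)⁻¹ ((e.1.1 : MulAut U) u)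
    simp only [Subgroup.coe_mul, mul_inv_rev, MulAut.mul_apply, MulAut.inv_apply_self]

theorem fval_iotaE (w : Subgroup.center U) (x : h.X) :
    h.fval ⟨h.iotaE (h.zin w), h.piA_zin w⟩ x = w⁻¹ := by
  rw [h.fval_eq (w := actZ (h.mu x)⁻¹ w⁻¹), ← h.actZ_mul, mul_inv_cancel, h.actZ_one]
  show ((h.zin w, 1) : ↥(normalizerIn S U) × ↥(normalizerIn S U)) • x = _
  have h1 := h.inclusion_smul (w : U) x
  refine h1.trans ?_
  congr 2
  rw [map_inv, map_inv]
  rfl

theorem card_center_coprime :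
    (Nat.card (Subgroup.center U)).Coprime (Nat.card (F.autGroup U ⧸ h.autS)) := by
  have := h.finiteA
  have := h.finiteU
  obtain ⟨n, hn⟩ := ((isPGroup_of_le h.isP h.le).to_subgroup (Subgroup.center U)).exists_card_eq
  obtain ⟨-, P, hP⟩ := h.automized
  have hind := P.not_dvd_index
  rw [hP, ← h.autS_eq] at hind
  rw [hn, ← Subgroup.index_eq_card]
  exact Nat.Coprime.pow_left n ((Fact.out (p := p.Prime)).coprime_iff_not_dvd.mpr hind)

theorem norm_iotaE (w : Subgroup.center U) :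
    h.norm ⟨h.iotaE (h.zin w), h.piA_zin w⟩ = w⁻¹ ^ Nat.card (F.autGroup U ⧸ h.autS) := by
  have := h.finiteA
  let _ := Fintype.ofFinite (F.autGroup U ⧸ h.autS)
  rw [norm_apply, finprod_eq_prod_of_fintype]
  simp only [fval_iotaE, Finset.prod_const, Finset.card_univ, Nat.card_eq_fintype_card]

theorem exists_zin_mod_normKer {e : h.lifts} (he : h.piE e = 1) :
    ∃ w, (h.iotaE (h.zin w))⁻¹ * e ∈ h.normKer := by
  obtain ⟨w, hw⟩ := (powCoprime h.card_center_coprime).surjective (h.norm ⟨e, he⟩)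
  refine ⟨w⁻¹, h.mem_normKer.mpr
    ⟨by rw [map_mul, map_inv, piE_iotaE, piA_zin, he, inv_one, one_mul], ?_⟩⟩
  have h1 : h.norm ((⟨h.iotaE (h.zin w⁻¹), h.piA_zin _⟩ : h.piE.ker)⁻¹ * ⟨e, he⟩) = 1 := by
    rw [map_mul, map_inv, norm_iotaE, inv_inv, ← hw, powCoprime_apply]
    exact inv_mul_cancel _
  exact h1

theorem iotaE_mem_normKer {s : ↥(normalizerIn S U)} (hs : h.iotaE s ∈ h.normKer) : s = 1 := by
  obtain ⟨h1, h2⟩ := h.mem_normKer.mp hs
  obtain ⟨w, rfl⟩ := h.exists_zin h1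
  rw [norm_iotaE] at h2
  have h3 : w⁻¹ = 1 := (powCoprime h.card_center_coprime).injective (by simpa using h2)
  rw [inv_eq_one.mp h3, map_one]

theorem finiteLifts : Finite h.lifts := by
  have := h.finiteX
  have := h.finiteA
  infer_instance

theorem exists_model :
    ∃ (L : Type u) (_ : Group L) (_ : Finite L) (ι : ↥(normalizerIn S U) →* L),
      Function.Injective ι ∧ (∃ T : Sylow p L, (T : Subgroup L) = ι.range) ∧
      ((U.subgroupOf (normalizerIn S U)).map ι).Normal ∧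
      Subgroup.centralizer (((U.subgroupOf (normalizerIn S U)).map ι : Subgroup L) : Set L) ≤
        (U.subgroupOf (normalizerIn S U)).map ι ∧
      ∀ (P : Subgroup Ω) (hP : P ≤ normalizerIn S U) (φ : P →* Ω)
        (hφ : ∀ x : P, φ x ∈ normalizerIn S U),
        φ ∈ F.normalizerHom U P ↔
          ∃ g : L, ∀ x : P, ι ⟨φ x, hφ x⟩ = g * ι ⟨x, hP x.2⟩ * g⁻¹ := by
  have := h.normKer_normal
  have := h.finiteLifts
  have := h.finiteA
  have := h.finiteU
  have := h.finiteN
  let ι : ↥(normalizerIn S U) →* h.lifts ⧸ h.normKer := (QuotientGroup.mk' _).comp h.iotaE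
  let ψ : h.lifts ⧸ h.normKer →* F.autGroup U := QuotientGroup.lift _ h.piE fun e he =>
    (h.mem_normKer.mp he).1
  have hinj : Function.Injective ι := (injective_iff_map_eq_one ι).mpr fun s hs =>
    h.iotaE_mem_normKer ((QuotientGroup.eq_one_iff _).mp hs)
  have hψι : ∀ s, ψ (ι s) = h.piA s := fun s => rfl
  have hker : ∀ g, ψ g = 1 → ∃ w, g = ι (h.zin w) := by
    intro g hg
    obtain ⟨e, rfl⟩ := QuotientGroup.mk_surjective g
    obtain ⟨w, hw⟩ := h.exists_zin_mod_normKer hg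
    exact ⟨w, ((QuotientGroup.eq).mpr hw).symm⟩
  have hsurj : Function.Surjective ψ := by
    intro a
    obtain ⟨e, he, -⟩ := h.exists_lift a le_rfl (le_normalizerIn h.le)
      (autHom_mem F h.le a.2) (fun u hu => rfl)
    exact ⟨QuotientGroup.mk e, he⟩
  have hcomm : ∀ g (u : U), g * ι (Subgroup.inclusion (le_normalizerIn h.le) u) =
      ι (Subgroup.inclusion (le_normalizerIn h.le) ((ψ g : MulAut U) u)) * g := by
    intro g u
    obtain ⟨e, rfl⟩ := QuotientGroup.mk_surjective g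
    exact congrArg QuotientGroup.mk (h.iotaE_inclusion_comm e u)
  have hrange : ι.range = h.autS.comap ψ := by
    ext g
    constructor
    · rintro ⟨s, rfl⟩; exact ⟨s, rfl⟩
    · rintro ⟨n, hn⟩
      obtain ⟨w, hw⟩ := hker (g * (ι n)⁻¹) (by rw [map_mul, map_inv, hψι, hn, mul_inv_cancel])
      exact ⟨h.zin w * n, by rw [map_mul, ← hw, inv_mul_cancel_right]⟩
  refine ⟨_, inferInstance, inferInstance, ι, hinj, ?_, ?_, ?_, ?_⟩
  · have hp : IsPGroup p ι.range :=
      (isPGroup_of_le h.isP (normalizerIn_le U)).of_surjective ι.rangeRestrict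
        ι.rangeRestrict_surjective
    refine ⟨hp.toSylow ?_, rfl⟩
    rw [hrange, Subgroup.index_comap_of_surjective _ hsurj]
    obtain ⟨-, P, hP⟩ := h.automized
    have hind := P.not_dvd_index
    rwa [hP, ← h.autS_eq] at hind
  · refine ⟨?_⟩
    rintro _ ⟨u, hu, rfl⟩ g
    refine ⟨Subgroup.inclusion (le_normalizerIn h.le) ((ψ g : MulAut U) ⟨_, hu⟩),
      Subgroup.mem_subgroupOf.mpr (Subtype.coe_prop _), ?_⟩
    rw [eq_mul_inv_iff_mul_eq]
    exact (hcomm g ⟨_, hu⟩).symm
  · intro g hg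
    have hψg : ψ g = 1 := by
      refine Subtype.ext (MulEquiv.ext fun u => ?_)
      have h1 := hg (ι (Subgroup.inclusion (le_normalizerIn h.le) u))
        ⟨_, Subgroup.mem_subgroupOf.mpr u.2, rfl⟩
      rw [hcomm g u] at h1
      exact (Subgroup.inclusion_injective _ (hinj (mul_right_cancel h1))).symm
    obtain ⟨w, rfl⟩ := hker g hψg
    exact ⟨_, Subgroup.mem_subgroupOf.mpr (w : U).2, rfl⟩
  · intro P hP φ hφ
    have hR : P ⊔ U ≤ normalizerIn S U := sup_le hP (le_normalizerIn h.le)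
    constructor
    · rintro ⟨-, -, -, χ, hχ, hχe, hχU⟩
      have hmaps : ∀ u : U, χ (Subgroup.inclusion (le_sup_right (a := P)) u) ∈ U := fun u => by
        have h1 : χ (Subgroup.inclusion (le_sup_right (a := P)) u) ∈
            (U.subgroupOf (P ⊔ U)).map χ := ⟨_, Subgroup.mem_subgroupOf.mpr u.2, rfl⟩
        rwa [hχU] at h1
      let a₀ : MulAut U := MulEquiv.ofBijective
        ((χ.comp (Subgroup.inclusion (le_sup_right (a := P)))).codRestrict U hmaps)
        (Finite.injective_iff_bijective.mp fun x y hxy =>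
          Subgroup.inclusion_injective _ (F.injective_of_mem hχ (congrArg Subtype.val hxy)))
      have ha₀ : a₀ ∈ F.autGroup U := (mem_autGroup_iff F h.le).mpr
        (restrict_mem F hχ (le_sup_right (a := P)))
      obtain ⟨e, -, he⟩ := h.exists_lift ⟨a₀, ha₀⟩ (le_sup_right (a := P)) hR hχ
        (fun u hu => rfl)
      refine ⟨QuotientGroup.mk e, fun x => ?_⟩
      have h1 := congrArg (QuotientGroup.mk (s := h.normKer))
        (he (Subgroup.inclusion le_sup_left x))
      rw [eq_mul_inv_iff_mul_eq]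
      refine Eq.trans ?_ h1.symm
      rw [QuotientGroup.mk_mul]
      congr 1
      exact congrArg ι (Subtype.ext (hχe x).symm)
    · rintro ⟨g, hg⟩
      have hle : (P ⊔ U).subgroupOf (normalizerIn S U) ≤
          (ι.range.comap (MulAut.conj g).toMonoidHom).comap ι := by
        rw [Subgroup.subgroupOf_sup hP (le_normalizerIn h.le)]
        refine sup_le (fun x hx => ⟨_, hg ⟨x, hx⟩⟩) fun x hx =>
          ⟨Subgroup.inclusion (le_normalizerIn h.le) ((ψ g : MulAut U) ⟨_, hx⟩), ?_⟩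
        show _ = g * ι x * g⁻¹
        rw [eq_mul_inv_iff_mul_eq]
        exact (hcomm g ⟨_, hx⟩).symm
      have hin : ∀ r : ↥(P ⊔ U), g * ι (Subgroup.inclusion hR r) * g⁻¹ ∈ ι.range :=
        fun r => hle (x := Subgroup.inclusion hR r) r.2
      let χN : ↥(P ⊔ U) →* ↥(normalizerIn S U) :=
        (MonoidHom.ofInjective hinj).symm.toMonoidHom.comp
          ((((MulAut.conj g).toMonoidHom.comp ι).comp (Subgroup.inclusion hR)).codRestrict _ hin)
      have hχN : ∀ r, ι (χN r) = g * ι (Subgroup.inclusion hR r) * g⁻¹ := fun r =>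
        (congrArg Subtype.val ((MonoidHom.ofInjective hinj).apply_symm_apply ⟨_, hin r⟩) : _)
      let χ : ↥(P ⊔ U) →* Ω := (normalizerIn S U).subtype.comp χN
      have hχU : ∀ (u : Ω) (hu : u ∈ U), χ ⟨u, (le_sup_right (a := P)) hu⟩ =
          (((ψ g : MulAut U) ⟨u, hu⟩ : U) : Ω) := by
        intro u hu
        refine congrArg Subtype.val (a₂ := Subgroup.inclusion (le_normalizerIn h.le)
          ((ψ g : MulAut U) ⟨u, hu⟩)) (hinj ?_)
        rw [hχN, mul_inv_eq_iff_eq_mul]
        exact hcomm g ⟨u, hu⟩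
      -- extend the automorphism of `U` by receptivity
      have hrec := h.receptive.2 U _ (autHom_mem F h.le (ψ g).2) (range_autHom _)
      obtain ⟨θ, hθ, hθe⟩ := hrec
      have hext : P ⊔ U ≤ extender S U (autHom ((ψ g : F.autGroup U) : MulAut U)) := by
        intro r hr
        refine Subgroup.subset_closure ⟨normalizerIn_le U (hR hr), (hR hr).2, χ ⟨r, hr⟩,
          normalizerIn_le U (χN ⟨r, hr⟩).2, fun x hx => ?_⟩
        rw [autHom_apply, autHom_apply]
        rw [← hχU _ hx, ← hχU x x.2, ← map_inv, ← map_mul, ← map_mul]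
        rfl
      have hθ₁ := restrict_mem F hθ hext
      have hθU : ∀ (u : Ω) (hu : u ∈ U), θ.comp (Subgroup.inclusion hext)
          ⟨u, (le_sup_right (a := P)) hu⟩ = (((ψ g : MulAut U) ⟨u, hu⟩ : U) : Ω) :=
        fun u hu => hθe u hu _
      obtain ⟨e, he, hec⟩ := h.exists_lift (ψ g) (le_sup_right (a := P)) hR hθ₁ hθU
      obtain ⟨w, hw⟩ := hker ((QuotientGroup.mk e)⁻¹ * g) (by
        rw [map_mul, map_inv, show ψ (QuotientGroup.mk e) = ψ g from he, inv_mul_cancel])
      rw [inv_mul_eq_iff_eq_mul] at hw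
      have hwR : (h.zin w : Ω) ∈ P ⊔ U := (le_sup_right (a := P)) (w : U).2
      have hχe : ∀ r, χ r =
          θ.comp (Subgroup.inclusion hext) (⟨_, hwR⟩ * r * ⟨_, hwR⟩⁻¹) := by
        intro r
        refine congrArg Subtype.val (a₂ := (⟨_, h.mapsTo_normalizer (ψ g) (le_sup_right (a := P)) hR
          hθ₁ hθU (⟨_, hwR⟩ * r * ⟨_, hwR⟩⁻¹)⟩ : ↥(normalizerIn S U))) (hinj ?_)
        rw [hχN]
        have h1 := congrArg (QuotientGroup.mk (s := h.normKer))
          (hec (⟨_, hwR⟩ * r * ⟨_, hwR⟩⁻¹))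
        have h2 : (QuotientGroup.mk e : h.lifts ⧸ h.normKer) *
            ι (h.zin w * Subgroup.inclusion hR r * (h.zin w)⁻¹) =
            ι ⟨_, h.mapsTo_normalizer (ψ g) (le_sup_right (a := P)) hR
              hθ₁ hθU (⟨_, hwR⟩ * r * ⟨_, hwR⟩⁻¹)⟩ * QuotientGroup.mk e := h1
        rw [eq_mul_inv_of_mul_eq h2.symm, hw, map_mul, map_mul, map_inv]
        group
      have hPS : P ⊔ U ≤ S := hR.trans (normalizerIn_le U)
      obtain ⟨c, hc, hce⟩ := exists_comp F (F.conj_mem hPS (hPS hwR)) hθ₁ (fun r =>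
        (P ⊔ U).mul_mem ((P ⊔ U).mul_mem hwR r.2) ((P ⊔ U).inv_mem hwR))
      have hχF : χ ∈ F.Hom (P ⊔ U) := by
        convert hc using 1
        refine MonoidHom.ext fun r => ?_
        rw [hce, hχe]
        rfl
      have hχP : ∀ x : P, χ (Subgroup.inclusion le_sup_left x) = φ x := fun x => by
        refine congrArg Subtype.val (a₂ := (⟨φ x, hφ x⟩ : ↥(normalizerIn S U))) (hinj ?_)
        rw [hχN]
        exact (hg x).symm
      refine ⟨?_, hP, hφ, χ, hχF, hχP, map_eq_of_maps_to F le_sup_right hχF fun z hz => ?_⟩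
      · convert restrict_mem F hχF (le_sup_left (b := U)) using 1
        exact MonoidHom.ext fun x => (hχP x).symm
      · rw [hχU z hz]
        exact Subtype.coe_prop _

end ModelSetup

end Cfsg.Agent.Fusion92
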