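import Cfsg.Agent.Lib.PComplement.Offender
import Cfsg.Agent.LocalEven61.PermFour

set_option autoImplicit false

/-! Offenders on abelian groups of odd order at the prime two. -/

namespace Cfsg.Agent.Fusion92

open Cfsg Cfsg.Agent.PComplement Subgroup

/-- A four-group inverted-rotated gives a section `S₄`. -/
theorem involves_perm4_of_inverted {G : Type*} [Group G] [Finite G] (T : Subgroup G)
    (hT : Nat.card T = 4) {a c : G} (ha : a ∈ normalizer (T : Set G))
    (hc : c ∈ normalizer (T : Set G)) (ha2 : a * a ∈ centralizer (T : Set G))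
    (hac : a * c * a⁻¹ * c ∈ centralizer (T : Set G)) (haC : a ∉ centralizer (T : Set G))
    (hcC : c ∉ centralizer (T : Set G)) {n : ℕ} (hn : Odd n)
    (hcn : c ^ n ∈ centralizer (T : Set G)) : Cfsg.Involves (Equiv.Perm (Fin 4)) G := by
  classical
  haveI : Fact (Nat.Prime 3) := ⟨Nat.prime_three⟩
  haveI : Fact (Nat.Prime 2) := ⟨Nat.prime_two⟩
  set N := normalizer (T : Set G) with hN
  set C := (centralizer (T : Set G)).subgroupOf N with hCdef
  refine LocalEven61.involves_perm4_of_two_local T (IsPGroup.of_card (n := 2) (by rw [hT]; rfl)) ?_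
  set π := QuotientGroup.mk' C
  have hmem : ∀ g : ↥N, π g = 1 ↔ (g : G) ∈ centralizer (T : Set G) := fun g =>
    (QuotientGroup.eq_one_iff g).trans Subgroup.mem_subgroupOf
  -- the action on the three non-identity elements
  let X := {t : ↥T // t ≠ 1}
  let act : ↥N →* Equiv.Perm X :=
    { toFun := fun g =>
        Equiv.subtypeEquiv (T.normalizerMonoidHom g).toEquiv fun t => by simp
      map_one' := by ext t; simp
      map_mul' := fun g h => by ext t; simp }
  have hact : ∀ g : ↥N, act g = 1 → (g : G) ∈ centralizer (T : Set G) := by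
    intro g hg
    refine mem_centralizer_iff.mpr fun t ht => ?_
    by_cases ht1 : t = 1
    · simp [ht1]
    have := congrArg (fun s : X => ((s : ↥T) : G))
      (DFunLike.congr_fun hg (⟨⟨t, ht⟩, fun h => ht1 (congrArg Subtype.val h)⟩ : X))
    have h1 : (g : G) * t * (g : G)⁻¹ = t := this
    calc t * (g : G) = (g : G) * t * (g : G)⁻¹ * g := by rw [h1]
      _ = (g : G) * t := by group
  have hX : Nat.card X = 3 := by
    letI := Fintype.ofFinite ↥T
    rw [Nat.card_eq_fintype_card, Fintype.card_subtype_compl, Fintype.card_subtype_eq,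
      ← Nat.card_eq_fintype_card, hT]
  have hperm : Nat.card (Equiv.Perm X) = 6 := by rw [Nat.card_perm, hX]; rfl
  set gc : ↥N := ⟨c, hc⟩
  set ga : ↥N := ⟨a, ha⟩
  have hc3 : π gc ^ 3 = 1 := by
    have h1 : π gc ^ (6 : ℕ) = 1 := by
      rw [← map_pow, hmem]
      refine hact _ ?_
      rw [map_pow, ← hperm]
      exact pow_card_eq_one'
    have h2 : π gc ^ n = 1 := by rw [← map_pow, hmem]; simpa using hcn
    have h3 := pow_gcd_eq_one.mpr ⟨h1, h2⟩
    have h4 : Nat.gcd 6 n ∣ 3 := by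
      have h5 : Nat.gcd 6 n ∣ 2 * 3 := Nat.gcd_dvd_left 6 n
      have h6 : Nat.Coprime (Nat.gcd 6 n) 2 := Nat.Coprime.coprime_dvd_left (Nat.gcd_dvd_right 6 n)
        (Nat.coprime_two_right.mpr hn)
      exact h6.dvd_of_dvd_mul_left h5
    obtain ⟨d, hd⟩ := h4
    rw [hd, pow_mul, h3, one_pow]
  obtain ⟨e⟩ := LocalEven61.exists_dihedral_equiv
  refine LocalEven61.involves_congr e ((LocalEven61.involves_dihedral_iff (by decide)).mpr
    ⟨π ga, π gc, ⟨1, ?_⟩, ⟨1, ?_⟩, fun h => hcC ((hmem gc).mp h), ?_⟩)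
  · rw [pow_one]
    exact orderOf_eq_prime (by rw [pow_two, ← map_mul, hmem]; exact ha2)
      fun h => haC ((hmem ga).mp h)
  · rw [pow_one]
    exact orderOf_eq_prime hc3 fun h => hcC ((hmem gc).mp h)
  · rw [eq_inv_iff_mul_eq_one, ← map_inv, ← map_mul, ← map_mul, ← map_mul, hmem]
    exact hac

section Bound

variable {H : Type*} [Group H] [Finite H] {U : Type*} [AddCommGroup U] [Finite U]

/-- The offender bound at the prime two, with the configuration behind equality. -/
theorem offender_two (hpU : ∀ u : U, 2 • u = 0) (ρ : H →* AddMonoid.End U)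
    (hρ : Function.Injective ρ) {K : Subgroup H} (hK : IsMulCommutative K)
    (hKp : (Nat.card K).Coprime 2) :
    ∀ (n : ℕ) (A : Subgroup H), Nat.card A = n → IsMulCommutative A → (∀ a ∈ A, a ^ 2 = 1) →
      (∀ a ∈ A, ∀ k ∈ K, a * k * a⁻¹ ∈ K) → (∀ a ∈ A, (∀ k ∈ K, Commute a k) → a = 1) →
      Nat.card A * Nat.card (fixedSub ρ A) ≤ Nat.card U ∧
      (A ≠ ⊥ → Nat.card U ≤ Nat.card A * Nat.card (fixedSub ρ A) →
        ∃ W : AddSubgroup U, ∃ a c : H, Nat.card W = 4 ∧ a * a = 1 ∧ c ^ Nat.card K = 1 ∧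
          a * c * a⁻¹ * c = 1 ∧ (∀ w ∈ W, ρ a w ∈ W) ∧ (∀ w ∈ W, ρ c w ∈ W) ∧
          (∃ w ∈ W, ρ a w ≠ w) ∧ ∃ w ∈ W, ρ c w ≠ w) := by
  haveI : Fact (Nat.Prime 2) := ⟨Nat.prime_two⟩
  intro n
  induction n using Nat.strong_induction_on with
  | _ n ih =>
    intro A hn hA hAp hAK hfaith
    by_cases hAb : A = ⊥
    · subst hAb
      refine ⟨?_, fun h => absurd rfl h⟩
      simp only [card_bot, one_mul]
      exact Nat.card_le_card_of_injective _ Subtype.val_injective
    have hne : ∃ a ∈ A, ∃ k ∈ K, ¬ Commute a k := by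
      by_contra hall
      push Not at hall
      exact hAb ((Subgroup.eq_bot_iff_forall _).mpr fun a ha => hfaith a ha (hall a ha))
    obtain ⟨y, hy, a₀, ha₀, hc₀, hcov⟩ :=
      exists_stabilizer_hyperplane (p := 2) hA hAp hK hKp hAK hne
    have hcA : ∀ u ∈ A, ∀ v ∈ A, Commute u v := fun u hu v hv =>
      congrArg Subtype.val (hA.is_comm.comm (⟨u, hu⟩ : A) ⟨v, hv⟩)
    set B : Subgroup H := A ⊓ centralizer {y} with hB
    have hBA : B ≤ A := inf_le_left
    have hBy : ∀ b ∈ B, Commute b y := fun b hb => mem_centralizer_singleton_iff.mp hb.2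
    have hBlt : B < A := lt_of_le_of_ne hBA fun he => hc₀ (hBy a₀ (he ▸ ha₀))
    have hBc : IsMulCommutative B := ⟨⟨fun u v => Subtype.ext (hcA u (hBA u.2) v (hBA v.2))⟩⟩
    obtain ⟨h1, -⟩ := ih (Nat.card B) (by
      rw [← hn]
      exact lt_of_le_of_ne (Subgroup.card_le_of_le hBA) fun he =>
        hBlt.ne (Subgroup.eq_of_le_of_card_ge hBA he.ge)) B rfl hBc
      (fun b hb => hAp b (hBA hb)) (fun b hb => hAK b (hBA hb)) fun b hb => hfaith b (hBA hb)
    have ha₀2 : a₀ * a₀ = 1 := by rw [← pow_two]; exact hAp a₀ ha₀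
    have hai : a₀⁻¹ = a₀ := inv_eq_of_mul_eq_one_right ha₀2
    have hcov' : ∀ x ∈ A, x ∈ B ∨ x * a₀ ∈ B := by
      intro x hx
      obtain ⟨i, hi⟩ := hcov x hx
      rcases Int.even_or_odd i with ⟨j, rfl⟩ | ⟨j, rfl⟩
      · left
        rw [← two_mul, zpow_mul, zpow_two, ha₀2, one_zpow, mul_one] at hi
        exact ⟨hx, mem_centralizer_singleton_iff.mpr hi⟩
      · right
        rw [zpow_add, zpow_mul, zpow_two, ha₀2, one_zpow, one_mul, zpow_one] at hi
        exact ⟨mul_mem hx ha₀, mem_centralizer_singleton_iff.mpr hi⟩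
    have hcardA : Nat.card A ≤ 2 * Nat.card B := by
      have hsurj : Function.Surjective (fun q : Fin 2 × B =>
          (⟨q.2 * a₀ ^ (q.1 : ℕ), mul_mem (hBA q.2.2) (pow_mem ha₀ _)⟩ : A)) := by
        rintro ⟨x, hx⟩
        rcases hcov' x hx with h | h
        · exact ⟨(0, ⟨x, h⟩), Subtype.ext (by simp)⟩
        · exact ⟨(1, ⟨_, h⟩), Subtype.ext (by simp [mul_assoc, ha₀2])⟩
      have := Nat.card_le_card_of_surjective _ hsurj
      simpa [Nat.card_prod] using this
    set c : H := y * a₀ * y⁻¹ * a₀⁻¹ with hc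
    have hcK : c ∈ K := by
      have := mul_mem hy (hAK a₀ ha₀ _ (inv_mem hy))
      simpa [hc, mul_assoc] using this
    have hcn : c ^ Nat.card K = 1 :=
      congrArg Subtype.val (pow_card_eq_one' (x := (⟨c, hcK⟩ : K)))
    have hodd : Odd (Nat.card K) := Nat.coprime_two_right.mp hKp
    have hc1 : c ≠ 1 := fun h => hc₀ (by
      calc a₀ * y = (y * a₀ * y⁻¹ * a₀⁻¹) * (a₀ * y) := by rw [← hc, h, one_mul]
        _ = y * a₀ := by group)
    have hinv : a₀ * c * a₀⁻¹ * c = 1 := by
      have hsq : ∀ x : H, a₀ * (a₀ * x) = x := fun x => by rw [← mul_assoc, ha₀2, one_mul]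
      simp [hc, hai, mul_assoc, hsq, ha₀2]
    have hcB : ∀ b ∈ B, Commute b c := fun b hb =>
      (((hBy b hb).mul_right (hcA b (hBA hb) a₀ ha₀)).mul_right (hBy b hb).inv_right).mul_right
        (hcA b (hBA hb) a₀ ha₀).inv_right
    have hBp : IsPGroup 2 B := fun b => ⟨1, by
      rw [pow_one]; exact Subtype.ext (hAp _ (hBA b.2))⟩
    set V := fixedSub ρ B with hV
    have hinvV : ∀ g : H, (∀ b ∈ B, Commute b g) → ∀ u ∈ V, ρ g u ∈ V := fun g hg u hu b hb => by
      rw [← apply_mul, (hg b hb).eq, apply_mul, hu b hb]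
    have haV : ∀ u ∈ V, ρ a₀ u ∈ V :=
      hinvV a₀ fun b hb => hcA b (hBA hb) a₀ ha₀
    have hfixA : ∀ u ∈ V, ρ a₀ u = u → u ∈ fixedSub ρ A := by
      intro u hu hau x hx
      rcases hcov' x hx with h | h
      · exact hu x h
      · have h2 := hu _ h
        rwa [apply_mul, hau] at h2
    -- `c` moves `C_U(B)`
    obtain ⟨v₁, hv₁, hv₁'⟩ : ∃ v ∈ V, ρ c v ≠ v := by
      by_contra hall
      push Not at hall
      exact hc1 (hρ (by
        rw [map_one]; ext u
        exact apply_eq_self_of_fixes_fixedSub hpU ρ hBp hcB hKp.symm hcn hall u))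
    have hyV : ∀ u ∈ V, ρ y u ∈ V := hinvV y hBy
    have hy'V : ∀ u ∈ V, ρ y⁻¹ u ∈ V := hinvV y⁻¹ fun b hb => (hBy b hb).inv_right
    -- the index of the fixed points is at least two
    obtain ⟨v₀, hv₀, hv₀'⟩ : ∃ v ∈ V, ρ a₀ v ≠ v := by
      by_contra hall
      push Not at hall
      apply hv₁'
      rw [hc, apply_mul, apply_mul, apply_mul, hai, hall v₁ hv₁, hall _ (hy'V v₁ hv₁), ← apply_mul,
        mul_inv_cancel, map_one]
      rfl
    have hAV : fixedSub ρ A ≤ V := fixedSub_anti ρ hBA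
    have h2V : 2 * Nat.card (fixedSub ρ A) ≤ Nat.card V := by
      have hd : Nat.card (fixedSub ρ A) ∣ Nat.card V := AddSubgroup.card_dvd_of_le hAV
      obtain ⟨k, hk⟩ := hd
      have hk2 : 2 ≤ k := by
        by_contra hlt
        rcases Nat.lt_or_ge k 1 with hk0 | hk1
        · simp only [Nat.lt_one_iff] at hk0
          rw [hk0, mul_zero] at hk
          exact Nat.card_pos.ne' hk
        · obtain rfl : k = 1 := by omega
          have heq := AddSubgroup.eq_of_le_of_card_ge hAV (by rw [hk, mul_one])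
          exact hv₀' ((heq.ge hv₀) a₀ ha₀)
      calc 2 * Nat.card (fixedSub ρ A) ≤ k * Nat.card (fixedSub ρ A) := Nat.mul_le_mul_right _ hk2
        _ = Nat.card V := by rw [hk, mul_comm]
    refine ⟨?_, fun _ hbig => ?_⟩
    · calc Nat.card A * Nat.card (fixedSub ρ A) ≤ 2 * Nat.card B * Nat.card (fixedSub ρ A) :=
            Nat.mul_le_mul_right _ hcardA
        _ = Nat.card B * (2 * Nat.card (fixedSub ρ A)) := by ring
        _ ≤ Nat.card B * Nat.card V := Nat.mul_le_mul_left _ h2V
        _ ≤ Nat.card U := h1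
    have hV2 : Nat.card V ≤ 2 * Nat.card (fixedSub ρ A) := by
      refine Nat.le_of_mul_le_mul_left ?_ (Nat.card_pos (α := B))
      calc Nat.card B * Nat.card V ≤ Nat.card U := h1
        _ ≤ Nat.card A * Nat.card (fixedSub ρ A) := hbig
        _ ≤ 2 * Nat.card B * Nat.card (fixedSub ρ A) := Nat.mul_le_mul_right _ hcardA
        _ = Nat.card B * (2 * Nat.card (fixedSub ρ A)) := by ring
    -- the map `c - 1` on `C_U(B)`
    let d : V →+ U := ((ρ c : U →+ U).comp V.subtype) - V.subtype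
    have hd : ∀ v : V, d v = ρ c v - v := fun v => rfl
    set W : AddSubgroup U := d.range with hW
    have hWV : W ≤ V := by
      rintro _ ⟨v, rfl⟩
      rw [hd]
      exact V.sub_mem (hinvV c hcB v v.2) v.2
    have hcW : ∀ w ∈ W, ρ c w ∈ W := by
      rintro _ ⟨v, rfl⟩
      exact ⟨⟨ρ c v, hinvV c hcB v v.2⟩, by rw [hd, hd, map_sub]⟩
    have hneg : ∀ u : U, -u = u := fun u => by
      rw [neg_eq_iff_add_eq_zero, ← two_nsmul]; exact hpU u
    have haci : ∀ u : U, ρ c (ρ a₀ (ρ c u)) = ρ a₀ u := fun u => by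
      rw [← apply_mul, ← apply_mul, show c * a₀ * c = a₀ from ?_]
      calc c * a₀ * c = c * (a₀ * c * a₀⁻¹ * c) * c⁻¹ * a₀ := by group
        _ = a₀ := by rw [hinv]; group
    have haW : ∀ w ∈ W, ρ a₀ w ∈ W := by
      rintro _ ⟨v, rfl⟩
      refine ⟨⟨ρ a₀ (ρ c v), haV _ (hinvV c hcB v v.2)⟩, ?_⟩
      rw [hd, hd, map_sub, haci, ← hneg (ρ a₀ v - ρ a₀ (ρ c v)), neg_sub]
    have hcW' : ∃ w ∈ W, ρ c w ≠ w := by
      by_contra hall
      push Not at hall
      apply hv₁'
      have h2 : ρ c (ρ c v₁) = v₁ := by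
        have h3 := hall _ ⟨⟨v₁, hv₁⟩, rfl⟩
        rw [hd, map_sub] at h3
        have h4 : ρ c (ρ c v₁) = ρ c v₁ + (ρ c v₁ - v₁) := by
          rw [← h3]; abel
        rw [h4, ← add_sub_assoc, ← two_nsmul, hpU, zero_sub, hneg]
      rw [← apply_mul, ← pow_two] at h2
      obtain ⟨m, hm⟩ := hodd
      calc ρ c v₁ = ρ c (ρ ((c ^ 2) ^ m) v₁) := by rw [apply_pow_eq_self ρ h2]
        _ = v₁ := by
          rw [← apply_mul, ← pow_mul, ← pow_succ', ← hm, hcn, map_one]
          rfl
    have haW' : ∃ w ∈ W, ρ a₀ w ≠ w := by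
      by_contra hall
      push Not at hall
      obtain ⟨w, hw, hcw⟩ := hcW'
      apply hcw
      have h2 : ρ (c ^ 2) w = w := by
        rw [pow_two, apply_mul]
        have h := haci w
        rwa [hall _ (hcW w hw), hall w hw] at h
      obtain ⟨m, hm⟩ := hodd
      calc ρ c w = ρ c (ρ ((c ^ 2) ^ m) w) := by rw [apply_pow_eq_self ρ h2]
        _ = w := by
          rw [← apply_mul, ← pow_mul, ← pow_succ', ← hm, hcn, map_one]
          rfl
    refine ⟨W, a₀, c, ?_, ha₀2, hcn, hinv, haW, hcW, haW', hcW'⟩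
    -- at most four elements
    have hW4 : Nat.card W ≤ 4 := by
      let F := fixedSub ρ A
      let k : V →+ (V ⧸ F.addSubgroupOf V) × (V ⧸ F.addSubgroupOf V) :=
        (QuotientAddGroup.mk' _).prod ((QuotientAddGroup.mk' _).comp
          (((ρ y⁻¹ : U →+ U).comp V.subtype).codRestrict V fun v => hy'V v v.2))
      have hker : k.ker ≤ d.ker := by
        intro v hv
        have h5 : QuotientAddGroup.mk' (F.addSubgroupOf V) v = 0 :=
          congrArg Prod.fst (AddMonoidHom.mem_ker.mp hv)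
        have h6 := congrArg Prod.snd (AddMonoidHom.mem_ker.mp hv)
        have h7 : (v : U) ∈ F := AddSubgroup.mem_addSubgroupOf.mp
          ((QuotientAddGroup.eq_zero_iff (N := F.addSubgroupOf V) v).mp h5)
        have h8 : ρ y⁻¹ (v : U) ∈ F := AddSubgroup.mem_addSubgroupOf.mp
          ((QuotientAddGroup.eq_zero_iff (N := F.addSubgroupOf V) _).mp h6)
        rw [AddMonoidHom.mem_ker, hd, sub_eq_zero, hc, apply_mul, apply_mul, apply_mul, hai,
          h7 a₀ ha₀, h8 a₀ ha₀, ← apply_mul, mul_inv_cancel, map_one]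
        rfl
      have hidx : (F.addSubgroupOf V).index ≤ 2 := by
        have h9 := (F.addSubgroupOf V).card_mul_index
        rw [Nat.card_congr (AddSubgroup.addSubgroupOfEquivOfLe hAV).toEquiv] at h9
        refine Nat.le_of_mul_le_mul_left ?_ (Nat.card_pos (α := F))
        rw [h9]
        calc Nat.card V ≤ 2 * Nat.card F := hV2
          _ = Nat.card F * 2 := mul_comm _ _
      have hk4 : k.ker.index ≤ 4 := by
        rw [AddSubgroup.index_ker]
        refine (Nat.card_le_card_of_injective _ Subtype.val_injective).trans ?_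
        rw [Nat.card_prod]
        exact Nat.mul_le_mul hidx hidx
      calc Nat.card W = d.ker.index := (AddSubgroup.index_ker d).symm
        _ ≤ k.ker.index := Nat.le_of_dvd (Nat.pos_of_ne_zero AddSubgroup.FiniteIndex.index_ne_zero)
            (AddSubgroup.index_dvd_of_le hker)
        _ ≤ 4 := hk4
    obtain ⟨w, hw, hw'⟩ := haW'
    obtain ⟨w', hw₂, hw₂'⟩ := hcW'
    have hpg : IsPGroup 2 (Multiplicative ↥W) := fun x => ⟨1, by
      rw [pow_one]
      show 2 • x.toAdd = 0
      exact Subtype.ext (hpU x.toAdd.1)⟩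
    obtain ⟨k, hk⟩ := IsPGroup.iff_card.mp hpg
    rw [Nat.card_congr Multiplicative.toAdd] at hk
    match k, hk with
    | 0, hk =>
      have := (AddSubgroup.card_eq_one.mp hk).le hw
      rw [AddSubgroup.mem_bot] at this
      exact absurd (by rw [this, map_zero]) hw'
    | 1, hk =>
      exfalso
      obtain ⟨x, y', hxy, hall⟩ := Nat.card_eq_two_iff.mp hk
      have h0 : ∀ z ∈ W, z = 0 ∨ z = w' := fun z hz => by
        have hw0 : (⟨w', hw₂⟩ : W) ≠ 0 := fun h => hw₂' (by
          rw [show w' = 0 from congrArg Subtype.val h, map_zero])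
        have := Set.ext_iff.mp hall
        rcases (this (⟨z, hz⟩ : W)).mpr trivial with h | h <;>
          rcases (this (0 : W)).mpr trivial with h' | h' <;>
          rcases (this (⟨w', hw₂⟩ : W)).mpr trivial with h'' | h'' <;>
          first
            | exact Or.inl (congrArg Subtype.val (h.trans h'.symm))
            | exact Or.inr (congrArg Subtype.val (h.trans h''.symm))
            | exact absurd (h''.trans h'.symm) hw0
      rcases h0 _ (hcW w' hw₂) with h | h
      · refine hw₂' ?_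
        have : ρ c⁻¹ (ρ c w') = ρ c⁻¹ 0 := by rw [h]
        rw [← apply_mul, inv_mul_cancel, map_one, map_zero] at this
        rw [show w' = 0 from this, map_zero]
      · exact hw₂' h
    | 2, hk => exact hk
    | k + 3, hk =>
      exfalso
      have : 2 ^ 3 ≤ 2 ^ (k + 3) := Nat.pow_le_pow_right (by norm_num) (by omega)
      omega

end Bound

end Cfsg.Agent.Fusion92
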