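import Cfsg.Agent.Fusion92.GroupModel
import Cfsg.Agent.PLocalB.QdSection
import Cfsg.Agent.LocalEven61.Involves

set_option autoImplicit false

/-! A section `Qd(p)` of a finite group is involved in the normalizer of a centric subgroup. -/

open scoped MatrixGroups
open Matrix

namespace Cfsg.Agent.Fusion92

open Cfsg Cfsg.Agent.Fusion
open Cfsg.FusionSystem (normalizerIn)

universe u

/-- A section without normal `p'`-subgroup passes to the quotient by the `p'`-core. -/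
theorem involves_quotient_pPrimeCore {G : Type*} [Group G] [Finite G] {H : Type*} [Group H] {p : ℕ}
    (hH : pPrimeCore p H = ⊥) (h : Involves H G) : Involves H (G ⧸ pPrimeCore p G) := by
  obtain ⟨A, f, hf⟩ := LocalEven61.exists_surjective_of_involves h
  let q : ↥A →* G ⧸ pPrimeCore p G := (QuotientGroup.mk' _).comp A.subtype
  have hqk : q.ker = (pPrimeCore p G).subgroupOf A := by
    ext a
    exact QuotientGroup.eq_one_iff _
  have hker : q.ker ≤ f.ker := by
    rw [← Subgroup.map_eq_bot_iff]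
    rw [eq_bot_iff, ← hH]
    refine Thompson.le_pPrimeCore ((MonoidHom.normal_ker q).map _ hf) ?_
    refine Nat.Coprime.coprime_dvd_left ((Subgroup.card_map_dvd q.ker f).trans ?_)
      (Thompson.card_pPrimeCore_coprime (p := p) (G := G))
    rw [hqk, ← Subgroup.card_map_of_injective A.subtype_injective]
    exact Subgroup.card_dvd_of_le (Subgroup.map_le_iff_le_comap.mpr le_rfl)
  exact LocalEven61.involves_of_hom (QuotientGroup.lift q.ker f hker)
    (QuotientGroup.lift_surjective_of_surjective _ f hf hker)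
    (QuotientGroup.kerLift q) (QuotientGroup.kerLift_injective q)

variable {p : ℕ} [Fact p.Prime]

theorem qdAff_inj {v w : Fin 2 → ZMod p} {M N : SL(2, ZMod p)}
    (h : PLocalB.aff v M = PLocalB.aff w N) : v = w ∧ M = N := by
  have h' := congrArg (fun A : SpecialLinearGroup (Fin 3) (ZMod p) =>
    (A : Matrix (Fin 3) (Fin 3) (ZMod p))) h
  simp only [PLocalB.coe_aff] at h'
  refine ⟨?_, Subtype.ext ?_⟩
  · ext i
    fin_cases i
    · simpa using congrFun (congrFun h' 0) 2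
    · simpa using congrFun (congrFun h' 1) 2
  · ext i j
    fin_cases i <;> fin_cases j
    · simpa using congrFun (congrFun h' 0) 0
    · simpa using congrFun (congrFun h' 0) 1
    · simpa using congrFun (congrFun h' 1) 0
    · simpa using congrFun (congrFun h' 1) 1

/-- The translations in `Qd(p)`. -/
def qdTr : Multiplicative (Fin 2 → ZMod p) →* ↥(qd p) :=
  MonoidHom.mk' (fun v => ⟨PLocalB.aff v.toAdd 1, PLocalB.aff_mem_qd _ _⟩) fun v w =>
    Subtype.ext (by
      show PLocalB.aff _ _ = PLocalB.aff _ _ * PLocalB.aff _ _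
      rw [PLocalB.aff_mul, toAdd_mul, one_mul]
      exact congrArg (PLocalB.aff · 1) (congrArg (v.toAdd + ·) (one_mulVec w.toAdd).symm))

theorem qdTr_injective : Function.Injective (qdTr (p := p)) := fun _ _ h =>
  Multiplicative.toAdd.injective (qdAff_inj (congrArg Subtype.val h)).1

theorem qd_conj_qdTr (v : Fin 2 → ZMod p) (M : SL(2, ZMod p)) (w : Multiplicative (Fin 2 → ZMod p)) :
    (⟨PLocalB.aff v M, PLocalB.aff_mem_qd v M⟩ : ↥(qd p)) * qdTr w *
      (⟨PLocalB.aff v M, PLocalB.aff_mem_qd v M⟩ : ↥(qd p))⁻¹ =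
        qdTr (Multiplicative.ofAdd ((M : Matrix (Fin 2) (Fin 2) (ZMod p)) *ᵥ w.toAdd)) := by
  rw [mul_inv_eq_iff_eq_mul]
  refine Subtype.ext ?_
  show PLocalB.aff v M * PLocalB.aff w.toAdd 1 = PLocalB.aff _ 1 * PLocalB.aff v M
  rw [PLocalB.aff_mul, PLocalB.aff_mul, toAdd_ofAdd, mul_one, one_mul, add_comm v]
  exact congrArg (PLocalB.aff · M) (congrArg (_ + ·) (one_mulVec v).symm)

theorem exists_qd_eq (x : ↥(qd p)) :
    ∃ v M, x = ⟨PLocalB.aff v M, PLocalB.aff_mem_qd v M⟩ := by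
  obtain ⟨v, M, h⟩ := PLocalB.exists_aff_of_mem_qd x.2
  exact ⟨v, M, Subtype.ext h⟩

instance qdTr_range_normal : (qdTr (p := p)).range.Normal := by
  refine ⟨?_⟩
  rintro _ ⟨w, rfl⟩ x
  obtain ⟨v, M, rfl⟩ := exists_qd_eq x
  exact ⟨_, (qd_conj_qdTr v M w).symm⟩

theorem mem_qdTr_range_of_commute {x : ↥(qd p)} (h : ∀ w, x * qdTr w = qdTr w * x) :
    x ∈ (qdTr (p := p)).range := by
  obtain ⟨v, M, rfl⟩ := exists_qd_eq x
  refine ⟨Multiplicative.ofAdd v, Subtype.ext ?_⟩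
  have hM : M = 1 := by
    refine Subtype.ext (Matrix.ext_of_mulVec_single fun i => ?_)
    have h1 := qd_conj_qdTr v M (Multiplicative.ofAdd (Pi.single i 1))
    rw [h, mul_inv_cancel_right] at h1
    have := congrArg Multiplicative.toAdd (qdTr_injective h1)
    exact (by simpa using this.symm : _ = Pi.single i 1).trans (one_mulVec _).symm
  rw [hM]
  rfl

theorem isPGroup_qdTr_range : IsPGroup p (qdTr (p := p)).range := by
  have : IsPGroup p (Multiplicative (Fin 2 → ZMod p)) := fun v => ⟨1, by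
    refine Multiplicative.toAdd.injective (funext fun i => ?_)
    simp [toAdd_pow]⟩
  exact this.of_surjective (qdTr (p := p)).rangeRestrict (qdTr (p := p)).rangeRestrict_surjective

theorem pPrimeCore_qd : pPrimeCore p ↥(qd p) = ⊥ := by
  haveI : NeZero p := ⟨(Fact.out : p.Prime).ne_zero⟩
  rw [eq_bot_iff]
  intro r hr
  rw [Subgroup.mem_bot]
  have hc : ∀ w, r * qdTr w = qdTr w * r := fun w => by
    have h1 : r * qdTr w * r⁻¹ * (qdTr w)⁻¹ ∈ (qdTr (p := p)).range :=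
      mul_mem (qdTr_range_normal.conj_mem _ ⟨w, rfl⟩ r) (inv_mem ⟨w, rfl⟩)
    have h2 : r * qdTr w * r⁻¹ * (qdTr w)⁻¹ ∈ pPrimeCore p ↥(qd p) := by
      rw [mul_assoc r, mul_assoc r]
      exact mul_mem hr (Thompson.instPPrimeCoreNormal.conj_mem _ (inv_mem hr) _)
    exact mul_inv_eq_iff_eq_mul.mp (mul_inv_eq_one.mp
      (eq_one_of_mem_pPrimeCore isPGroup_qdTr_range h1 h2))
  exact eq_one_of_mem_pPrimeCore isPGroup_qdTr_range (mem_qdTr_range_of_commute hc) hr

variable {G : Type u} [Group G] [Finite G]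

/-- The lifted natural module: a `p`-subgroup `T`, a map `χ` of it onto `𝔽_p²`, and enough
elements normalizing `T` inducing all of `SL₂(p)`; then `Qd(p)` is involved in their group. -/
theorem involves_qd_of_lift (hp : p ≠ 2) (T Y : Subgroup G) (hTY : T ≤ Y)
    (χ : ↥T →* Multiplicative (Fin 2 → ZMod p)) (hχ : Function.Surjective χ)
    (h : ∀ M : SL(2, ZMod p), ∃ w : G, w ∈ Subgroup.normalizer (Y : Set G) ∧
      w ∈ Subgroup.normalizer (T : Set G) ∧ ∀ t t' : ↥T, (t' : G) = w * t * w⁻¹ →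
        (χ t').toAdd = (M : Matrix (Fin 2) (Fin 2) (ZMod p)) *ᵥ (χ t).toAdd) :
    Involves ↥(qd p) ↥(Subgroup.normalizer (Y : Set G)) := by
  classical
  haveI : NeZero p := ⟨(Fact.out : p.Prime).ne_zero⟩
  have hconj : ∀ {w : G}, w ∈ Subgroup.normalizer (T : Set G) → ∀ t : ↥T, w * (t : G) * w⁻¹ ∈ T :=
    fun hw t => (Subgroup.mem_normalizer_iff.mp hw _).mp t.2
  let L : Subgroup (G × SL(2, ZMod p)) :=
    { carrier := {x | x.1 ∈ Subgroup.normalizer (Y : Set G) ∧
        x.1 ∈ Subgroup.normalizer (T : Set G) ∧ ∀ t t' : ↥T, (t' : G) = x.1 * t * x.1⁻¹ →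
          (χ t').toAdd = (x.2 : Matrix (Fin 2) (Fin 2) (ZMod p)) *ᵥ (χ t).toAdd}
      one_mem' := ⟨one_mem _, one_mem _, fun t t' he => by
        rw [show t' = t from Subtype.ext (by simpa using he)]
        simp⟩
      mul_mem' := by
        rintro ⟨a, M⟩ ⟨b, N⟩ ⟨ha, ha', hM⟩ ⟨hb, hb', hN⟩
        refine ⟨mul_mem ha hb, mul_mem ha' hb', fun t t' he => ?_⟩
        show (χ t').toAdd = ((M * N : SL(2, ZMod p)) : Matrix (Fin 2) (Fin 2) (ZMod p)) *ᵥ _
        refine Eq.trans ?_ (mulVec_mulVec _ _ _)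
        rw [← hN t ⟨_, hconj hb' t⟩ rfl]
        exact hM _ t' (by rw [he]; simp [mul_assoc])
      inv_mem' := by
        rintro ⟨a, M⟩ ⟨ha, ha', hM⟩
        refine ⟨inv_mem ha, inv_mem ha', fun t t' he => ?_⟩
        show (χ t').toAdd = ((M⁻¹ : SL(2, ZMod p)) : Matrix (Fin 2) (Fin 2) (ZMod p)) *ᵥ _
        rw [hM t' t (by rw [he]; simp [mul_assoc]), mulVec_mulVec]
        refine (one_mulVec _).symm.trans (congrArg (· *ᵥ (χ t').toAdd) ?_)
        exact (congrArg Subtype.val (inv_mul_cancel M)).symm }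
  have hTL : ∀ t : ↥T, ((t : G), (1 : SL(2, ZMod p))) ∈ L := fun t =>
    ⟨Subgroup.le_normalizer (hTY t.2), Subgroup.le_normalizer t.2, fun s s' he => by
      rw [show s' = t * s * t⁻¹ from Subtype.ext he]
      simp⟩
  let inT : ↥T →* ↥L := MonoidHom.mk' (fun t => ⟨_, hTL t⟩) fun s t =>
    Subtype.ext (Prod.ext rfl (one_mul 1).symm)
  have hinT : Function.Injective inT := fun s t hst =>
    Subtype.ext (congrArg (fun z : ↥L => (z : G × SL(2, ZMod p)).1) hst)
  let R : Subgroup ↥L := χ.ker.map inT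
  have hR : R.Normal := by
    refine ⟨?_⟩
    rintro _ ⟨r, hr, rfl⟩ l
    obtain ⟨-, hl, hl'⟩ := l.2
    refine ⟨⟨_, hconj hl r⟩, ?_, Subtype.ext (Prod.ext rfl ?_)⟩
    · refine Multiplicative.toAdd.injective ((hl' r ⟨_, hconj hl r⟩ rfl).trans ?_)
      rw [show χ r = 1 from hr]
      simp
    · show (1 : SL(2, ZMod p)) = (l : G × SL(2, ZMod p)).2 * 1 * (l : G × SL(2, ZMod p)).2⁻¹
      simp
  let f : Multiplicative (Fin 2 → ZMod p) →* ↥L ⧸ R :=
    χ.liftOfSurjective hχ ⟨(QuotientGroup.mk' R).comp inT, fun t ht =>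
      (QuotientGroup.eq_one_iff _).mpr ⟨t, ht, rfl⟩⟩
  have hfe : ∀ t, f (χ t) = QuotientGroup.mk' R (inT t) := fun t =>
    χ.liftOfRightInverse_comp_apply _ (Function.rightInverse_surjInv hχ) _ t
  have hf : Function.Injective f := by
    rw [injective_iff_map_eq_one]
    intro v hv
    obtain ⟨t, rfl⟩ := hχ v
    obtain ⟨r, hr, he⟩ := (QuotientGroup.eq_one_iff _).mp ((hfe t).symm.trans hv)
    exact hinT he ▸ hr
  let π : ↥L →* SL(2, ZMod p) := (MonoidHom.snd G _).comp L.subtype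
  have hπ : Function.Surjective π := fun M => by
    obtain ⟨w, hw⟩ := h M
    exact ⟨⟨(w, M), hw⟩, rfl⟩
  obtain ⟨K, σ, hσ, -⟩ := PLocalB.qd_surjective_of_natural hp (QuotientGroup.mk' R) π hπ f hf
    fun l v => by
      obtain ⟨t, ht⟩ := hχ (Multiplicative.ofAdd v)
      obtain ⟨-, hl, hl'⟩ := l.2
      have h1 : χ ⟨_, hconj hl t⟩ = Multiplicative.ofAdd
          ((π l : Matrix (Fin 2) (Fin 2) (ZMod p)) *ᵥ v) :=
        Multiplicative.toAdd.injective (by
          rw [hl' t ⟨_, hconj hl t⟩ rfl, ht]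
          rfl)
      rw [← h1, ← ht, hfe, hfe, ← map_inv, ← map_mul, ← map_mul]
      exact congrArg _ (Subtype.ext (Prod.ext rfl (by
        show (1 : SL(2, ZMod p)) = (l : G × SL(2, ZMod p)).2 * 1 * (l : G × SL(2, ZMod p)).2⁻¹
        simp)))
  let fs : ↥L →* ↥(Subgroup.normalizer (Y : Set G)) :=
    MonoidHom.mk' (fun l => ⟨(l : G × SL(2, ZMod p)).1, l.2.1⟩) fun _ _ => Subtype.ext rfl
  have hfs : Function.Injective fs := by
    rw [injective_iff_map_eq_one]
    intro l hl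
    have h1 : (l : G × SL(2, ZMod p)).1 = 1 := congrArg Subtype.val hl
    refine Subtype.ext (Prod.ext h1 (Subtype.ext (Matrix.ext_of_mulVec_single fun i => ?_)))
    obtain ⟨t, ht⟩ := hχ (Multiplicative.ofAdd (Pi.single i 1))
    have h2 := l.2.2.2 t t (by rw [h1]; simp)
    rw [ht] at h2
    exact h2.symm.trans (one_mulVec _).symm
  exact LocalEven61.involves_trans (LocalEven61.involves_of_surjective K σ hσ)
    (LocalEven61.involves_trans (LocalEven61.involves_quotient R)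
      (LocalEven61.involves_of_hom (MonoidHom.id ↥L) (fun a => ⟨a, rfl⟩) fs hfs))

/-- A section `Qd(p)` of `G` lies in the normalizer of a `p`-subgroup containing all the
`p`-elements centralizing it. -/
theorem exists_centric_involves_qd (hp : p ≠ 2) (h : Involves ↥(qd p) G) :
    ∃ Y : Subgroup G, IsPGroup p Y ∧
      (∀ y ∈ Subgroup.centralizer (Y : Set G), IsPGroup p (Subgroup.zpowers y) → y ∈ Y) ∧
      Involves ↥(qd p) ↥(Subgroup.normalizer (Y : Set G)) := by
  classical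
  haveI : NeZero p := ⟨(Fact.out : p.Prime).ne_zero⟩
  obtain ⟨K, σ, hσ⟩ := LocalEven61.exists_surjective_of_involves h
  let M₀ : Subgroup ↥K := (qdTr (p := p)).range.comap σ
  let T₀ : Sylow p ↥M₀ := default
  let σ₀ : ↥M₀ →* ↥(qdTr (p := p)).range := σ.subgroupComap _
  have hσ₀ : Function.Surjective σ₀ := fun y => by
    obtain ⟨x, hx⟩ := hσ y
    exact ⟨⟨x, show σ x ∈ _ from hx ▸ y.2⟩, Subtype.ext hx⟩
  have hTσ : (T₀ : Subgroup ↥M₀).map σ₀ = ⊤ := by
    have := (T₀.mapSurjective hσ₀).3 (Q := ⊤) (isPGroup_qdTr_range.to_subgroup ⊤) le_top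
    rw [Sylow.coe_mapSurjective] at this
    exact this.symm
  let TK : Subgroup ↥K := (T₀ : Subgroup ↥M₀).map M₀.subtype
  let T : Subgroup G := TK.map K.subtype
  have hTp : IsPGroup p T := (T₀.2.map _).map _
  have hTK : T ≤ K := Subgroup.map_subtype_le _
  have hfrat : ∀ y : ↥(qd p), ∃ k : ↥K, (k : G) ∈ Subgroup.normalizer (T : Set G) ∧ σ k = y := by
    intro y
    obtain ⟨x, rfl⟩ := hσ y
    obtain ⟨a, ha, m, hm, rfl⟩ := Subgroup.mem_sup_of_normal_right.mp
      (Sylow.normalizer_sup_eq_top (N := M₀) T₀ ▸ Subgroup.mem_top x :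
        x ∈ Subgroup.normalizer (TK : Set ↥K) ⊔ M₀)
    obtain ⟨t, ht, he⟩ := Subgroup.mem_map.mp (hTσ ▸ Subgroup.mem_top (σ₀ ⟨m, hm⟩) :
      σ₀ ⟨m, hm⟩ ∈ (T₀ : Subgroup ↥M₀).map σ₀)
    have htN : (t : ↥K) ∈ Subgroup.normalizer (TK : Set ↥K) :=
      Subgroup.le_normalizer ⟨t, ht, rfl⟩
    refine ⟨a * t, ?_, ?_⟩
    · exact Subgroup.le_normalizer_map K.subtype ⟨_, mul_mem ha htN, rfl⟩
    · rw [map_mul, map_mul]
      exact congrArg (σ a * ·) (congrArg Subtype.val he)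
  have htr : ∀ w, ∃ t : ↥T, σ ⟨t, hTK t.2⟩ = qdTr w := by
    intro w
    obtain ⟨t, ht, he⟩ := Subgroup.mem_map.mp (hTσ ▸ Subgroup.mem_top
      (⟨qdTr w, ⟨w, rfl⟩⟩ : ↥(qdTr (p := p)).range) :
        (⟨qdTr w, ⟨w, rfl⟩⟩ : ↥(qdTr (p := p)).range) ∈ (T₀ : Subgroup ↥M₀).map σ₀)
    exact ⟨⟨_, ⟨_, ⟨t, ht, rfl⟩, rfl⟩⟩, congrArg Subtype.val he⟩
  have hTr : ∀ t : ↥T, σ ⟨t, hTK t.2⟩ ∈ (qdTr (p := p)).range := by
    rintro ⟨_, _, ⟨t, -, rfl⟩, rfl⟩
    exact t.2
  let e := MonoidHom.ofInjective (qdTr_injective (p := p))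
  let χ : ↥T →* Multiplicative (Fin 2 → ZMod p) :=
    e.symm.toMonoidHom.comp ((σ.comp (Subgroup.inclusion hTK)).codRestrict _ hTr)
  have hχe : ∀ t, qdTr (χ t) = σ ⟨t, hTK t.2⟩ := fun t => by
    have := congrArg Subtype.val (e.apply_symm_apply ⟨σ ⟨t, hTK t.2⟩, hTr t⟩)
    exact this
  have hχ : Function.Surjective χ := fun w => by
    obtain ⟨t, ht⟩ := htr w
    exact ⟨t, qdTr_injective ((hχe t).trans ht)⟩
  set NT := Subgroup.normalizer (T : Set G) with hNT
  set B : Subgroup G := T ⊔ Subgroup.centralizer (T : Set G) with hB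
  have hBN : B ≤ NT := sup_le Subgroup.le_normalizer (Subgroup.centralizer_le_normalizer _)
  haveI : (B.subgroupOf NT).Normal := by
    rw [hB, Subgroup.subgroupOf_sup Subgroup.le_normalizer
      (Subgroup.centralizer_le_normalizer _)]
    haveI : (T.subgroupOf NT).Normal := Subgroup.normal_in_normalizer
    haveI : ((Subgroup.centralizer (T : Set G)).subgroupOf NT).Normal := by
      refine ⟨fun x hx n => ?_⟩
      rw [Subgroup.mem_subgroupOf] at hx ⊢
      refine Subgroup.mem_centralizer_iff.mpr fun q hq => ?_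
      have hq' : (n : G)⁻¹ * q * n ∈ T := (Subgroup.mem_normalizer_iff''.mp n.2 q).mp hq
      have := Subgroup.mem_centralizer_iff.mp hx _ hq'
      simp only [Subgroup.coe_mul, InvMemClass.coe_inv]
      calc q * ((n : G) * x * (n : G)⁻¹) = n * (((n : G)⁻¹ * q * n) * x) * (n : G)⁻¹ := by group
        _ = n * (x * ((n : G)⁻¹ * q * n)) * (n : G)⁻¹ := by rw [this]
        _ = _ := by group
    exact Subgroup.sup_normal _ _
  let Y₀ : Sylow p ↥(B.subgroupOf NT) := default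
  let Y' : Subgroup ↥NT := (Y₀ : Subgroup ↥(B.subgroupOf NT)).map (B.subgroupOf NT).subtype
  let Y : Subgroup G := Y'.map NT.subtype
  have hYp : IsPGroup p Y := (Y₀.2.map _).map _
  have hYB : Y ≤ B := by
    rintro _ ⟨_, ⟨y, -, rfl⟩, rfl⟩
    exact y.2
  have hmax : ∀ X : Subgroup G, IsPGroup p X → Y ≤ X → X ≤ B → X ≤ Y := by
    intro X hX hYX hXB x hx
    let X₀ : Subgroup ↥(B.subgroupOf NT) := (X.subgroupOf NT).subgroupOf (B.subgroupOf NT)
    have hX₀ : IsPGroup p X₀ :=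
      (hX.comap_of_injective NT.subtype NT.subtype_injective).comap_of_injective _
        (B.subgroupOf NT).subtype_injective
    have hle : (Y₀ : Subgroup ↥(B.subgroupOf NT)) ≤ X₀ := fun y hy =>
      hYX ⟨_, ⟨y, hy, rfl⟩, rfl⟩
    have := Y₀.3 hX₀ hle
    refine ⟨⟨x, hBN (hXB hx)⟩, ⟨⟨⟨x, hBN (hXB hx)⟩, hXB hx⟩, ?_, rfl⟩, rfl⟩
    rw [SetLike.mem_coe, ← this]
    exact hx
  have hTY : T ≤ Y := by
    refine le_trans le_sup_right (hmax (Y ⊔ T) ?_ le_sup_left (sup_le hYB le_sup_left))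
    exact hYp.to_sup_of_normal_right' hTp (hYB.trans hBN)
  refine ⟨Y, hYp, fun y hy hyp => ?_, ?_⟩
  · have hyB : y ∈ B := (le_sup_right (a := T))
      (Subgroup.centralizer_le hTY hy)
    have hle : Subgroup.zpowers y ≤ Subgroup.normalizer (Y : Set G) :=
      Subgroup.zpowers_le.mpr (Subgroup.centralizer_le_normalizer _ hy)
    exact hmax _ (hYp.to_sup_of_normal_left' hyp hle) le_sup_left
      (sup_le hYB (Subgroup.zpowers_le.mpr hyB))
      (Subgroup.mem_sup_right (Subgroup.mem_zpowers y))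
  · refine involves_qd_of_lift hp T Y hTY χ hχ fun M => ?_
    obtain ⟨k, hkN, hk⟩ := hfrat ⟨PLocalB.aff 0 M, PLocalB.aff_mem_qd 0 M⟩
    obtain ⟨n, hn, b, hb, he⟩ := Subgroup.mem_sup_of_normal_right.mp
      (Sylow.normalizer_sup_eq_top (N := B.subgroupOf NT) Y₀ ▸
        Subgroup.mem_top (⟨k, hkN⟩ : ↥NT) :
        (⟨k, hkN⟩ : ↥NT) ∈ Subgroup.normalizer (Y' : Set ↥NT) ⊔ B.subgroupOf NT)
    refine ⟨n, Subgroup.le_normalizer_map NT.subtype ⟨n, hn, rfl⟩, n.2, fun t t' ht => ?_⟩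
    -- the factor in `B` acts trivially modulo the kernel
    have hbt : ∀ s : ↥T, ∃ s' : ↥T, (s' : G) = (b : G) * s * (b : G)⁻¹ ∧ χ s' = χ s := by
      intro s
      obtain ⟨u, hu, c, hc, hbe⟩ : ∃ u ∈ T, ∃ c ∈ Subgroup.centralizer (T : Set G),
          u * c = (b : G) := by
        have hbB : (b : G) ∈ B := hb
        rw [hB, ← SetLike.mem_coe, Subgroup.coe_mul_of_right_le_normalizer_left T
          (Subgroup.centralizer (T : Set G)) (Subgroup.centralizer_le_normalizer _)] at hbB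
        exact hbB
      refine ⟨⟨u, hu⟩ * s * (⟨u, hu⟩ : ↥T)⁻¹, ?_, by simp⟩
      simp only [Subgroup.coe_mul, InvMemClass.coe_inv, ← hbe]
      rw [mul_assoc u c, ← Subgroup.mem_centralizer_iff.mp hc s s.2]
      group
    have hne : (n : G) = (k : G) * (b : G)⁻¹ :=
      eq_mul_inv_iff_mul_eq.mpr (congrArg Subtype.val he)
    have hbN : (b : G)⁻¹ ∈ NT := inv_mem b.2
    let s : ↥T := ⟨(b : G)⁻¹ * t * b, by
      have := (Subgroup.mem_normalizer_iff.mp hbN t).mp t.2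
      rwa [inv_inv] at this⟩
    obtain ⟨s', hs', hχs⟩ := hbt s
    have hts : s' = t := Subtype.ext (by rw [hs']; simp [s, mul_assoc])
    have ht' : (⟨t', hTK t'.2⟩ : ↥K) = k * ⟨s, hTK s.2⟩ * k⁻¹ := Subtype.ext (by
      simp only [Subgroup.coe_mul, InvMemClass.coe_inv]
      rw [ht, hne]
      simp [s, mul_assoc])
    have h1 : qdTr (χ t') =
        qdTr (Multiplicative.ofAdd ((M : Matrix (Fin 2) (Fin 2) (ZMod p)) *ᵥ (χ t).toAdd)) := by
      rw [hχe, ht', map_mul, map_mul, map_inv, hk, ← hχe s, qd_conj_qdTr, ← hts, hχs]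
    rw [qdTr_injective h1, toAdd_ofAdd]

end Cfsg.Agent.Fusion92
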