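import Cfsg.Agent.Fusion92.QuadraticFix
import Cfsg.Agent.Fusion92.SecW
import Cfsg.Agent.Lib.Thompson.Cores

set_option autoImplicit false

/-! A functor satisfying the quadratic element condition controls `p`-th powers of central elements. -/

namespace Cfsg.Agent.Fusion92

open Cfsg
open scoped IsMulCommutative commutatorElement

universe u

variable {p : ℕ} [Fact p.Prime]

theorem commute_pow_of_quadratic {W : ∀ (Q : Type u) [Group Q], Subgroup Q}
    (hW2 : IsInvariantW p W)
    (hq : ∀ (G : Type u) [Group G] [Finite G] (P : Sylow p G),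
      ¬ (((W ↥(P : Subgroup G)).map (P : Subgroup G).subtype : Subgroup G)).Normal →
      ∃ g : G, g ∈ (P : Subgroup G) ∧ g ∉ Cfsg.pCore p G ∧
        ⁅⁅Subgroup.center ↥(Cfsg.pCore p G) |>.map (Cfsg.pCore p G).subtype, Subgroup.zpowers g⁆,
          Subgroup.zpowers g⁆ = ⊥)
    (G : Type u) [Group G] [Finite G] (P : Sylow p G) (z : G) (hzO : z ∈ Cfsg.pCore p G)
    (hzP : z ∈ Subgroup.centralizer ((P : Subgroup G) : Set G))
    (hN : ∀ g ∈ Subgroup.normalizer (((W ↥(P : Subgroup G)).map (P : Subgroup G).subtype :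
      Subgroup G) : Set G), g * z ^ p = z ^ p * g) (g : G) : g * z ^ p = z ^ p * g := by
  induction hn : Nat.card G using Nat.strong_induction_on generalizing G with
  | _ n ih =>
  by_cases hWn : (((W ↥(P : Subgroup G)).map (P : Subgroup G).subtype : Subgroup G)).Normal
  · exact hN g (by rw [Subgroup.normalizer_eq_top_iff.mpr hWn]; trivial)
  obtain ⟨g₀, hg₀P, hg₀O, hg₀q⟩ := hq G P hWn
  set O := Cfsg.pCore p G with hO
  let V : Subgroup G := (Subgroup.center ↥O).map O.subtype
  haveI hVn : V.Normal := Thompson.map_subtype_normal_of_characteristic O (Subgroup.center ↥O)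
  haveI : IsMulCommutative V := Subgroup.map_isMulCommutative _ _
  letI : MulDistribMulAction G V := MulDistribMulAction.compHom V (MulAut.conjNormal (H := V))
  have hsmul : ∀ (h : G) (v : V), ((h • v : V) : G) = h * v * h⁻¹ := fun h v =>
    MulAut.conjNormal_apply h v
  let Quad : G → Prop := fun b => ∀ v : V, b • (b • v / v) = b • v / v
  have hquadconj : ∀ b h : G, Quad b → Quad (h * b * h⁻¹) := by
    intro b h hb v
    have h1 := congrArg (fun w => h • w) (hb (h⁻¹ • v))
    simp only [smul_div', smul_smul] at h1 ⊢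
    simpa [mul_assoc] using h1
  have hg₀Q : Quad g₀ := by
    intro v
    have h1 : ⁅⁅(v : G), g₀⁆, g₀⁆ = 1 := Subgroup.mem_bot.mp (hg₀q ▸
      Subgroup.commutator_mem_commutator (Subgroup.commutator_mem_commutator v.2
        (Subgroup.mem_zpowers g₀)) (Subgroup.mem_zpowers g₀))
    rw [commutatorElement_eq_one_iff_mul_comm] at h1
    apply Subtype.ext
    simp only [hsmul, div_eq_mul_inv, Subgroup.coe_mul, Subgroup.coe_inv]
    set c := ⁅(v : G), g₀⁆ with hc
    have h2 : g₀ * (v : G) * g₀⁻¹ * (v : G)⁻¹ = c⁻¹ := by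
      rw [hc, commutatorElement_inv, commutatorElement_def]
    rw [h2]
    calc g₀ * c⁻¹ * g₀⁻¹ = c⁻¹ * (c * g₀) * c⁻¹ * g₀⁻¹ := by group
      _ = c⁻¹ * (g₀ * c) * c⁻¹ * g₀⁻¹ := by rw [h1]
      _ = c⁻¹ := by group
  let S₀ : Set G := {b | b ∈ (P : Subgroup G) ∧ Quad b}
  let K : Subgroup G := Subgroup.closure S₀
  have hKP : K ≤ P := (Subgroup.closure_le _).mpr fun b hb => hb.1
  have hKn : ¬ K.Normal := fun h => hg₀O
    (Thompson.le_pCore h (P.isPGroup'.to_le hKP) (Subgroup.subset_closure ⟨hg₀P, hg₀Q⟩))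
  -- the `p`-th power and the group it centralizes
  have hzV : z ∈ V := ⟨⟨z, hzO⟩, Subgroup.mem_center_iff.mpr fun o => Subtype.ext
    (Subgroup.mem_centralizer_iff.mp hzP o (Thompson.pCore_le_sylow P o.2)), rfl⟩
  let M : Subgroup G := Subgroup.centralizer {z ^ p}
  have hmemM : ∀ h : G, h ∈ M ↔ h * z ^ p = z ^ p * h := fun h => by
    simp only [M, Subgroup.mem_centralizer_iff, Set.mem_singleton_iff, forall_eq]
    exact eq_comm
  have hPM : (P : Subgroup G) ≤ M := fun h hh => (hmemM h).mpr
    (Commute.pow_right (show Commute h z from Subgroup.mem_centralizer_iff.mp hzP h hh) p)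
  -- the normalizer of `K` is smaller
  set H := Subgroup.normalizer (K : Set G) with hHdef
  have hPH : (P : Subgroup G) ≤ H := fun h hh => by
    refine Subgroup.mem_normalizer_iff_map_conj_eq.mpr ?_
    rw [MonoidHom.map_closure]
    congr 1
    refine Set.Subset.antisymm ?_ fun b hb => ?_
    · rintro _ ⟨b, hb, rfl⟩
      exact ⟨by simpa using mul_mem (mul_mem hh hb.1) (inv_mem hh), hquadconj b h hb.2⟩
    · refine ⟨h⁻¹ * b * h, ⟨mul_mem (mul_mem (inv_mem hh) hb.1) hh, ?_⟩, by simp [mul_assoc]⟩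
      simpa using hquadconj b h⁻¹ hb.2
  have hHlt : Nat.card H < n := by
    rw [← hn]
    refine lt_of_le_of_ne (Nat.card_le_card_of_injective _ H.subtype_injective) fun h => hKn ?_
    exact Subgroup.normalizer_eq_top_iff.mp (Subgroup.eq_top_of_card_eq H h)
  have hHM : H ≤ M := by
    intro h hh
    have hWe : (W ↥((P.subtype hPH : Sylow p H) : Subgroup H)).map
        ((P.subtype hPH : Sylow p H) : Subgroup H).subtype =
        ((W ↥(P : Subgroup G)).map (P : Subgroup G).subtype).subgroupOf H := by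
      let e : ↥(P : Subgroup G) ≃* ↥((P.subtype hPH : Sylow p H) : Subgroup H) :=
        (Subgroup.subgroupOfEquivOfLe hPH).symm.trans (MulEquiv.subgroupCongr (P.coe_subtype hPH).symm)
      rw [← hW2 _ _ P.isPGroup' e]
      ext x
      constructor
      · rintro ⟨y, ⟨w, hw, rfl⟩, rfl⟩
        exact ⟨w, hw, rfl⟩
      · rintro ⟨w, hw, he⟩
        exact ⟨e w, ⟨w, hw, rfl⟩, Subtype.ext he⟩
    have h1 := ih _ hHlt H (P.subtype hPH) ⟨z, hPH (Thompson.pCore_le_sylow P hzO)⟩
      (Thompson.subgroupOf_pCore_le H (Subgroup.mem_subgroupOf.mpr hzO))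
      (Subgroup.mem_centralizer_iff.mpr fun y hy => Subtype.ext
        (Subgroup.mem_centralizer_iff.mp hzP y (by
          rw [SetLike.mem_coe, P.coe_subtype hPH] at hy; exact hy)))
      (fun k hk => Subtype.ext (by
        have hk' : (k : G) ∈ Subgroup.normalizer (((W ↥(P : Subgroup G)).map
            (P : Subgroup G).subtype : Subgroup G) : Set G) := by
          refine Subgroup.mem_normalizer_iff.mpr fun x => ?_
          rw [hWe] at hk
          have hWH : (W ↥(P : Subgroup G)).map (P : Subgroup G).subtype ≤ H :=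
            (Subgroup.map_subtype_le _).trans hPH
          constructor
          · intro hx
            exact (Subgroup.mem_normalizer_iff.mp hk ⟨x, hWH hx⟩).mp hx
          · intro hx
            have hxH : x ∈ H := by
              have := H.mul_mem (H.mul_mem (H.inv_mem k.2) (hWH hx)) k.2
              simpa [mul_assoc] using this
            exact (Subgroup.mem_normalizer_iff.mp hk ⟨x, hxH⟩).mpr hx
        simpa using hN k hk')) ⟨h, hh⟩ rfl
    exact (hmemM h).mpr (by simpa using congrArg Subtype.val h1)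
  -- apply the fixed point lemma
  have hsyl : ∀ R : Subgroup G, R ≤ M → IsPGroup p R →
      ∃ m ∈ M, ∀ r ∈ R, m⁻¹ * r * m ∈ (P : Subgroup G) := by
    intro R hR hRp
    obtain ⟨R', hR'⟩ := (hRp.comap_subtype (K := M)).exists_le_sylow
    obtain ⟨m, hm⟩ := MulAction.exists_smul_eq M R' (P.subtype hPM)
    refine ⟨(m : G)⁻¹, M.inv_mem m.2, fun r hr => ?_⟩
    have h1 : m * ⟨r, hR hr⟩ * m⁻¹ ∈ ((P.subtype hPM : Sylow p M) : Subgroup M) := by
      rw [← hm, Sylow.coe_subgroup_smul]
      exact ⟨_, hR' hr, rfl⟩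
    rw [P.coe_subtype hPM] at h1
    simpa [Subgroup.mem_subgroupOf] using h1
  have hind : ¬ p ∣ M.index := fun h => P.not_dvd_index (h.trans (Subgroup.index_dvd_of_le hPM))
  have hmove : ∀ x : G ⧸ M, x ≠ ((1 : G) : G ⧸ M) →
      ∃ b ∈ (P : Subgroup G), b • x ≠ x ∧ Quad b := by
    intro x hx
    obtain ⟨h, rfl⟩ := QuotientGroup.mk_surjective x
    by_contra hall
    push Not at hall
    refine hx (QuotientGroup.eq.mpr ?_)
    have hfix : ∀ b ∈ S₀, h⁻¹ * b * h ∈ M := fun b hb => by
      have h1 : b • (h : G ⧸ M) = (h : G ⧸ M) := by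
        by_contra hne
        exact hall b hb.1 hne hb.2
      rw [MulAction.Quotient.smul_mk, smul_eq_mul, QuotientGroup.eq] at h1
      simpa [mul_assoc] using M.inv_mem h1
    obtain ⟨m, hm, hmP⟩ := hsyl (K.map (MulAut.conj h⁻¹).toMonoidHom) (by
      rw [Subgroup.map_le_iff_le_comap, Subgroup.closure_le]
      exact fun b hb => by simpa using hfix b hb) ((P.isPGroup'.to_le hKP).map _)
    have hle : K.map (MulAut.conj (h * m)⁻¹).toMonoidHom ≤ K := by
      rw [Subgroup.map_le_iff_le_comap, Subgroup.closure_le]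
      refine fun b hb => Subgroup.subset_closure ⟨?_, ?_⟩
      · simpa [mul_assoc] using hmP _ ⟨b, Subgroup.subset_closure hb, rfl⟩
      · simpa [mul_assoc] using hquadconj b (h * m)⁻¹ hb.2
    have hhm : (h * m)⁻¹ ∈ M := hHM (Subgroup.mem_normalizer_iff_map_conj_eq.mpr
      (Subgroup.eq_of_le_of_card_ge hle
        (Nat.card_congr (K.equivMapOfInjective _ (MulAut.conj (h * m)⁻¹).injective).toEquiv).le))
    simpa using M.mul_mem hm hhm
  have hfin := smul_eq_of_quadratic (p := p)
    ((Thompson.isPGroup_pCore (G := G)).to_le (Subgroup.map_subtype_le _)) M (P : Subgroup G)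
    hPM P.isPGroup' hind hsyl hmove (⟨z, hzV⟩ : V)
    (fun h hh => Subtype.ext (by
      rw [hsmul]
      show h * z * h⁻¹ = z
      rw [Subgroup.mem_centralizer_iff.mp hzP h hh]; group))
    (fun h hh => Subtype.ext (by
      rw [hsmul, Subgroup.coe_pow]
      show h * z ^ p * h⁻¹ = z ^ p
      rw [(hmemM h).mp hh]; group)) g
  have := congrArg Subtype.val hfin
  rw [hsmul, Subgroup.coe_pow] at this
  exact mul_inv_eq_iff_eq_mul.mp this

end Cfsg.Agent.Fusion92
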