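import Cfsg.Agent.Fusion92.LocalModel
import Cfsg.Agent.Fus93.CentricExt
import Cfsg.Agent.Lib.Fusion.Subsystem

set_option autoImplicit false

/-! The automizer as a quotient of the local model; moving a local model up to a centric radical
subgroup. -/

namespace Cfsg.Agent.Fusion92

open Cfsg Cfsg.Agent.Fusion
open Cfsg.FusionSystem (normalizerIn centralizerIn)

universe u v

variable {Ω : Type u} [Group Ω] {S : Subgroup Ω} {F : Cfsg.FusionSystem S} {p : ℕ} [Fact p.Prime]
  {U : Subgroup Ω} {L : Type v} [Group L] {ι : ↥(normalizerIn S U) →* L}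

/-- The action of the local model on `U`. -/
noncomputable def IsShape.actHom {N : Subgroup Ω} {ι : N →* L} (h : IsShape U N ι) :
    L →* MulAut U :=
  haveI := h.norm
  (MulAut.congr ((Subgroup.subgroupOfEquivOfLe h.le).symm.trans
    (Subgroup.equivMapOfInjective _ ι h.inj)).symm).toMonoidHom.comp
    (MulAut.conjNormal (H := (U.subgroupOf N).map ι))

omit [Fact p.Prime] in
theorem IsShape.actHom_spec {N : Subgroup Ω} {ι : N →* L} (h : IsShape U N ι) (g : L) (x : U) :
    ι ⟨(h.actHom g x : Ω), h.le (h.actHom g x).2⟩ = g * ι ⟨x, h.le x.2⟩ * g⁻¹ := by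
  haveI := h.norm
  let e := (Subgroup.subgroupOfEquivOfLe h.le).symm.trans (Subgroup.equivMapOfInjective _ ι h.inj)
  have he : ∀ y : U, (e y : L) = ι ⟨y, h.le y.2⟩ := fun y => rfl
  rw [← he (h.actHom g x), ← he x]
  show (e (e.symm (MulAut.conjNormal g (e x))) : L) = _
  rw [e.apply_symm_apply, MulAut.conjNormal_apply]

omit [Fact p.Prime] in
theorem IsShape.actHom_ker_le {N : Subgroup Ω} {ι : N →* L} (h : IsShape U N ι) :
    h.actHom.ker ≤ (U.subgroupOf N).map ι := by
  refine fun g hg => h.cent fun y hy => ?_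
  obtain ⟨u, hu, rfl⟩ := hy
  have := h.actHom_spec g ⟨(u : Ω), hu⟩
  rw [MonoidHom.mem_ker.mp hg] at this
  calc ι u * g = (g * ι u * g⁻¹) * g := by rw [← this]; rfl
    _ = g * ι u := by group

omit [Fact p.Prime] in
theorem IsLocal.range_actHom [Finite S] (h : IsLocal F p U ι) :
    h.shape.actHom.range = F.autGroup U := by
  ext α
  rw [MonoidHom.mem_range]
  constructor
  · rintro ⟨g, rfl⟩
    obtain ⟨f, hf, hfU, hfe⟩ := h.exists_map g le_rfl h.shape.le
      (fun x hx => ⟨_, h.shape.actHom_spec g ⟨x, hx⟩⟩)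
    refine autGroup_mem_of_isMap (hf.congr fun x hx => ?_)
    obtain ⟨hfx, he⟩ := hfe x hx
    rw [← h.shape.actHom_spec g ⟨x, hx⟩] at he
    rw [autFun_of_mem _ hx]
    exact congrArg Subtype.val (h.shape.inj he)
  · intro hα
    obtain ⟨g, hg⟩ := h.exists_conj le_rfl h.shape.le ((mem_autGroup h.le_S).mp hα).1
      ((mem_autGroup h.le_S).mp hα).2
    refine ⟨g, MulEquiv.ext fun x => Subtype.ext ?_⟩
    have hx : autFun α (x : Ω) ∈ normalizerIn S U := by
      rw [autFun_coe]; exact h.shape.le (α x).2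
    have h1 := hg x x.2 hx
    rw [← h.shape.actHom_spec g x] at h1
    exact (congrArg Subtype.val (h.shape.inj h1)).symm.trans (autFun_coe α x)

omit [Fact p.Prime] in
theorem IsLocal.isPGroup_map (h : IsLocal F p U ι) (hS : IsPGroup p S) :
    IsPGroup p ((U.subgroupOf (normalizerIn S U)).map ι : Subgroup L) :=
  (((hS.to_le h.le_S).of_equiv (Subgroup.subgroupOfEquivOfLe h.shape.le).symm).map ι)

omit [Fact p.Prime] in
/-- If the largest normal `p`-subgroup of the local model is the image of `U`, then `U` is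
radical. -/
theorem IsLocal.isRadical [Finite S] (hS : IsPGroup p S) (h : IsLocal F p U ι)
    (hO : pCore p L ≤ (U.subgroupOf (normalizerIn S U)).map ι) : F.IsRadical p U := by
  have hker : IsPGroup p h.shape.actHom.ker :=
    (h.isPGroup_map hS).to_le h.shape.actHom_ker_le
  let M : Subgroup (MulAut U) := (pCore p (F.autGroup U)).map (F.autGroup U).subtype
  have hMp : IsPGroup p M := Thompson.isPGroup_pCore.map _
  let P : Subgroup L := M.comap h.shape.actHom
  have hPp : IsPGroup p P := hMp.comap_of_ker_isPGroup _ hker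
  have hPn : P.Normal := by
    refine ⟨fun x hx g => ?_⟩
    obtain ⟨a, ha, he⟩ := hx
    have hg : h.shape.actHom g ∈ F.autGroup U := h.range_actHom ▸ ⟨g, rfl⟩
    refine ⟨⟨_, hg⟩ * a * ⟨_, hg⟩⁻¹, Thompson.instPCoreNormal.conj_mem _ ha _, ?_⟩
    simp only [Subgroup.coe_subtype, map_mul, map_inv] at he ⊢
    rw [he]
  refine ⟨h.le_S, le_antisymm (fun α hα => ?_) fun α hα => ?_⟩
  · obtain ⟨a, ha, rfl⟩ := hα
    obtain ⟨g, hg⟩ : (a : MulAut U) ∈ h.shape.actHom.range := by rw [h.range_actHom]; exact a.2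
    have hgP : g ∈ P := ⟨a, ha, hg.symm⟩
    obtain ⟨v, hv, rfl⟩ := hO (Thompson.le_pCore hPn hPp hgP)
    refine Fusion.mem_inn.mpr ⟨(v : Ω), hv, fun x => ?_⟩
    have h1 := h.shape.actHom_spec (ι v) x
    rw [← map_mul, ← map_inv, ← map_mul, hg] at h1
    exact congrArg Subtype.val (h.shape.inj h1)
  · obtain ⟨w, hw, hα⟩ := Fusion.mem_inn.mp hα
    have hmem : α ∈ F.autGroup U := Fusion.inn_le_autGroup h.le_S
      (Fusion.mem_inn.mpr ⟨w, hw, hα⟩)
    refine ⟨⟨α, hmem⟩, ?_, rfl⟩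
    let Φ : L →* F.autGroup U := h.shape.actHom.codRestrict _ fun g => h.range_actHom ▸ ⟨g, rfl⟩
    have hΦ : Function.Surjective Φ := fun b => by
      obtain ⟨g, hg⟩ : (b : MulAut U) ∈ h.shape.actHom.range := by rw [h.range_actHom]; exact b.2
      exact ⟨g, Subtype.ext hg⟩
    refine Thompson.map_pCore_le_of_surjective Φ hΦ
      ⟨ι ⟨w, h.shape.le hw⟩, h.map_le_pCore hS ⟨_, hw, rfl⟩, ?_⟩
    refine Subtype.ext (MulEquiv.ext fun x => Subtype.ext ?_)
    have h1 := h.shape.actHom_spec (ι ⟨w, h.shape.le hw⟩) x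
    rw [← map_mul, ← map_inv, ← map_mul] at h1
    exact (congrArg Subtype.val (h.shape.inj h1)).trans (hα x).symm

/-- If the local model at a fully normalized centric `U` has a larger normal `p`-subgroup, it
embeds into a local model at a larger fully normalized centric subgroup. -/
theorem IsLocal.exists_step [Finite S] (hS : IsPGroup p S) (hF : F.IsSaturated p)
    (hC : F.IsCentric U) (h : IsLocal F p U ι)
    (hO : ¬ pCore p L ≤ (U.subgroupOf (normalizerIn S U)).map ι) :
    ∃ (U' : Subgroup Ω) (L' : Type u) (_ : Group L') (ι' : ↥(normalizerIn S U') →* L'),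
      F.IsFullyNormalized U' ∧ F.IsCentric U' ∧ Nat.card U < Nat.card U' ∧ IsLocal F p U' ι' ∧
        ∃ j : L →* L', Function.Injective j := by
  have := h.fin
  let N := normalizerIn S U
  have hOle : pCore p L ≤ ι.range := by
    obtain ⟨T, hT⟩ := h.sylow
    exact hT ▸ Thompson.pCore_le_sylow T
  let R : Subgroup Ω := ((pCore p L).comap ι).map N.subtype
  have hRN : R ≤ N := Subgroup.map_subtype_le _
  have hRS : R ≤ S := hRN.trans (Fusion.normalizerIn_le S U)
  have hUR : U ≤ R := fun u hu =>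
    ⟨⟨u, h.shape.le hu⟩, h.map_le_pCore hS ⟨⟨u, h.shape.le hu⟩, hu, rfl⟩, rfl⟩
  have hmemR : ∀ x : N, (x : Ω) ∈ R ↔ ι x ∈ pCore p L := fun x =>
    ⟨fun ⟨y, hy, he⟩ => Subtype.ext (p := (· ∈ N)) he ▸ hy, fun hx => ⟨x, hx, rfl⟩⟩
  have hNR : N ≤ normalizerIn S R := by
    refine fun n hn => ⟨hn.1, Subgroup.mem_normalizer_iff.mpr fun x => ?_⟩
    have key : ∀ m : N, ∀ y : N, (y : Ω) ∈ R → (m : Ω) * y * (m : Ω)⁻¹ ∈ R := fun m y hy => by
      refine (hmemR (m * y * m⁻¹)).mpr ?_
      rw [map_mul, map_mul, map_inv]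
      exact Thompson.instPCoreNormal.conj_mem _ ((hmemR y).mp hy) _
    refine ⟨fun hx => key ⟨n, hn⟩ ⟨x, hRN hx⟩ hx, fun hx => ?_⟩
    have := key ⟨n, hn⟩⁻¹ ⟨n * x * n⁻¹, hRN hx⟩ hx
    simpa [mul_assoc] using this
  have hmapR : (R.subgroupOf N).map ι = pCore p L := by
    refine le_antisymm ?_ fun y hy => ?_
    · rintro _ ⟨x, hx, rfl⟩
      exact (hmemR x).mp hx
    · obtain ⟨x, rfl⟩ := hOle hy
      exact ⟨x, (hmemR x).mpr hy, rfl⟩
  have hlt : Nat.card U < Nat.card R := by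
    haveI : Finite R := Fusion.finite_of_le hRS
    refine lt_of_le_of_ne (Subgroup.card_le_of_le hUR) fun he => hO ?_
    rw [← hmapR, ← Subgroup.eq_of_le_of_card_ge hUR he.ge]
  have hRC : F.IsCentric R := Fus93.isCentric_of_le hC hUR hRS
  obtain ⟨R', hRR', hR'N⟩ := exists_fullyNormalized (F := F) hRS
  have hR'C : F.IsCentric R' := Fus93.isCentric_of_isConj hRC hRR'
  obtain ⟨L', hG', hL', ι', h'⟩ := exists_isLocal hS hF hR'C hR'N
  obtain ⟨γ, hγ, hγR, hγN⟩ := exists_normalizer_map hS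
    (fullyAutomized_of_fullyNormalized hS hF hR'N) (receptive_of_fullyNormalized hS hF hR'N) hRR'
  refine ⟨R', L', hG', ι', hR'N, hR'C, (isConj_card hRR') ▸ hlt, h', ?_⟩
  let γN : ↥(normalizerIn S R) →* ↥(normalizerIn S R') :=
    MonoidHom.mk' (fun x => ⟨γ x, hγN x x.2⟩) fun x y => Subtype.ext (hγ.map_mul x.2 y.2)
  have hRNR : R ≤ normalizerIn S R := Fusion.le_normalizerIn hRS
  have hγinj : Function.Injective γN := fun x y hxy =>
    Subtype.ext (hγ.injOn x.2 y.2 (congrArg Subtype.val hxy))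
  have hmap2 : (R.subgroupOf (normalizerIn S R)).map (ι'.comp γN) =
      (R'.subgroupOf (normalizerIn S R')).map ι' := by
    rw [← Subgroup.map_map]
    congr 1
    refine le_antisymm ?_ fun y hy => ?_
    · rintro _ ⟨x, hx, rfl⟩
      exact hγR.mem hx
    · obtain ⟨x, hx, he⟩ := hγR.exists_preimage hy
      exact ⟨⟨x, hRNR hx⟩, hx, Subtype.ext he⟩
  have h1 : IsShape R N ι := ⟨h.shape.inj, hRN, hmapR.symm ▸ Thompson.instPCoreNormal,
    hmapR.symm ▸ h.centralizer_pCore_le hS⟩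
  have h2 : IsShape R (normalizerIn S R) (ι'.comp γN) :=
    ⟨h'.shape.inj.comp hγinj, hRNR, hmap2.symm ▸ h'.shape.norm, hmap2.symm ▸ h'.shape.cent⟩
  haveI : Finite R := Fusion.finite_of_le hRS
  obtain ⟨j, hj, -⟩ := Fusion92.exists_embedding h1 h2 hNR (hS.to_le hRS) h.not_dvd_index
    (fun g P hRP hP f hf => by
      obtain ⟨f', hf', -, hfe⟩ := h.exists_map g (hUR.trans hRP) hP
        (fun x hx => ⟨f ⟨x, hx⟩, hf ⟨x, hx⟩⟩)
      have hff : ∀ x : P, ((f x : N) : Ω) = f' x := fun x => by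
        obtain ⟨hfx, he⟩ := hfe x x.2
        exact congrArg Subtype.val (h.shape.inj ((hf x).trans he.symm))
      have hPNR : P ≤ normalizerIn S R := hP.trans hNR
      obtain ⟨P', hγP⟩ := (hγ.mono hPNR).exists_image
      have hP' : P' ≤ normalizerIn S R' := fun y hy => by
        obtain ⟨x, hx, rfl⟩ := hγP.exists_preimage hy
        exact hγN x (hPNR hx)
      obtain ⟨δ, hδ, hδγ, -⟩ := hγP.exists_inv
      have hfP : ∀ x ∈ P, f' x ∈ normalizerIn S R := fun x hx => by
        rw [← hff ⟨x, hx⟩]; exact hNR (f ⟨x, hx⟩).2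
      have hk : IsMap F P' (γ ∘ f' ∘ δ) :=
        (hδ.comp_map hf').comp hγ fun y hy => hfP _ (hδ.mem hy)
      have hfRR : ∀ x ∈ R, f' x ∈ R := fun x hx => by
        have h4 : ι (f ⟨x, hRP hx⟩) ∈ pCore p L := by
          rw [hf]
          exact Thompson.instPCoreNormal.conj_mem _ ((hmemR ⟨x, hRN hx⟩).mp hx) g
        rw [← hff ⟨x, hRP hx⟩]
        exact (hmemR _).mpr h4
      have hfR : f' '' (R : Set Ω) = (R : Set Ω) :=
        Set.Subset.antisymm (fun y ⟨x, hx, he⟩ => he ▸ hfRR x hx)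
          (surjOn_of_card_le hRS (hf'.injOn.mono hRP) hfRR le_rfl)
      have hR'P' : R' ≤ P' := fun y hy => by
        obtain ⟨x, hx, rfl⟩ := hγR.exists_preimage hy
        exact hγP.mem (hRP hx)
      have hkR : (γ ∘ f' ∘ δ) '' (R' : Set Ω) = (R' : Set Ω) := by
        rw [← hγR.2, ← Set.image_comp]
        conv_rhs => rw [← hfR, ← Set.image_comp]
        exact Set.image_congr fun x hx => by
          simp only [Function.comp_apply]; rw [hδγ x (hRP hx)]
      obtain ⟨g₂, hg₂⟩ := h'.exists_conj hR'P' hP' hk hkR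
      refine ⟨g₂, fun r => ?_⟩
      have hr : (γ ∘ f' ∘ δ) (γ r) = γ (f r) := by
        simp only [Function.comp_apply]; rw [hδγ r r.2, hff r]
      have h3 := hg₂ (γ r) (hγP.mem r.2) (hr ▸ hγN _ (hNR (f r).2))
      have hr' : (⟨(γ ∘ f' ∘ δ) (γ r), hr ▸ hγN _ (hNR (f r).2)⟩ : ↥(normalizerIn S R')) =
          γN (Subgroup.inclusion hNR (f r)) := Subtype.ext hr
      rw [hr'] at h3
      exact h3)
  exact ⟨j, hj⟩

/-- A local model at a centric subgroup embeds into one at a fully normalized centric radical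
subgroup. -/
theorem IsLocal.exists_radical_embedding [Finite S] (hS : IsPGroup p S) (hF : F.IsSaturated p)
    (hC : F.IsCentric U) (hN : F.IsFullyNormalized U) {L : Type u} [Group L]
    {ι : ↥(normalizerIn S U) →* L} (h : IsLocal F p U ι) :
    ∃ (U' : Subgroup Ω) (L' : Type u) (_ : Group L') (ι' : ↥(normalizerIn S U') →* L'),
      F.IsFullyNormalized U' ∧ F.IsCentric U' ∧ F.IsRadical p U' ∧ IsLocal F p U' ι' ∧
        ∃ j : L →* L', Function.Injective j := by
  induction hn : Nat.card S - Nat.card U using Nat.strong_induction_on generalizing U L with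
  | _ n ih =>
    by_cases hO : pCore p L ≤ (U.subgroupOf (normalizerIn S U)).map ι
    · exact ⟨U, L, inferInstance, ι, hN, hC, h.isRadical hS hO, h, MonoidHom.id L,
        fun _ _ h => h⟩
    obtain ⟨U', L', hG', ι', hU'N, hU'C, hlt, h', j, hj⟩ := h.exists_step hS hF hC hO
    have hle : Nat.card U' ≤ Nat.card S := Subgroup.card_le_of_le hU'C.1
    obtain ⟨U'', L'', hG'', ι'', h1, h2, h3, h4, k, hk⟩ :=
      ih _ (by omega) hU'C hU'N h' rfl
    exact ⟨U'', L'', hG'', ι'', h1, h2, h3, h4, k.comp j, hk.comp hj⟩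

end Cfsg.Agent.Fusion92
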