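import Cfsg.Agent.Fusion92.InnerChar

set_option autoImplicit false

/-! Sparse systems are constrained. -/

namespace Cfsg.Agent.Fusion92

open Cfsg Cfsg.Agent.Fusion
open Cfsg.FusionSystem (normalizerIn centralizerIn extender)

universe u

variable {Ω : Type u} [Group Ω] {S : Subgroup Ω} {F : Cfsg.FusionSystem S} {p : ℕ} [Fact p.Prime]

/-- In a sparse system a subgroup normal in `S` is normal in the system or has inner normalizer. -/
theorem stab_dichotomy [Finite S] (hS : IsPGroup p S) (hF : F.IsSaturated p)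
    (hsp : ∀ E : Cfsg.FusionSystem S, E.IsSaturated p → E.IsSubsystemOf F →
      (∀ P : Subgroup Ω, E.Hom P = F.Hom P) ∨
        (∀ P : Subgroup Ω, E.Hom P = (Cfsg.innerFusionSystem S).Hom P))
    {V : Subgroup Ω} (hV : V ≤ S) (hSV : S ≤ Subgroup.normalizer (V : Set Ω)) :
    F.IsNormal V ∨ ∀ P f, IsMap F P f → ExtendsStab F V P f →
      ∃ g ∈ S, ∀ x ∈ P, f x = g * x * g⁻¹ := by
  have hNS : normalizerIn S V = S := inf_eq_left.mpr hSV
  have hVn : F.IsFullyNormalized V :=
    ⟨hV, fun R _ => hNS.symm ▸ Subgroup.card_le_of_le (Fusion.normalizerIn_le S R)⟩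
  have cast : ∀ T : Subgroup Ω, T = S → ∀ N : Cfsg.FusionSystem T, N.IsSaturated p →
      ∃ E : Cfsg.FusionSystem S, E.IsSaturated p ∧ ∀ P, E.Hom P = N.Hom P := by
    rintro T rfl N hN
    exact ⟨N, hN, fun _ => rfl⟩
  obtain ⟨E, hE, hEN⟩ := cast _ hNS _ (normalizerSystem_isSaturated hS hF hVn)
  have hEF : E.IsSubsystemOf F := fun P φ hφ => mem_hom_iff_isMap.mpr
    (isMap_le_of_normalizerSystem (isMap_extFun (hEN P ▸ hφ)))
  have hmap : ∀ P f, IsMap F P f → ExtendsStab F V P f →
      IsMap (normalizerSystem F V hV) P f := fun P f hf hext =>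
    (IsNormalizerSystem.isMap_iff (isNormalizerSystem_normalizerSystem V hV)).mpr
      ⟨hf, hNS.symm ▸ hf.dom_le, fun y hy => hNS.symm ▸ hf.apply_mem hy, hext⟩
  rcases hsp E hE hEF with h | h
  · left
    refine Fusion.isNormal_iff.mpr ⟨hV, fun P f hf => ?_⟩
    obtain ⟨φ, hφ, hφf⟩ := id hf
    rw [← h P, hEN P] at hφ
    obtain ⟨f', hf', he, hfV⟩ := ((IsNormalizerSystem.isMap_iff
      (isNormalizerSystem_normalizerSystem V hV)).mp ⟨φ, hφ, hφf⟩).2.2.2
    exact ⟨f', hf', he, hfV⟩
  · right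
    intro P f hf hext
    obtain ⟨φ, hφ, hφf⟩ := hmap P f hf hext
    rw [← hEN P, h P] at hφ
    obtain ⟨-, g, hg, hge⟩ := hφ
    exact ⟨g, hg, fun x hx => (hφf ⟨x, hx⟩).symm.trans (hge ⟨x, hx⟩)⟩

/-- A sparse system, for `p` odd or without sections `S₄`, is constrained. -/
theorem isConstrained_of_sparse [Finite S] (hS : IsPGroup p S) (hF : F.IsSaturated p)
    (hne : ¬ ∀ P : Subgroup Ω, F.Hom P = (Cfsg.innerFusionSystem S).Hom P)
    (hsp : ∀ E : Cfsg.FusionSystem S, E.IsSaturated p → E.IsSubsystemOf F →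
      (∀ P : Subgroup Ω, E.Hom P = F.Hom P) ∨
        (∀ P : Subgroup Ω, E.Hom P = (Cfsg.innerFusionSystem S).Hom P))
    (hp : p ≠ 2 ∨ F.IsSectionFree p (Equiv.Perm (Fin 4))) : F.IsConstrained p := by
  set Q := F.core with hQdef
  have hQ : F.IsNormal Q := Fusion91.isNormal_core F
  have hQn := isNormal_normalizer hQ
  by_cases hCQ : centralizerIn S Q ≤ Q
  · refine ⟨hF, Q, hQ, hQ.1, fun Q' hQ' => ?_⟩
    obtain ⟨f, hf⟩ := isConj_iff.mp hQ'
    rw [← SetLike.coe_injective ((isNormal_image hQ hf.1 le_rfl).symm.trans hf.2)]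
    exact hCQ
  set R := Q ⊔ centralizerIn S Q with hR
  have hRS : R ≤ S := sup_le hQ.1 (Fusion.centralizerIn_le S Q)
  have hRn : S ≤ Subgroup.normalizer (R : Set Ω) := fun t ht => mem_normalizer_sup (hQn ht)
    (mem_normalizer_of_conj_mem_centralizer hQn ht)
  have hRinner := (stab_dichotomy hS hF hsp hRS hRn).resolve_left
    fun hRN => hCQ (le_sup_right.trans (Fusion91.le_core hRN))
  -- the automizer of the core consists of conjugations by `S`
  haveI := Fusion.finite_of_le hQ.1
  have hauto : F.autGroup Q ≤ autInducedBy S Q := by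
    intro α hα
    have hα' := (mem_autGroup hQ.1).mp hα
    have hiso : IsIso F Q Q (autFun α) := hα'
    obtain ⟨φ, -, hφ⟩ := id hiso.1
    have hRN : R ≤ extender S Q φ := by
      refine sup_le (fun q hq => (mem_extender_fun hφ).mpr ⟨hQ.1 hq, hQn (hQ.1 hq), autFun α q,
        hiso.isMap.apply_mem hq, fun y hy => hiso.isMap.map_conj hq hy⟩) fun x hx =>
        (mem_extender_fun hφ).mpr ⟨hx.1, hQn hx.1, 1, S.one_mem, fun y hy => by
          rw [← Subgroup.mem_centralizer_iff.mp hx.2 y hy]; simp⟩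
    obtain ⟨ε, hε, hεe⟩ := receptive_extend
      (receptive_of_fullyNormalized hS hF (isNormal_fullyNormalized hQ)) hiso
      (isExtendable_extender hφ)
    have hεR : IsMap F R ε := hε.mono (hRN.trans le_sup_right)
    have hmem : ∀ x ∈ R, ε x ∈ R := isMap_mem_sup hεR le_sup_left le_sup_right
      (fun x hx => Subgroup.mem_sup_left (isNormal_closed' hQ hεR (Subgroup.mem_sup_left hx) hx))
      (fun x hx => Subgroup.mem_sup_right (Fusion.map_mem_centralizer hεR le_sup_left
        (isNormal_image hQ hεR le_sup_left) (Subgroup.mem_sup_right hx) hx.2))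
    have himg : ε '' (R : Set Ω) = (R : Set Ω) :=
      Set.Subset.antisymm (fun y ⟨x, hx, he⟩ => he ▸ hmem x hx)
        (surjOn_of_card_le hRS hεR.injOn hmem le_rfl)
    obtain ⟨g, hg, hge⟩ := hRinner Q (autFun α) hiso.1
      ⟨ε, hεR.mono (sup_le le_sup_left le_rfl), fun x hx => hεe hx, himg⟩
    exact mem_autInducedBy.mpr ⟨g, hg, fun x => (autFun_coe α x).symm.trans (hge x x.2)⟩
  have hc : IsPGroup p (F.autGroup Q) := by
    refine IsPGroup.to_le ?_ hauto
    haveI : Finite (normalizerIn S Q) := Fusion.finite_of_le (Fusion.normalizerIn_le S Q)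
    rw [← range_conjAutHom]
    exact (hS.to_le (Fusion.normalizerIn_le S Q)).of_surjective _
      (conjAutHom S Q).rangeRestrict_surjective
  have hQS : Q ≠ S := fun h => hCQ ((Fusion.centralizerIn_le S Q).trans h.ge)
  exfalso
  refine hne (inner_of_normalizer_family (W := zjFamily p) hS zjFamily_ne_bot isInvariantW_zjFamily
    (fun T D => p ≠ 2 ∨ D.IsSectionFree p (Equiv.Perm (Fin 4))) ?_ ?_ ?_ hF hp hQ hc ?_)
  · intro T D hT hD hX V hV
    haveI := Fusion.finite_of_le hT
    exact hX.imp_right fun hfree => isSectionFree_normalizer (hS.to_le hT) hD hfree hV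
  · intro T D hT hD hX Q' hQ' hn
    haveI := Fusion.finite_of_le hT
    exact hX.imp_right fun hfree => isSectionFree_centralType (hS.to_le hT) hD hfree hQ' hn
  · intro T D hT hD hX Q₁ U L _ ι hl hn P hcc hle
    haveI := Fusion.finite_of_le hT
    have := hl.isLocal.fin
    refine isPGroup_of_zjFamily P (hX.imp_right fun hfree => ?_) hcc hle
    exact fun hi => not_involves_of_isSectionFree (hS.to_le hT) hfree hl.fullyNormalized hl.centric
      hl.isLocal (LocalEven61.involves_of_quotient _ hi)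
  intro i
  have hlt : Q < secW (zjFamily p i) S Q := lt_secW (zjFamily_ne_bot i) hS hQ.1 hQS
    (Subgroup.normal_subgroupOf_of_le_normalizer hQn)
  exact (stab_dichotomy hS hF hsp (secW_le _ _) fun t ht =>
    secW_conj (zjFamily p i) (isInvariantW_zjFamily i) hS hQ.1 (S.le_normalizer ht)
      (hQn ht)).resolve_left fun hYN => hlt.not_ge (Fusion91.le_core hYN)

end Cfsg.Agent.Fusion92
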