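import Cfsg.Agent.Lib.Fusion.Normal
import Cfsg.Agent.Lib.Fusion.Criterion
import Cfsg.Agent.Lib.Fusion.Hyperfocal
import Cfsg.Agent.Lib.Fusion.Subsystem
import Cfsg.Agent.Lib.PGroup.Basic
import Cfsg.Agent.Lib.PGroup.NormalAbelian
import Cfsg.Agent.Fusion92.InnerControl
import Cfsg.Agent.Fusion92.InducedAut
import Cfsg.Agent.FusTransfer.Twisted
import Cfsg.Agent.Fusion91.Factor
import Cfsg.Agent.Fusion91.Image
import Cfsg.Agent.S5134
import Cfsg.Agent.S5256
import Cfsg.Agent.S5083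
import Cfsg.Agent.S5223
import Cfsg.Agent.Fus93.Hyperfocal

set_option autoImplicit false
set_option linter.style.haveILetI false

/-!
A nilpotency criterion through strongly closed subgroups: if every subgroup of order `d` is weakly
embedded and its normalizer system is inner, the system is inner.
-/

namespace Cfsg.Agent.Fusion92.WeakEmbed

open Cfsg Cfsg.Agent.Fusion
open Cfsg.FusionSystem (normalizerIn centralizerIn)
open scoped commutatorElement

universe u

variable {Ω : Type u} [Group Ω] {S : Subgroup Ω} {F : Cfsg.FusionSystem S} {p d : ℕ} [Fact p.Prime]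

/-! ### Strongly closed subgroups -/

omit [Fact p.Prime] in
theorem closed_bot : F.StronglyClosed ⊥ :=
  stronglyClosed_iff.mpr ⟨bot_le, fun R f hf x _ hx => by
    rw [Subgroup.mem_bot] at hx ⊢
    rw [hx, hf.map_one]⟩

omit [Fact p.Prime] in
theorem closed_inf {A B : Subgroup Ω} (hA : F.StronglyClosed A) (hB : F.StronglyClosed B) :
    F.StronglyClosed (A ⊓ B) :=
  stronglyClosed_iff.mpr ⟨inf_le_left.trans hA.1, fun _ _ hf _ hx hxT =>
    ⟨closed_apply hA hf hx hxT.1, closed_apply hB hf hx hxT.2⟩⟩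

omit [Fact p.Prime] in
theorem closed_sdiv {A : Subgroup Ω} (hA : F.StronglyClosed A) {g a : Ω} (hg : g ∈ S) (ha : a ∈ A) :
    g * a * g⁻¹ ∈ A :=
  conj_mem_closed hA hg ha

/-! ### Automorphisms of order prime to `p` -/

omit [Fact p.Prime] in
theorem finite_aut [Finite S] {P : Subgroup Ω} (hP : P ≤ S) : Finite (MulAut P) := by
  haveI : Finite P := finite_of_le hP
  exact Fusion.finite_mulAut P

/-- Two-step stability: a displacement that is fixed modulo a strongly closed subgroup lies in it. -/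
theorem mem_of_two_step [Finite S] (hS : IsPGroup p S) {L : Subgroup Ω} (hL : F.StronglyClosed L)
    {P : Subgroup Ω} (hP : P ≤ S) {α : MulAut P} (hα : α ∈ F.autGroup P) (hc : (orderOf α).Coprime p)
    (x : P) (h : (((x⁻¹ * α x)⁻¹ * α (x⁻¹ * α x) : P) : Ω) ∈ L) : ((x⁻¹ * α x : P) : Ω) ∈ L := by
  haveI : Finite P := finite_of_le hP
  set L' := L.subgroupOf P with hL'
  haveI : L'.Normal := ⟨fun n hn g => Subgroup.mem_subgroupOf.mpr
    (closed_sdiv hL (hP g.2) (Subgroup.mem_subgroupOf.mp hn))⟩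
  have hinv : ∀ y ∈ L', α y ∈ L' := fun y hy => by
    rw [Subgroup.mem_subgroupOf] at hy ⊢
    rw [← autFun_coe]
    exact closed_apply hL ((mem_autGroup hP).mp hα).1 y.2 hy
  obtain ⟨c, hcdef⟩ : ∃ c, c = x⁻¹ * α x := ⟨_, rfl⟩
  rw [← hcdef] at h ⊢
  let π := QuotientGroup.mk' L'
  have hπ : ∀ y z : P, π y = π z → π (α y) = π (α z) := fun y z e => by
    refine QuotientGroup.eq.mpr ?_
    rw [← map_inv, ← map_mul]
    exact hinv _ (QuotientGroup.eq.mp e)
  have hαc : π (α c) = π c := (QuotientGroup.eq.mpr (show c⁻¹ * α c ∈ L' from h)).symm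
  have hαx : π (α x) = π x * π c := by rw [← map_mul, hcdef, mul_inv_cancel_left]
  have hiter : ∀ i : ℕ, π ((α ^ i) x) = π x * π c ^ i := by
    intro i
    induction i with
    | zero => simp
    | succ i ih =>
      rw [pow_succ', MulAut.mul_apply,
        hπ _ (x * c ^ i) (by rw [ih, map_mul, map_pow]), map_mul, map_pow, map_mul, map_pow, hαx,
        hαc, mul_assoc, ← pow_succ']
  have hm := hiter (orderOf α)
  rw [pow_orderOf_eq_one, MulAut.one_apply, left_eq_mul] at hm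
  obtain ⟨k, hk⟩ := hS.to_le hP c
  have h1 : π c = 1 := orderOf_eq_one_iff.mp (Nat.eq_one_of_dvd_coprimes (hc.pow_right k)
    (orderOf_dvd_of_pow_eq_one hm) (orderOf_dvd_of_pow_eq_one (by rw [← map_pow, hk, map_one])))
  exact (QuotientGroup.eq_one_iff c).mp h1

/-- If all automorphisms of order prime to `p` are trivial modulo `L`, then `L` contains the
hyperfocal subgroup. -/
theorem hyperfocal_le_of [Finite S] {L : Subgroup Ω}
    (h : ∀ (P : Subgroup Ω), P ≤ S → ∀ α ∈ F.autGroup P, (orderOf α).Coprime p →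
      ∀ x : P, ((x⁻¹ * α x : P) : Ω) ∈ L) : F.hyperfocalSubgroup p ≤ L := by
  refine (Subgroup.closure_le _).mpr ?_
  rintro _ ⟨P, α, x, hP, hα, rfl⟩
  haveI : Finite P := finite_of_le hP
  haveI := Fusion92.finite_autGroup F P
  revert x
  refine pResidual_induction (p := p)
    (fun a : ↥(F.autGroup P) => ∀ x : P, ((x⁻¹ * (a : MulAut P) x : P) : Ω) ∈ L) ?_ ?_ ?_ hα
  · intro x; simp
  · intro a ha x
    exact h P hP a a.2 (by rw [Subgroup.orderOf_coe]; exact ha) x
  · intro a b ha hb x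
    have := L.mul_mem (hb x) (ha ((b : MulAut P) x))
    simpa [mul_assoc] using this

/-- Automorphisms of order prime to `p` move elements inside the hyperfocal subgroup. -/
theorem disp_mem_hyperfocal {P : Subgroup Ω} (hP : P ≤ S) {α : MulAut P} (hα : α ∈ F.autGroup P)
    (hc : (orderOf α).Coprime p) (x : P) : ((x⁻¹ * α x : P) : Ω) ∈ F.hyperfocalSubgroup p := by
  have := hyperfocal_gen_mem (p := p) hP ⟨α, hα⟩ (Subgroup.subset_closure
    (show (orderOf (⟨α, hα⟩ : F.autGroup P)).Coprime p by rwa [Subgroup.orderOf_mk])) x.2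
  rwa [show autFun ((⟨α, hα⟩ : F.autGroup P) : MulAut P) (x : Ω) = (α x : Ω) from autFun_coe α x] at this

/-! ### Invariant subgroups -/

/-- `Z` is a subgroup of `X` normalised by `X` and invariant under `α`. -/
def Inv (X : Subgroup Ω) (α : MulAut X) (Z : Subgroup Ω) : Prop :=
  Z ≤ X ∧ X ≤ Subgroup.normalizer (Z : Set Ω) ∧ ∀ x ∈ Z, autFun α x ∈ Z

omit [Fact p.Prime] in
theorem Inv.of_closed [Finite S] {X Z : Subgroup Ω} (hX : X ≤ S) {α : MulAut X}
    (hα : α ∈ F.autGroup X) (hZ : F.StronglyClosed Z) : Inv X α (Z ⊓ X) := by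
  refine ⟨inf_le_right, fun g hg => ?_, fun x hx => ?_⟩
  · exact Subgroup.inf_normalizer_le_normalizer_inf ⟨le_normalizer_closed hZ (hX hg), X.le_normalizer hg⟩
  · have hi := (mem_autGroup hX).mp hα
    exact ⟨closed_apply hZ hi.1 hx.2 hx.1, hi.mem hx.2⟩

omit [Fact p.Prime] in
theorem Inv.inf {X A B : Subgroup Ω} {α : MulAut X} (hA : Inv X α A) (hB : Inv X α B) :
    Inv X α (A ⊓ B) :=
  ⟨inf_le_left.trans hA.1, fun _ hg => Subgroup.inf_normalizer_le_normalizer_inf ⟨hA.2.1 hg, hB.2.1 hg⟩,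
    fun x hx => ⟨hA.2.2 x hx.1, hB.2.2 x hx.2⟩⟩

omit [Fact p.Prime] in
theorem Inv.sup [Finite S] {X A B : Subgroup Ω} (hX : X ≤ S) {α : MulAut X}
    (hα : α ∈ F.autGroup X) (hA : Inv X α A) (hB : Inv X α B) : Inv X α (A ⊔ B) := by
  haveI : Finite ↥(A ⊔ B) := finite_of_le ((sup_le hA.1 hB.1).trans hX)
  refine ⟨sup_le hA.1 hB.1, fun g hg => ?_, ?_⟩
  · refine mem_normalizer_of_conj_mem fun y hy => ?_
    exact isMap_mem_sup (isMap_conj (F := F) ((sup_le hA.1 hB.1).trans hX) (hX hg)) le_sup_left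
      le_sup_right (fun x hx => Subgroup.mem_sup_left (conj_mem_of_mem_normalizer (hA.2.1 hg) hx))
      (fun x hx => Subgroup.mem_sup_right (conj_mem_of_mem_normalizer (hB.2.1 hg) hx)) y hy
  · exact isMap_mem_sup (((mem_autGroup hX).mp hα).1.mono (sup_le hA.1 hB.1)) le_sup_left le_sup_right
      (fun x hx => Subgroup.mem_sup_left (hA.2.2 x hx)) (fun x hx => Subgroup.mem_sup_right (hB.2.2 x hx))

/-- Subgroups of every order between two invariant subgroups of a `p`-group. -/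
theorem exists_between {X : Subgroup Ω} [Finite X] (hX : IsPGroup p X) {k : ℕ} :
    ∀ (n : ℕ) (A B : Subgroup Ω), A ≤ B → B ≤ X → X ≤ Subgroup.normalizer (A : Set Ω) →
      X ≤ Subgroup.normalizer (B : Set Ω) → Nat.card A ≤ p ^ k → p ^ k ≤ Nat.card B →
      p ^ k - Nat.card A ≤ n →
      ∃ Q, A ≤ Q ∧ Q ≤ B ∧ X ≤ Subgroup.normalizer (Q : Set Ω) ∧ Nat.card Q = p ^ k := by
  intro n
  induction n using Nat.strong_induction_on with
  | _ n ih =>
  intro A B hAB hBX hAN hBN hA hB hn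
  rcases hA.eq_or_lt with heq | hlt
  · exact ⟨A, le_rfl, hAB, hAN, heq⟩
  haveI : (A.subgroupOf X).Normal :=
    (Subgroup.normal_subgroupOf_iff (hAB.trans hBX)).mpr fun a g ha hg =>
      conj_mem_of_mem_normalizer (hAN hg) ha
  haveI : (B.subgroupOf X).Normal :=
    (Subgroup.normal_subgroupOf_iff hBX).mpr fun b g hb hg => conj_mem_of_mem_normalizer (hBN hg) hb
  have hne : ¬ B.subgroupOf X ≤ A.subgroupOf X := fun hle => by
    have h1 : B ≤ A := fun b hb => hle (show (⟨b, hBX hb⟩ : X) ∈ B.subgroupOf X from hb)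
    have : B = A := le_antisymm h1 hAB
    subst this
    omega
  obtain ⟨x, hxB, -, -, -, hAx, hcard⟩ := PGroup.exists_normal_between hX hne
  set A₁ := (A.subgroupOf X ⊔ Subgroup.zpowers x).map X.subtype with hA₁
  have hcard₁ : Nat.card A₁ = p * Nat.card A := by
    rw [hA₁, Subgroup.card_map_of_injective X.subtype_injective, hcard,
      Nat.card_congr (Subgroup.subgroupOfEquivOfLe (hAB.trans hBX)).toEquiv]
  have hAA₁ : A ≤ A₁ := fun a ha => ⟨⟨a, hBX (hAB ha)⟩, Subgroup.mem_sup_left ha, rfl⟩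
  have hA₁B : A₁ ≤ B := by
    rw [hA₁, Subgroup.map_le_iff_le_comap, sup_le_iff, Subgroup.zpowers_le]
    exact ⟨fun a ha => hAB ha, hxB⟩
  have hA₁N : X ≤ Subgroup.normalizer (A₁ : Set Ω) := fun g hg => by
    haveI : Finite A₁ := finite_of_le (hA₁B.trans hBX)
    refine mem_normalizer_of_conj_mem fun y hy => ?_
    obtain ⟨a, ha, rfl⟩ := hy
    exact ⟨⟨g, hg⟩ * a * ⟨g, hg⟩⁻¹, hAx.conj_mem a ha ⟨g, hg⟩, rfl⟩
  have hdvd : p * Nat.card A ≤ p ^ k := by
    haveI : Finite A := finite_of_le (hAB.trans hBX)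
    obtain ⟨j, hj⟩ := IsPGroup.iff_card.mp (hX.to_le (hAB.trans hBX))
    rw [hj] at hlt ⊢
    rw [← pow_succ']
    exact Nat.pow_le_pow_right (Fact.out : p.Prime).pos
      ((Nat.pow_lt_pow_iff_right (Fact.out : p.Prime).one_lt).mp hlt)
  have hApos : 0 < Nat.card A := by
    haveI : Finite A := finite_of_le (hAB.trans hBX)
    exact Nat.card_pos
  have hgrow : Nat.card A < p * Nat.card A :=
    lt_mul_of_one_lt_left hApos (Fact.out : p.Prime).one_lt
  obtain ⟨Q, h1, h2, h3, h4⟩ := ih (p ^ k - p * Nat.card A) (by omega) A₁ B hA₁B hBX hA₁N hBN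
    (hcard₁ ▸ hdvd) hB (by rw [hcard₁])
  exact ⟨Q, hAA₁.trans h1, h2, h3, h4⟩

/-! ### The hypothesis -/

/-- Every subgroup of order `d` is weakly embedded and the normalizer systems of the fully
normalized ones are inner. -/
structure Hyp (F : Cfsg.FusionSystem S) (p d : ℕ) : Prop where
  sat : F.IsSaturated p
  pgroup : IsPGroup p S
  ispow : ∃ k, d = p ^ k
  lt : d < Nat.card S
  weak : ∀ Q : Subgroup Ω, Q ≤ S → Nat.card Q = d →
    ∃ P : Subgroup Ω, F.StronglyClosed P ∧ F.StronglyClosed (Q ⊔ P) ∧ F.StronglyClosed (Q ⊓ P)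
  inner : ∀ H : Subgroup Ω, F.IsFullyNormalized H → Nat.card H = d →
    ∀ N : Cfsg.FusionSystem (normalizerIn S H), F.IsNormalizerSystem H N →
      ∀ P : Subgroup Ω, N.Hom P = (Cfsg.innerFusionSystem (normalizerIn S H)).Hom P

variable [Finite S]

/-- No automorphism of order prime to `p` stabilizes a subgroup of order `d`. -/
theorem Hyp.eq_one_of_stab (h : Hyp F p d) {H X : Subgroup Ω} (hd : Nat.card H = d) (hHX : H ≤ X)
    (hXN : X ≤ normalizerIn S H) {α : MulAut X} (hα : α ∈ F.autGroup X)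
    (hc : (orderOf α).Coprime p) (hαH : ∀ x ∈ H, autFun α x ∈ H) : α = 1 := by
  have hXS : X ≤ S := hXN.trans (Fusion.normalizerIn_le S H)
  obtain ⟨H', hH', hH'n⟩ := exists_fullyNormalized (F := F) (hHX.trans hXS)
  obtain ⟨u, hu, huH, huN⟩ := exists_normalizer_map h.pgroup
    (fullyAutomized_of_fullyNormalized h.pgroup h.sat hH'n)
    (receptive_of_fullyNormalized h.pgroup h.sat hH'n) hH'
  obtain ⟨X', hX'⟩ := (hu.mono hXN).exists_image
  have hX'N : X' ≤ normalizerIn S H' := fun y hy => by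
    obtain ⟨x, hx, rfl⟩ := hX'.exists_preimage hy
    exact huN x (hXN hx)
  have hH'X : H' ≤ X' := fun y hy => by
    obtain ⟨x, hx, rfl⟩ := huH.exists_preimage hy
    exact hX'.mem (hHX hx)
  set a' := hX'.autEquiv ⟨α, hα⟩ with ha'
  have hm := (mem_autGroup hX'.cod_le).mp a'.2
  have hval : ∀ x ∈ X, autFun (a' : MulAut X') (u x) = u (autFun α x) := fun x hx => by
    rw [autFun_of_mem _ (hX'.mem hx), autFun_of_mem _ hx, ha', IsIso.autEquiv_coe]
    exact congr_apply_equiv hX' α ⟨x, hx⟩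
  have himg : autFun (a' : MulAut X') '' (H' : Set Ω) = (H' : Set Ω) := by
    have hmem : ∀ y ∈ H', autFun (a' : MulAut X') y ∈ H' := fun y hy => by
      obtain ⟨x, hx, rfl⟩ := huH.exists_preimage hy
      rw [hval x (hHX hx)]
      exact huH.mem (hαH x hx)
    refine Set.Subset.antisymm ?_ fun y hy => ?_
    · rintro _ ⟨y, hy, rfl⟩
      exact hmem y hy
    · exact surjOn_of_card_le hH'n.1 (hm.1.injOn.mono fun _ hx => hH'X hx) hmem le_rfl y hy
  have hN := isNormalizerSystem_normalizerSystem (F := F) H' hH'n.1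
  have hmN : IsMap (normalizerSystem F H' hH'n.1) X' (autFun (a' : MulAut X')) :=
    (IsNormalizerSystem.isMap_iff hN).mpr ⟨hm.1, hX'N, fun x hx => hX'N (hm.mem hx),
      autFun (a' : MulAut X'), hm.1.mono (sup_le le_rfl hH'X), fun _ _ => rfl, himg⟩
  obtain ⟨-, g, hg, hge⟩ := isMap_inner_iff.mp
    (hmN.of_subset (h.inner H' hH'n ((isConj_card hH').symm.trans hd) _ hN X').subset)
  have hind : (a' : MulAut X') ∈ autInducedBy S X' :=
    mem_autInducedBy.mpr ⟨g, hg.1, fun x => by rw [← autFun_coe]; exact hge x x.2⟩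
  have hp : IsPGroup p (autInducedBy S X') :=
    range_conjAutHom S X' ▸ (h.pgroup.to_le (Fusion.normalizerIn_le S X')).of_surjective _
      (conjAutHom S X').rangeRestrict_surjective
  obtain ⟨j, hj⟩ := hp ⟨_, hind⟩
  have h1 : orderOf α = 1 := by
    refine Nat.eq_one_of_dvd_coprimes (hc.pow_right j) dvd_rfl ?_
    refine orderOf_dvd_of_pow_eq_one ?_
    have h2 : a' ^ p ^ j = 1 := Subtype.ext (by simpa using congrArg Subtype.val hj)
    rw [ha', ← map_pow, MulEquiv.map_eq_one_iff] at h2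
    exact congrArg Subtype.val h2
  exact orderOf_eq_one_iff.mp h1

/-- Above order `d` there are no automorphisms of order prime to `p`. -/
theorem Hyp.eq_one_of_card (h : Hyp F p d) {X : Subgroup Ω} (hX : X ≤ S) (hd : d ≤ Nat.card X)
    {α : MulAut X} (hα : α ∈ F.autGroup X) (hc : (orderOf α).Coprime p) : α = 1 := by
  haveI : Finite X := finite_of_le hX
  by_contra hne
  have hfix : ∀ Z, Inv X α Z → Nat.card Z ≠ d := fun Z hZ hcard => hne (h.eq_one_of_stab hcard hZ.1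
    (fun g hg => ⟨hX hg, hZ.2.1 hg⟩) hα hc hZ.2.2)
  have hbot : Inv X α ⊥ := by
    have := (Inv.of_closed hX hα (closed_bot (F := F)))
    rwa [bot_inf_eq] at this
  have hfin : {Z : Subgroup Ω | Z ≤ S}.Finite := Fusion91.finite_subgroups_le
  obtain ⟨k, hk⟩ := h.ispow
  obtain ⟨A, ⟨hA, hAd⟩, hAmax⟩ := (hfin.subset (fun Z hZ => hZ.1.1.trans hX :
    {Z : Subgroup Ω | Inv X α Z ∧ Nat.card Z ≤ d} ⊆ _)).exists_maximal
    ⟨⊥, hbot, by rw [Subgroup.card_bot, hk]; exact Nat.one_le_pow _ _ (Fact.out : p.Prime).pos⟩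
  have hAd' : Nat.card A < d := lt_of_le_of_ne hAd (hfix A hA)
  have hXi : Inv X α X := ⟨le_rfl, X.le_normalizer, fun x hx => ((mem_autGroup hX).mp hα).mem hx⟩
  obtain ⟨B, ⟨hB, hAB⟩, hBmin⟩ := (hfin.subset (fun Z hZ => hZ.1.1.trans hX :
    {Z : Subgroup Ω | Inv X α Z ∧ A < Z} ⊆ _)).exists_minimal
    ⟨X, hXi, lt_of_le_of_ne hA.1 fun he => absurd (he ▸ hAd') (not_lt.mpr hd)⟩
  have hBd : d < Nat.card B := by
    by_contra hle
    exact hAB.not_ge (hAmax ⟨hB, not_lt.mp hle⟩ hAB.le)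
  obtain ⟨Q, hAQ, hQB, hQN, hQd⟩ := exists_between (h.pgroup.to_le hX) _ A B hAB.le hB.1 hA.2.1 hB.2.1
    (hk ▸ hAd) (hk ▸ hBd.le) le_rfl
  rw [← hk] at hQd
  obtain ⟨P, hP, hQP, hQiP⟩ := h.weak Q ((hQB.trans hB.1).trans hX) hQd
  have hPB : Inv X α (P ⊓ B) := by
    have := (Inv.of_closed hX hα hP).inf hB
    rwa [inf_assoc, inf_eq_right.mpr hB.1] at this
  have hQS : Q ≤ S := (hQB.trans hB.1).trans hX
  by_cases hle : P ⊓ B ≤ A
  · refine hfix Q ?_ hQd
    have := (Inv.of_closed hX hα hQP).inf hB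
    rwa [inf_assoc, inf_eq_right.mpr hB.1, show (Q ⊔ P) ⊓ B = Q from le_antisymm (fun z ⟨hz, hzB⟩ => by
      obtain ⟨q, hq, t, ht, rfl⟩ := mem_sup_closed hP hQS hz
      refine Q.mul_mem hq (hAQ (hle ⟨ht, ?_⟩))
      simpa using B.mul_mem (B.inv_mem (hQB hq)) hzB) (le_inf le_sup_left hQB)] at this
  · have hnew : Inv X α (A ⊔ P ⊓ B) := hA.sup hX hα hPB
    have hle' : A ⊔ P ⊓ B ≤ B := sup_le hAB.le inf_le_right
    have heq : B ≤ A ⊔ P ⊓ B := hBmin ⟨hnew, lt_of_le_of_ne le_sup_left fun he =>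
      hle (le_sup_right.trans he.ge)⟩ hle'
    have hQPi : Inv X α (Q ⊓ P) := by
      have := Inv.of_closed hX hα hQiP
      rwa [inf_eq_left.mpr (inf_le_left.trans (hQB.trans hB.1))] at this
    refine hfix Q ?_ hQd
    rw [show Q = A ⊔ Q ⊓ P from le_antisymm (fun z hz => ?_) (sup_le hAQ inf_le_left)]
    · exact hA.sup hX hα hQPi
    · have hz' := heq (hQB hz)
      have hcoe := Subgroup.coe_mul_of_left_le_normalizer_right A (P ⊓ B)
        (hA.1.trans hPB.2.1)
      rw [← SetLike.mem_coe, hcoe] at hz'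
      obtain ⟨a, ha, t, ht, rfl⟩ := hz'
      refine Subgroup.mul_mem_sup ha ⟨?_, ht.1⟩
      simpa using Q.mul_mem (Q.inv_mem (hAQ ha)) hz

/-- A strongly closed subgroup of order at least `d` contains the hyperfocal subgroup. -/
theorem Hyp.hyperfocal_le (h : Hyp F p d) {Z : Subgroup Ω} (hZ : F.StronglyClosed Z)
    (hd : d ≤ Nat.card Z) : F.hyperfocalSubgroup p ≤ Z := by
  refine hyperfocal_le_of fun P hP α hα hc x => ?_
  obtain ⟨β, hβ, hβc, hβm⟩ := exists_aut_mod h.pgroup h.sat hZ hP hα hc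
  have hM : P ⊔ Z ≤ S := sup_le hP hZ.1
  haveI : Finite ↥(P ⊔ Z) := finite_of_le hM
  have h1 := h.eq_one_of_card hM (hd.trans (Subgroup.card_le_of_le le_sup_right)) hβ hβc
  have h2 := hβm x x.2
  rw [h1, MulAut.one_apply] at h2
  have := Z.inv_mem h2
  simpa using this

/-- The hyperfocal subgroup has order at most `d`. -/
theorem Hyp.card_hyperfocal_le (h : Hyp F p d) : Nat.card (F.hyperfocalSubgroup p) ≤ d := by
  set H := F.hyperfocalSubgroup p with hH
  have hHc : F.StronglyClosed H :=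
    stronglyClosed_iff.mpr ⟨Fusion.hyperfocal_le, fun R f hf x hx hxH =>
      (Fus93.hyperfocal_stronglyClosed h.pgroup h.sat hf x hx).mp hxH⟩
  by_contra hlt
  rw [not_le] at hlt
  obtain ⟨k, hk⟩ := h.ispow
  have hfin : {Z : Subgroup Ω | Z ≤ S}.Finite := Fusion91.finite_subgroups_le
  obtain ⟨W, ⟨hW, hWH, hWd⟩, hWmax⟩ := (hfin.subset (fun Z hZ => hZ.1.1 :
    {Z : Subgroup Ω | F.StronglyClosed Z ∧ Z ≤ H ∧ Nat.card Z ≤ d} ⊆ _)).exists_maximal
    ⟨⊥, closed_bot, bot_le, by rw [Subgroup.card_bot, hk]; exact Nat.one_le_pow _ _ (Fact.out : p.Prime).pos⟩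
  have hWd' : Nat.card W < d := by
    refine lt_of_le_of_ne hWd fun he => ?_
    have hle : H ≤ W := h.hyperfocal_le hW he.ge
    haveI : Finite W := finite_of_le hW.1
    exact absurd (Subgroup.card_le_of_le hle) (not_le.mpr (by omega))
  obtain ⟨Y, ⟨hY, hWY, hYH⟩, hYmin⟩ := (hfin.subset (fun Z hZ => hZ.1.1 :
    {Z : Subgroup Ω | F.StronglyClosed Z ∧ W < Z ∧ Z ≤ H} ⊆ _)).exists_minimal
    ⟨H, hHc, lt_of_le_of_ne hWH fun he => absurd (he ▸ hWd') (not_lt.mpr hlt.le), le_rfl⟩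
  have hYd : d < Nat.card Y := by
    by_contra hle
    exact hWY.not_ge (hWmax ⟨hY, hYH, not_lt.mp hle⟩ hWY.le)
  haveI : Finite Y := finite_of_le hY.1
  obtain ⟨Q, hWQ, hQY, hQN, hQd⟩ := exists_between (h.pgroup.to_le hY.1) _ W Y hWY.le le_rfl
    (hY.1.trans (le_normalizer_closed hW)) Y.le_normalizer (hk ▸ hWd) (hk ▸ hYd.le) le_rfl
  rw [← hk] at hQd
  have hQS : Q ≤ S := hQY.trans hY.1
  haveI : Finite Q := finite_of_le hQS
  obtain ⟨P, hP, hQP, hQiP⟩ := h.weak Q hQS hQd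
  have hnot : ¬ F.StronglyClosed Q := fun hc => by
    rcases eq_or_lt_of_le hWQ with he | hl
    · exact absurd (he ▸ hQd) hWd'.ne
    · have := hYmin ⟨hc, hl, hQY.trans hYH⟩ hQY
      exact absurd (Subgroup.card_le_of_le this) (by rw [hQd]; omega)
  by_cases hle : P ⊓ Y ≤ W
  · refine hnot ?_
    rw [show Q = (Q ⊔ P) ⊓ Y from le_antisymm (le_inf le_sup_left hQY) fun z ⟨hz, hzY⟩ => by
      obtain ⟨q, hq, t, ht, rfl⟩ := mem_sup_closed hP hQS hz
      refine Q.mul_mem hq (hWQ (hle ⟨ht, ?_⟩))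
      simpa using Y.mul_mem (Y.inv_mem (hQY hq)) hzY]
    exact closed_inf hQP hY
  · have hnew := stronglyClosed_sup h.pgroup h.sat hW (closed_inf hP hY)
    have heq : Y ≤ W ⊔ P ⊓ Y := hYmin ⟨hnew, lt_of_le_of_ne le_sup_left fun he =>
      hle (le_sup_right.trans he.ge), sup_le hWH (inf_le_right.trans hYH)⟩
      (sup_le hWY.le inf_le_right)
    refine hnot ?_
    rw [show Q = W ⊔ Q ⊓ P from le_antisymm (fun z hz => by
      obtain ⟨a, ha, t, ht, rfl⟩ := mem_sup_closed (closed_inf hP hY) hW.1 (heq (hQY hz))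
      refine Subgroup.mul_mem_sup ha ⟨?_, ht.1⟩
      simpa using Q.mul_mem (Q.inv_mem (hWQ ha)) hz) (sup_le hWQ inf_le_left)]
    exact stronglyClosed_sup h.pgroup h.sat hW hQiP

end Cfsg.Agent.Fusion92.WeakEmbed
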