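import Cfsg.Agent.Fusion92.WeakEmbed

set_option autoImplicit false
set_option linter.style.haveILetI false

/-!
The nilpotency criterion through weakly embedded subgroups: the chief factor below the hyperfocal
subgroup.
-/

namespace Cfsg.Agent.Fusion92.WeakEmbed

open Cfsg Cfsg.Agent.Fusion Cfsg.Agent.FusTransfer
open Cfsg.FusionSystem (normalizerIn centralizerIn)
open scoped commutatorElement

universe u

variable {Ω : Type u} [Group Ω] {S : Subgroup Ω} [Finite S] {F : Cfsg.FusionSystem S} {p d : ℕ}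
  [Fact p.Prime]

theorem hyperfocal_closed (hS : IsPGroup p S) (hF : F.IsSaturated p) :
    F.StronglyClosed (F.hyperfocalSubgroup p) :=
  stronglyClosed_iff.mpr ⟨Fusion.hyperfocal_le, fun _ _ hf x hx hxH =>
    (Fus93.hyperfocal_stronglyClosed hS hF hf x hx).mp hxH⟩

/-- Below the hyperfocal subgroup some automorphism of order prime to `p` is not trivial modulo a
proper strongly closed subgroup. -/
theorem exists_moved (hS : IsPGroup p S) (hF : F.IsSaturated p) {L : Subgroup Ω}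
    (hL : F.StronglyClosed L) (hne : ¬ F.hyperfocalSubgroup p ≤ L) :
    ∃ P : Subgroup Ω, P ≤ S ∧ ∃ α ∈ F.autGroup P, (orderOf α).Coprime p ∧
      ∃ v : P, (v : Ω) ∈ F.hyperfocalSubgroup p ∧ ((v⁻¹ * α v : P) : Ω) ∉ L := by
  by_contra hno
  refine hne (hyperfocal_le_of fun P hP α hα hc x => mem_of_two_step hS hL hP hα hc x ?_)
  by_contra hv
  exact hno ⟨P, hP, α, hα, hc, x⁻¹ * α x, disp_mem_hyperfocal hP hα hc x, hv⟩

/-- Strongly closed subgroups meeting the hyperfocal subgroup inside `L` have product doing so. -/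
theorem inf_sup_le (hS : IsPGroup p S) (hF : F.IsSaturated p) {L T P : Subgroup Ω}
    (hL : F.StronglyClosed L) (hLH : L < F.hyperfocalSubgroup p)
    (hchief : ∀ Z, F.StronglyClosed Z → L ≤ Z → Z ≤ F.hyperfocalSubgroup p →
      Z = L ∨ Z = F.hyperfocalSubgroup p)
    (hT : F.StronglyClosed T) (hLT : L ≤ T) (hTH : T ⊓ F.hyperfocalSubgroup p ≤ L)
    (hP : F.StronglyClosed P) (hPH : P ⊓ F.hyperfocalSubgroup p ≤ L) :
    (T ⊔ P) ⊓ F.hyperfocalSubgroup p ≤ L := by
  set H := F.hyperfocalSubgroup p with hH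
  have hTP := stronglyClosed_sup hS hF hT hP
  rcases hchief _ (closed_inf hTP (hyperfocal_closed hS hF)) (le_inf (hLT.trans le_sup_left) hLH.le)
      inf_le_right with h | h
  · exact h.le
  exfalso
  obtain ⟨E, hE, α, hα, hc, v, hvH, hv⟩ := exists_moved hS hF hL hLH.not_ge
  apply hv
  have hvTP : (v : Ω) ∈ P ⊔ T := sup_comm T P ▸ (h.ge hvH).1
  obtain ⟨q, hq, t, ht, hvqt⟩ := mem_sup_closed hT hP.1 hvTP
  obtain ⟨β, hβ, hβc, hβm⟩ := exists_aut_mod hS hF hT hE hα hc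
  have hM : E ⊔ T ≤ S := sup_le hE hT.1
  have hqM : q ∈ E ⊔ T := by
    rw [show q = (v : Ω) * t⁻¹ by rw [hvqt, mul_inv_cancel_right]]
    exact Subgroup.mul_mem _ (Subgroup.mem_sup_left v.2) (Subgroup.inv_mem _ (Subgroup.mem_sup_right ht))
  have hbi := ((mem_autGroup hM).mp hβ).1
  have hd1 := disp_mem_hyperfocal hM hβ hβc ⟨q, hqM⟩
  have hd2 := disp_mem_hyperfocal hM hβ hβc ⟨t, Subgroup.mem_sup_right ht⟩
  have hb : ∀ (z : Ω) (hz : z ∈ E ⊔ T), ((β ⟨z, hz⟩ : ↥(E ⊔ T)) : Ω) = autFun β z := fun z hz =>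
    (autFun_of_mem β hz).symm
  simp only [Subgroup.coe_mul, Subgroup.coe_inv, hb] at hd1 hd2
  have hq1 : q⁻¹ * autFun β q ∈ L :=
    hPH ⟨P.mul_mem (P.inv_mem hq) (closed_apply hP hbi hqM hq), hd1⟩
  have ht1 : t⁻¹ * autFun β t ∈ L :=
    hTH ⟨T.mul_mem (T.inv_mem ht) (closed_apply hT hbi (Subgroup.mem_sup_right ht) ht), hd2⟩
  have hv1 : (v : Ω)⁻¹ * autFun β v ∈ L := by
    rw [hvqt, hbi.map_mul hqM (Subgroup.mem_sup_right ht)]
    have h1 := closed_sdiv hL (S.inv_mem (hT.1 ht)) hq1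
    have := L.mul_mem h1 ht1
    simpa [mul_assoc] using this
  have hm := hβm v v.2
  rw [Subtype.coe_eta, hb] at hm
  have hvH1 : (v : Ω)⁻¹ * (α v : Ω) ∈ H := by
    have := disp_mem_hyperfocal hE hα hc v
    simpa using this
  have hm2 : ((α v : E) : Ω)⁻¹ * autFun β v ∈ L := hTH ⟨hm, by
    have := H.mul_mem (H.inv_mem hvH1) (hLH.le hv1)
    simpa [mul_assoc] using this⟩
  have := L.mul_mem hv1 (L.inv_mem hm2)
  simpa [mul_assoc] using this

/-- A normal subgroup of `S` containing `T`, supplementing and not containing the hyperfocal subgroup. -/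
theorem exists_supplement (hS : IsPGroup p S) (hF : F.IsSaturated p) {T : Subgroup Ω}
    (hT : F.StronglyClosed T) (hne : ¬ F.hyperfocalSubgroup p ≤ T) :
    ∃ K : Subgroup S, T.subgroupOf S ≤ K ∧ ¬ (F.hyperfocalSubgroup p).subgroupOf S ≤ K ∧
      ∀ s : S, ∃ h ∈ (F.hyperfocalSubgroup p).subgroupOf S, h⁻¹ * s ∈ K := by
  set H' := (F.hyperfocalSubgroup p).subgroupOf S with hH'
  haveI hTn : (T.subgroupOf S).Normal := ⟨fun n hn g => Subgroup.mem_subgroupOf.mpr
    (closed_sdiv hT g.2 (Subgroup.mem_subgroupOf.mp hn))⟩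
  obtain ⟨E, hE⟩ := Fusion91.exists_factor_mk' F hT
  set θ := QuotientGroup.mk' (T.subgroupOf S) with hθ
  have hEs : E.IsSaturated p := Fusion91.isSaturated_image hS hF (S5134.result p hS F hF T hT θ E hE)
  have hhyp : E.hyperfocalSubgroup p = H'.map θ := S5256.result p hS F hF T hT θ E hE
  have hp : IsPGroup p (⊤ : Subgroup (S ⧸ T.subgroupOf S)) := (hS.to_quotient _).to_subgroup _
  set θ' : S →* (⊤ : Subgroup (S ⧸ T.subgroupOf S)) := θ.codRestrict ⊤ (fun _ => trivial) with hθ'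
  set T'' := (E.hyperfocalSubgroup p).subgroupOf (⊤ : Subgroup (S ⧸ T.subgroupOf S)) with hT''
  haveI : T''.Normal :=
    ⟨fun _ hn g => (Subgroup.mem_normalizer_iff.1 (hyperfocal_normalizer g.2) _).1 hn⟩
  obtain ⟨m, hm, μ, hμ⟩ := exists_hyperfocal_extension (F := E) (T := T'')
    (M := ⁅T'', ⊤⁆) p hp hEs hT'' (Subgroup.commutator_le_left _ _) le_rfl
  have hmap : ∀ h ∈ H', θ' h ∈ T'' := fun h hh => Subgroup.mem_subgroupOf.mpr (hhyp ▸ ⟨h, hh, rfl⟩)
  have hlift : ∀ t ∈ T'', ∃ h ∈ H', θ' h = t := fun t ht => by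
    rw [hT'', Subgroup.mem_subgroupOf, hhyp] at ht
    obtain ⟨h, hh, he⟩ := ht
    exact ⟨h, hh, Subtype.ext he⟩
  have hA : IsPGroup p (tbar T'' ⁅T'', ⊤⁆) := (hp.to_quotient _).to_subgroup _
  refine ⟨(μ.comp θ').ker, fun t ht => ?_, fun hle => ?_, fun s => ?_⟩
  · rw [MonoidHom.mem_ker, MonoidHom.comp_apply,
      show θ' t = 1 from Subtype.ext ((QuotientGroup.eq_one_iff t).mpr ht), map_one]
  · -- the image of the hyperfocal subgroup is not trivial
    have hsub : T'' ≤ ⁅T'', ⊤⁆ := by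
      intro t ht
      obtain ⟨h, hh, rfl⟩ := hlift t ht
      have h1 : μ (θ' h) = 1 := hle hh
      have h2 := hμ _ ht
      rw [h1, Subgroup.coe_one] at h2
      obtain ⟨j, hj⟩ := hp.to_quotient ⁅T'', ⊤⁆ (QuotientGroup.mk' _ (θ' h))
      exact (QuotientGroup.eq_one_iff _).mp (orderOf_eq_one_iff.mp (Nat.eq_one_of_dvd_coprimes
        (Nat.Coprime.pow_left j ((Fact.out : p.Prime).coprime_iff_not_dvd.mpr hm))
        (orderOf_dvd_of_pow_eq_one hj) (orderOf_dvd_of_pow_eq_one h2.symm)))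
    have hn : ∀ n, T'' ≤ Subgroup.lowerCentralSeries (⊤ : Subgroup (⊤ : Subgroup (S ⧸ T.subgroupOf S))) n := by
      intro n
      induction n with
      | zero => exact le_top
      | succ n ih => exact hsub.trans (Subgroup.commutator_mono ih le_rfl)
    haveI : Group.IsNilpotent (⊤ : Subgroup (S ⧸ T.subgroupOf S)) := hp.isNilpotent
    obtain ⟨n, hn'⟩ := nilpotent_iff_lowerCentralSeries.1
      (inferInstance : Group.IsNilpotent (⊤ : Subgroup (S ⧸ T.subgroupOf S)))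
    refine hne fun x hx => ?_
    have hx' : (⟨x, Fusion.hyperfocal_le hx⟩ : S) ∈ H' := hx
    have h1 := hn' ▸ hn n (hmap _ hx')
    exact Subgroup.mem_subgroupOf.mp
      ((QuotientGroup.eq_one_iff _).mp (congrArg Subtype.val (Subgroup.mem_bot.mp h1)))
  · obtain ⟨⟨_, t, ht, rfl⟩, hb⟩ :=
      (hA.powEquiv' hm).surjective (μ (θ' s))
    obtain ⟨h, hh, rfl⟩ := hlift t ht
    refine ⟨h, hh, ?_⟩
    rw [MonoidHom.mem_ker, map_mul, map_inv, inv_mul_eq_one, MonoidHom.comp_apply, MonoidHom.comp_apply]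
    refine Subtype.ext ?_
    rw [hμ _ ht, ← hb]
    rfl

/-- The chief factor below the hyperfocal subgroup would have order `p`. -/
theorem Hyp.chief_index (h : Hyp F p d) {L : Subgroup Ω}
    (hL : F.StronglyClosed L) (hLH : L < F.hyperfocalSubgroup p)
    (hchief : ∀ Z, F.StronglyClosed Z → L ≤ Z → Z ≤ F.hyperfocalSubgroup p →
      Z = L ∨ Z = F.hyperfocalSubgroup p) : L.relIndex (F.hyperfocalSubgroup p) = p := by
  have hS := h.pgroup
  set H := F.hyperfocalSubgroup p with hH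
  have hHc : F.StronglyClosed H := hyperfocal_closed hS h.sat
  have hfin : {Z : Subgroup Ω | Z ≤ S}.Finite := Fusion91.finite_subgroups_le
  obtain ⟨T, ⟨hT, hLT, hTH⟩, hTmax⟩ := (hfin.subset (fun Z hZ => hZ.1.1 :
    {Z : Subgroup Ω | F.StronglyClosed Z ∧ L ≤ Z ∧ Z ⊓ H ≤ L} ⊆ _)).exists_maximal
    ⟨L, hL, le_rfl, inf_le_left⟩
  have huniv : ∀ P, F.StronglyClosed P → P ⊓ H ≤ L → P ≤ T := fun P hP hPH =>
    le_sup_right.trans (hTmax ⟨stronglyClosed_sup hS h.sat hT hP, hLT.trans le_sup_left,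
      inf_sup_le hS h.sat hL hLH hchief hT hLT hTH hP hPH⟩ le_sup_left)
  have hneT : ¬ H ≤ T := fun hle => hLH.not_ge ((le_inf hle le_rfl).trans hTH)
  obtain ⟨K, hTK, hHK, hKsupp⟩ := exists_supplement hS h.sat hT hneT
  set H' := H.subgroupOf S with hH'
  -- a normal subgroup of order `p d` containing `H`
  obtain ⟨k, hk⟩ := h.ispow
  obtain ⟨n, hn⟩ := IsPGroup.iff_card.mp hS
  have hkn : k < n := (Nat.pow_lt_pow_iff_right (Fact.out : p.Prime).one_lt).mp (hn ▸ hk ▸ h.lt)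
  have hpow : p ^ (k + 1) ≤ Nat.card S := hn ▸ Nat.pow_le_pow_right (Fact.out : p.Prime).pos hkn
  obtain ⟨R, hHR, hRS, hRN, hRd⟩ := exists_between hS _ H S Fusion.hyperfocal_le le_rfl
    (le_normalizer_closed hHc) S.le_normalizer
    ((h.card_hyperfocal_le.trans hk.le).trans (Nat.pow_le_pow_right (Fact.out : p.Prime).pos k.le_succ))
    hpow le_rfl
  haveI : Finite R := finite_of_le hRS
  set K' := (K.map S.subtype).subgroupOf R with hK'
  have hK'ne : K' ≠ ⊤ := fun htop => hHK fun x hx => by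
    have : (⟨(x : Ω), hHR hx⟩ : R) ∈ K' := htop ▸ Subgroup.mem_top _
    obtain ⟨y, hy, hye⟩ := Subgroup.mem_subgroupOf.mp this
    exact (Subtype.ext hye : y = x) ▸ hy
  obtain ⟨Q', hKQ, hQn, hQi⟩ := PGroup.exists_le_index_eq_prime (hS.to_le hRS) hK'ne
  set Q := Q'.map R.subtype with hQ
  have hQR : Q ≤ R := Subgroup.map_subtype_le _
  have hQd : Nat.card Q = d := by
    rw [hQ, Subgroup.card_map_of_injective R.subtype_injective, hk]
    have := Q'.card_mul_index
    rw [hQi, hRd, pow_succ] at this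
    exact Nat.eq_of_mul_eq_mul_right (Fact.out : p.Prime).pos this
  have hKQ' : ∀ x ∈ R, ∀ hx : x ∈ S, (⟨x, hx⟩ : S) ∈ K → x ∈ Q := fun x hxR hx hxK =>
    ⟨⟨x, hxR⟩, hKQ (Subgroup.mem_subgroupOf.mpr ⟨⟨x, hx⟩, hxK, rfl⟩), rfl⟩
  have hTQ : T ⊓ R ≤ Q := fun x hx => hKQ' x hx.2 (hT.1 hx.1) (hTK (Subgroup.mem_subgroupOf.mpr hx.1))
  have hLQ : L ≤ Q := fun x hx => hTQ ⟨hLT hx, hHR (hLH.le hx)⟩
  have hHQ : ¬ H ≤ Q := fun hle => by
    have hRQ : R ≤ Q := fun x hx => by
      obtain ⟨y, hy, hyx⟩ := hKsupp ⟨x, hRS hx⟩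
      have h1 : (y : Ω)⁻¹ * x ∈ Q := hKQ' _ (R.mul_mem (R.inv_mem (hHR hy)) hx) _ hyx
      have := Q.mul_mem (hle hy) h1
      simpa using this
    haveI : Finite Q := finite_of_le (hQR.trans hRS)
    have := Subgroup.card_le_of_le hRQ
    rw [hQd, hRd, hk] at this
    exact absurd this (not_le.mpr (Nat.pow_lt_pow_right (Fact.out : p.Prime).one_lt k.lt_succ_self))
  -- the weak embedding of `Q`
  obtain ⟨P, hP, hQP, hQiP⟩ := h.weak Q (hQR.trans hRS) hQd
  haveI : Finite ↥(Q ⊔ P) := finite_of_le hQP.1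
  have hHQP : H ≤ Q ⊔ P :=
    h.hyperfocal_le hQP (hQd ▸ Subgroup.card_le_of_le le_sup_left)
  have hPnot : ¬ P ⊓ H ≤ L := fun hle => hHQ fun x hx => by
    obtain ⟨q, hq, t, ht, rfl⟩ := mem_sup_closed hP (hQR.trans hRS) (hHQP hx)
    refine Q.mul_mem hq (hTQ ⟨huniv P hP hle ht, ?_⟩)
    simpa using R.mul_mem (R.inv_mem (hQR hq)) (hHR hx)
  have hPH := closed_inf hP hHc
  have hfull : L ⊔ P ⊓ H = H :=
    (hchief _ (stronglyClosed_sup hS h.sat hL hPH) le_sup_left (sup_le hLH.le inf_le_right)).resolve_left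
      fun he => hPnot (le_sup_right.trans he.le)
  have hQH : Q ⊓ H = L := by
    have hclosed : F.StronglyClosed (Q ⊓ H) := by
      rw [show Q ⊓ H = L ⊔ (Q ⊓ P) ⊓ H from le_antisymm (fun z hz => by
        obtain ⟨a, ha, t, ht, rfl⟩ := mem_sup_closed hPH hL.1 (hfull.ge hz.2)
        refine Subgroup.mul_mem_sup ha ⟨⟨?_, ht.1⟩, ht.2⟩
        simpa using Q.mul_mem (Q.inv_mem (hLQ ha)) hz.1)
        (sup_le (le_inf hLQ hLH.le) (le_inf (inf_le_left.trans inf_le_left) inf_le_right))]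
      exact stronglyClosed_sup hS h.sat hL (closed_inf hQiP hHc)
    exact (hchief _ hclosed (le_inf hLQ hLH.le) inf_le_right).resolve_right
      fun he => hHQ (he.ge.trans inf_le_left)
  -- index
  have hsup : Q' ⊔ H.subgroupOf R = ⊤ := by
    refine (PGroup.isCoatom_of_index_prime (hQi ▸ (Fact.out : p.Prime))).2 _
      (lt_of_le_of_ne le_sup_left fun he => hHQ fun x hx => ?_)
    exact ⟨⟨x, hHR hx⟩, he.ge (Subgroup.mem_sup_right (show (⟨x, hHR hx⟩ : R) ∈ H.subgroupOf R from hx)), rfl⟩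
  have h1 : Q'.relIndex (H.subgroupOf R) = p := by
    rw [← Subgroup.relIndex_sup_right, sup_comm, hsup, Subgroup.relIndex_top_right, hQi]
  rw [← hQH, Subgroup.inf_relIndex_right, ← h1, hQ]
  conv_lhs => rw [← Subgroup.map_subgroupOf_eq_of_le hHR]
  exact Subgroup.relIndex_map_map_of_injective _ _ R.subtype_injective

/-- A strongly closed subgroup of index `p` in the hyperfocal subgroup is impossible. -/
theorem Hyp.no_index (h : Hyp F p d) {L : Subgroup Ω}
    (hL : F.StronglyClosed L) (hLH : L < F.hyperfocalSubgroup p)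
    (hidx : L.relIndex (F.hyperfocalSubgroup p) = p) : False := by
  have hS := h.pgroup
  set H := F.hyperfocalSubgroup p with hH
  have hHc : F.StronglyClosed H := hyperfocal_closed hS h.sat
  -- `H/L` is central in `S/L`
  have hcen : ∀ g ∈ S, ∀ v ∈ H, v⁻¹ * (g * v * g⁻¹) ∈ L := by
    haveI hLn : (L.subgroupOf S).Normal := ⟨fun n hn g => Subgroup.mem_subgroupOf.mpr
      (closed_sdiv hL g.2 (Subgroup.mem_subgroupOf.mp hn))⟩
    haveI : (H.subgroupOf S).Normal := ⟨fun n hn g => Subgroup.mem_subgroupOf.mpr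
      (closed_sdiv hHc g.2 (Subgroup.mem_subgroupOf.mp hn))⟩
    set π := QuotientGroup.mk' (L.subgroupOf S)
    haveI : ((H.subgroupOf S).map π).Normal :=
      Subgroup.Normal.map inferInstance π (QuotientGroup.mk'_surjective _)
    have hcard : Nat.card ((H.subgroupOf S).map π) = p := by
      rw [← Subgroup.relIndex_bot_left, ← Subgroup.map_bot π, Subgroup.relIndex_map_map, bot_sup_eq,
        QuotientGroup.ker_mk', sup_eq_left.mpr (fun x hx => hLH.le hx : L.subgroupOf S ≤ H.subgroupOf S),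
        Subgroup.relIndex_subgroupOf Fusion.hyperfocal_le, hidx]
    intro g hg v hv
    have := Subgroup.mem_center_iff.mp (PGroup.le_center_of_card_eq_prime (hS.to_quotient _) hcard
      ⟨⟨v, Fusion.hyperfocal_le hv⟩, hv, rfl⟩) (π ⟨g, hg⟩)
    have h1 : π ((⟨v, Fusion.hyperfocal_le hv⟩ : S)⁻¹ *
        (⟨g, hg⟩ * ⟨v, Fusion.hyperfocal_le hv⟩ * (⟨g, hg⟩ : S)⁻¹)) = 1 := by
      rw [map_mul, map_mul, map_mul, map_inv, map_inv, this]
      group
    exact Subgroup.mem_subgroupOf.mp ((QuotientGroup.eq_one_iff _).mp h1)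
  -- the subgroups with an automorphism moving `H/L`
  let Mov : Subgroup Ω → Prop := fun X => H ≤ X ∧ X ≤ S ∧ ∃ β ∈ F.autGroup X, (orderOf β).Coprime p ∧
    ∃ v ∈ H, v⁻¹ * autFun β v ∉ L
  obtain ⟨E, hE, α, hα, hc, v, hvH, hv⟩ := exists_moved hS h.sat hL hLH.not_ge
  have hmov : Mov (E ⊔ L) := by
    obtain ⟨β, hβ, hβc, hβm⟩ := exists_aut_mod hS h.sat hL hE hα hc
    have hvL : (v : Ω) ∉ L := fun hvL => hv (by
      rw [Subgroup.coe_mul, Subgroup.coe_inv]
      refine L.mul_mem (L.inv_mem hvL) ?_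
      rw [← autFun_coe]
      exact closed_apply hL ((mem_autGroup hE).mp hα).1 v.2 hvL)
    refine ⟨fun x hx => ?_, sup_le hE hL.1, β, hβ, hβc, v, hvH, fun h1 => hv ?_⟩
    · have hd : ((E ⊔ L) ⊓ H).relIndex H = 1 := by
        have hmul := Subgroup.relIndex_mul_relIndex L ((E ⊔ L) ⊓ H) H (le_inf le_sup_right hLH.le) inf_le_right
        rw [hidx] at hmul
        rcases (Nat.dvd_prime (Fact.out : p.Prime)).mp (Dvd.intro_left _ hmul) with h1 | h1
        · exact h1
        · rw [h1] at hmul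
          have h2 : L.relIndex ((E ⊔ L) ⊓ H) = 1 :=
            mul_eq_right₀ (Fact.out : p.Prime).ne_zero |>.mp hmul
          exact absurd (Subgroup.relIndex_eq_one.mp h2 ⟨Subgroup.mem_sup_left v.2, hvH⟩) hvL
      exact (Subgroup.relIndex_eq_one.mp hd hx).1
    · have h2 := hβm v v.2
      rw [Subtype.coe_eta, ← autFun_of_mem β] at h2
      have := L.mul_mem h1 (L.inv_mem h2)
      simpa [mul_assoc] using this
  obtain ⟨X₀, hX₀, hmax⟩ := Set.exists_max_image {X | Mov X} (fun X => Nat.card X)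
    ((Fusion91.finite_subgroups_le (S := S)).subset fun X hX => hX.2.1) ⟨_, hmov⟩
  obtain ⟨hHX₀, hX₀S, β₀, hβ₀, hβ₀c, v₀, hv₀, hv₀m⟩ := hX₀
  -- a fully normalized conjugate
  obtain ⟨X, hXX, hXn⟩ := exists_fullyNormalized (F := F) hX₀S
  obtain ⟨f, hf⟩ := isConj_iff.mp hXX
  haveI : Finite X := finite_of_le hXn.1
  haveI := finite_aut hXn.1
  have hHX : H ≤ X := fun y hy => by
    obtain ⟨x, hx, rfl⟩ := surjOn_of_card_le hHc.1 (hf.1.injOn.mono fun _ hz => hHX₀ hz)
      (fun x hx => closed_apply hHc hf.1 (hHX₀ hx) hx) le_rfl y hy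
    exact hf.mem (hHX₀ hx)
  have hLX₀ : L ≤ X₀ := hLH.le.trans hHX₀
  set b := hf.autEquiv ⟨β₀, hβ₀⟩ with hb
  have hbc : (orderOf b).Coprime p := by
    rw [hb, MulEquiv.orderOf_eq, Subgroup.orderOf_mk]; exact hβ₀c
  -- the automorphisms trivial on `H/L`
  let A := F.autGroup X
  have hval : ∀ (a : A) (y : Ω), y ∈ H → autFun (a : MulAut X) y ∈ H := fun a y hy =>
    closed_apply hHc ((mem_autGroup hXn.1).mp a.2).1 (hHX hy) hy
  let K : Subgroup A :=
    { carrier := {a | ∀ y ∈ H, y⁻¹ * autFun (a : MulAut X) y ∈ L}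
      one_mem' := fun y hy => by
        rw [Subgroup.coe_one, autFun_one (hHX hy)]
        simp
      mul_mem' := fun {a c} ha hc' y hy => by
        rw [Subgroup.coe_mul, autFun_mul _ _ (hHX hy), Function.comp_apply]
        have := L.mul_mem (hc' y hy) (ha _ (hval c y hy))
        simpa [mul_assoc] using this
      inv_mem' := fun {a} ha y hy => by
        have h1 := ha _ (hval a⁻¹ y hy)
        have h2 : autFun (a : MulAut X) (autFun ((a⁻¹ : A) : MulAut X) y) = y := by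
          have := autFun_mul (a : MulAut X) ((a⁻¹ : A) : MulAut X) (hHX hy)
          rw [Function.comp_apply, ← Subgroup.coe_mul, mul_inv_cancel, Subgroup.coe_one,
            autFun_one (hHX hy)] at this
          exact this.symm
        rw [h2] at h1
        have := L.inv_mem h1
        simpa using this }
  haveI hKn : K.Normal := ⟨fun a ha c y hy => by
    have hy' := hval c⁻¹ y hy
    have h1 := ha _ hy'
    have hi := ((mem_autGroup hXn.1).mp c.2).1
    have hy'' : autFun ((c⁻¹ : A) : MulAut X) y ∈ X := hHX hy'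
    have h2 : autFun (c : MulAut X) (autFun ((c⁻¹ : A) : MulAut X) y) = y := by
      have := autFun_mul (c : MulAut X) ((c⁻¹ : A) : MulAut X) (hHX hy)
      rw [Function.comp_apply, ← Subgroup.coe_mul, mul_inv_cancel, Subgroup.coe_one,
        autFun_one (hHX hy)] at this
      exact this.symm
    have h3 := closed_apply hL hi
      (X.mul_mem (X.inv_mem hy'') (hHX (hval a _ hy'))) h1
    rw [hi.map_mul (X.inv_mem hy'') (hHX (hval a _ hy')), hi.map_inv hy'', h2] at h3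
    rw [Subgroup.coe_mul, autFun_mul _ _ (hHX hy), Function.comp_apply, Subgroup.coe_mul,
      autFun_mul _ _ hy'', Function.comp_apply]
    exact h3⟩
  have hbK : b ∉ K := fun hbK => hv₀m (by
    have h1 := hbK (f v₀) (closed_apply hHc hf.1 (hHX₀ hv₀) hv₀)
    rw [autFun_of_mem _ (hf.mem (hHX₀ hv₀)), hb, IsIso.autEquiv_coe,
      show (⟨f v₀, hf.mem (hHX₀ hv₀)⟩ : X) = hf.equiv ⟨v₀, hHX₀ hv₀⟩ from Subtype.ext rfl,
      congr_apply_equiv hf β₀ ⟨v₀, hHX₀ hv₀⟩] at h1
    change (f v₀)⁻¹ * f ((β₀ ⟨v₀, hHX₀ hv₀⟩ : X₀) : Ω) ∈ L at h1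
    rw [autFun_of_mem β₀ (hHX₀ hv₀)]
    have hm : v₀⁻¹ * ((β₀ ⟨v₀, hHX₀ hv₀⟩ : X₀) : Ω) ∈ X₀ :=
      X₀.mul_mem (X₀.inv_mem (hHX₀ hv₀)) (Subtype.mem _)
    obtain ⟨g, hg, hgl, -⟩ := hf.exists_inv
    have h2 := closed_apply hL hg.1 (X.mul_mem (X.inv_mem (hf.mem (hHX₀ hv₀))) (hf.mem (Subtype.mem _))) h1
    rwa [← hf.1.map_inv (hHX₀ hv₀), ← hf.1.map_mul (X₀.inv_mem (hHX₀ hv₀)) (Subtype.mem _), hgl _ hm] at h2)
  obtain ⟨R, hR⟩ := (fullyAutomized_of_fullyNormalized hS h.sat hXn).2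
  have hRK : (R : Subgroup A) ≤ K := by
    rw [hR]
    intro a ha y hy
    obtain ⟨g, hg, hge⟩ := mem_autInducedBy.mp (Subgroup.mem_subgroupOf.mp ha)
    rw [autFun_of_mem _ (hHX hy), hge]
    exact hcen g hg y hy
  obtain ⟨γ, hγ, hγK⟩ : ∃ γ ∈ Subgroup.normalizer ((R : Subgroup A) : Set A), γ ∉ K := by
    by_contra hno
    have hle : Subgroup.normalizer ((R : Subgroup A) : Set A) ⊔ K ≤ K :=
      sup_le (fun γ hγ => by_contra fun hγK => hno ⟨γ, hγ, hγK⟩) le_rfl
    exact hbK (hle ((Sylow.normalizer_sup_eq_top' R hRK).ge (Subgroup.mem_top b)))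
  set N := normalizerIn S X with hN
  have hNS : N ≤ S := Fusion.normalizerIn_le S X
  have hXN : X ≤ N := Fusion.le_normalizerIn hXn.1
  have hiso := (mem_autGroup hXn.1).mp γ.2
  have hM : IsExtendable S X (autFun (γ : MulAut X)) N := by
    refine ⟨hNS, fun g hg => ⟨hg.2, ?_⟩⟩
    rw [← congr_autInducedBy_mem hiso hg]
    have hind : conjAutHom S X ⟨g, hg⟩ ∈ autInducedBy S X := by
      rw [← range_conjAutHom]; exact ⟨_, rfl⟩
    have hgR : (⟨_, autInducedBy_le_autGroup hXn.1 hind⟩ : A) ∈ (R : Subgroup A) := by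
      rw [hR]; exact Subgroup.mem_subgroupOf.mpr hind
    have h1 := (Subgroup.mem_normalizer_iff.mp hγ _).mp hgR
    rw [hR] at h1
    have e : hiso.equiv = (γ : MulAut X) := MulEquiv.ext fun x => Subtype.ext (by
      rw [hiso.equiv_apply, autFun_coe])
    rw [e]
    exact h1
  obtain ⟨f', hf', he⟩ := receptive_extend (receptive_of_fullyNormalized hS h.sat hXn) hiso hM
  have hfN : IsMap F N f' := hf'.mono le_sup_right
  have hmemN : ∀ g ∈ N, f' g ∈ N := fun g hg =>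
    Fusion.map_mem_normalizer hf' le_sup_left ((Set.image_congr he).trans hiso.2) (le_sup_right (a := X) hg) hg.2
  have hNiso : IsIso F N N f' := ⟨hfN, Set.Subset.antisymm
    (by rintro _ ⟨x, hx, rfl⟩; exact hmemN x hx)
    fun y hy => surjOn_of_card_le hNS hfN.injOn hmemN le_rfl y hy⟩
  obtain ⟨δ, hδ, hδe⟩ := hNiso.exists_aut
  haveI : Finite N := finite_of_le hNS
  haveI := finite_aut hNS
  obtain ⟨a, ha⟩ := exists_coprime_power (p := p) δ
  have hiter : ∀ (i : ℕ) (y : Ω), y ∈ H → autFun (δ ^ i) y = autFun ((γ ^ i : A) : MulAut X) y := by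
    intro i
    induction i with
    | zero =>
      intro y hy
      rw [pow_zero, pow_zero, Subgroup.coe_one, autFun_one (hHX hy), autFun_one (hXN (hHX hy))]
    | succ i ih =>
      intro y hy
      have hy' := hval (γ ^ i) y hy
      rw [pow_succ', pow_succ', Subgroup.coe_mul, autFun_mul _ _ (hHX hy), autFun_mul _ _ (hXN (hHX hy)),
        Function.comp_apply, Function.comp_apply, ih y hy, hδe (hXN (hHX hy')), he (hHX hy')]
  have hγpK : γ ^ p ^ a ∉ K := fun hp' => hγK (by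
    have h1 : (QuotientGroup.mk' K γ) ^ p ^ a = 1 := by
      rw [← map_pow]; exact (QuotientGroup.eq_one_iff _).mpr hp'
    have h2 : ¬ p ∣ Nat.card (A ⧸ K) := fun hd => by
      rw [← Subgroup.index_eq_card] at hd
      exact R.not_dvd_index (hd.trans (Subgroup.index_dvd_of_le hRK))
    have h3 : orderOf (QuotientGroup.mk' K γ) = 1 :=
      Nat.eq_one_of_dvd_coprimes (Nat.Coprime.pow_left a ((Fact.out : p.Prime).coprime_iff_not_dvd.mpr h2))
        (orderOf_dvd_of_pow_eq_one h1) (orderOf_dvd_natCard _)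
    exact (QuotientGroup.eq_one_iff γ).mp (orderOf_eq_one_iff.mp h3))
  obtain ⟨w, hw, hwL⟩ : ∃ w ∈ H, w⁻¹ * autFun ((γ ^ p ^ a : A) : MulAut X) w ∉ L := by
    by_contra hno
    exact hγpK fun y hy => by_contra fun hy' => hno ⟨y, hy, hy'⟩
  rw [← hiter _ w hw] at hwL
  have hNmov : Mov N := ⟨hHX.trans hXN, hNS, δ ^ p ^ a, Subgroup.pow_mem _ hδ _, ha, w, hw, hwL⟩
  rcases hXn.1.eq_or_lt with hXS | hlt
  · -- `X = S` would have an automorphism of order prime to `p`
    have := h.eq_one_of_card hXn.1 (hXS ▸ h.lt.le) b.2 (by rw [Subgroup.orderOf_coe]; exact hbc)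
    exact hbK (by rw [show b = 1 from Subtype.ext this]; exact K.one_mem)
  · have h1 := hmax N hNmov
    haveI : Finite (normalizerIn S X) := finite_of_le hNS
    have h2 : Nat.card X < Nat.card N := by
      by_contra hle
      exact (lt_normalizerIn hS hlt).ne
        (Subgroup.eq_of_le_of_card_ge (lt_normalizerIn hS hlt).le (not_lt.mp hle))
    have h3 := isConj_card hXX
    omega

/-- The hyperfocal subgroup is trivial. -/
theorem Hyp.hyperfocal_eq_bot (h : Hyp F p d) : F.hyperfocalSubgroup p = ⊥ := by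
  by_contra hne
  set H := F.hyperfocalSubgroup p with hH
  obtain ⟨L, ⟨hL, hLH⟩, hLmax⟩ := ((Fusion91.finite_subgroups_le (S := S)).subset (fun Z hZ => hZ.1.1 :
    {Z : Subgroup Ω | F.StronglyClosed Z ∧ Z < H} ⊆ _)).exists_maximal
    ⟨⊥, closed_bot, bot_lt_iff_ne_bot.mpr hne⟩
  have hchief : ∀ Z, F.StronglyClosed Z → L ≤ Z → Z ≤ H → Z = L ∨ Z = H := fun Z hZ h1 h2 =>
    (eq_or_lt_of_le h2).elim Or.inr fun h3 => Or.inl (le_antisymm (hLmax ⟨hZ, h3⟩ h1) h1)
  exact h.no_index hL hLH (h.chief_index hL hLH hchief)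

/-- The system is inner. -/
theorem Hyp.eq_inner (h : Hyp F p d) : F = Cfsg.innerFusionSystem S := by
  refine S5083.result p h.pgroup F h.sat fun P hP => ?_
  haveI : Finite P := finite_of_le hP
  haveI := Fusion92.finite_autGroup F P
  refine IsPGroup.iff_orderOf.mpr fun k => ?_
  obtain ⟨a, ha⟩ := exists_coprime_power (p := p) k
  have h1 : k ^ p ^ a = 1 := Subtype.ext (MulEquiv.ext fun x => by
    have := disp_mem_hyperfocal hP (k ^ p ^ a).2 (by rw [Subgroup.orderOf_coe]; exact ha) x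
    rw [h.hyperfocal_eq_bot, Subgroup.mem_bot, OneMemClass.coe_eq_one, inv_mul_eq_one] at this
    exact this.symm)
  obtain ⟨j, -, hj⟩ := (Nat.dvd_prime_pow (Fact.out : p.Prime)).mp (orderOf_dvd_of_pow_eq_one h1)
  exact ⟨j, hj⟩

end Cfsg.Agent.Fusion92.WeakEmbed
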